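import Cfsg.Agent.Lib.Helper32.Ortho

set_option autoImplicit false
set_option linter.unusedSectionVars false

namespace Cfsg.Agent.Lib.Helper32

open Cfsg Cfsg.Agent.Lib.Helper20
open scoped ComplexConjugate

universe u v w

section Weighted

variable {G : Type u} [Group G] [Fintype G] {ι : Type w}

/-- orthogonal family with prescribed nonzero square norms -/
def OrthoW (s : Finset ι) (e : ι → G → ℂ) (wt : ι → ℂ) : Prop :=
  (∀ i ∈ s, classInner (e i) (e i) = wt i ∧ wt i ≠ 0) ∧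
    ∀ i ∈ s, ∀ j ∈ s, i ≠ j → classInner (e i) (e j) = 0

noncomputable def projW (s : Finset ι) (e : ι → G → ℂ) (wt : ι → ℂ) (v : G → ℂ) : G → ℂ :=
  ∑ i ∈ s, (classInner v (e i) / wt i) • e i

theorem OrthoW.inner_projW_mem {s : Finset ι} {e : ι → G → ℂ} {wt : ι → ℂ} (h : OrthoW s e wt)
    (v : G → ℂ) {j : ι} (hj : j ∈ s) : classInner (projW s e wt v) (e j) = classInner v (e j) := by
  unfold projW
  rw [classInner_sum_left, Finset.sum_eq_single j]
  · rw [classInner_smul_left, (h.1 j hj).1, div_mul_cancel₀ _ (h.1 j hj).2]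
  · intro i hi hij
    rw [classInner_smul_left, h.2 i hi j hj hij, mul_zero]
  · intro h'; exact absurd hj h'

theorem OrthoW.inner_sub_projW_mem {s : Finset ι} {e : ι → G → ℂ} {wt : ι → ℂ}
    (h : OrthoW s e wt) (v : G → ℂ) {j : ι} (hj : j ∈ s) :
    classInner (v - projW s e wt v) (e j) = 0 := by
  rw [classInner_sub_left, h.inner_projW_mem v hj, sub_self]

theorem OrthoW.inner_right_projW {s : Finset ι} {e : ι → G → ℂ} {wt : ι → ℂ}
    (v w : G → ℂ) : classInner v (projW s e wt w) =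
      ∑ i ∈ s, conj (classInner w (e i) / wt i) * classInner v (e i) := by
  unfold projW
  rw [classInner_sum_right]
  simp only [classInner_smul_right]

theorem OrthoW.pythagoras {s : Finset ι} {e : ι → G → ℂ} {wt : ι → ℂ} (h : OrthoW s e wt)
    (v : G → ℂ) :
    classInner v v = ∑ i ∈ s, classInner v (e i) * conj (classInner v (e i) / wt i) +
      classInner (v - projW s e wt v) (v - projW s e wt v) := by
  have h1 : v = projW s e wt v + (v - projW s e wt v) := by abel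
  have h2 : classInner (v - projW s e wt v) (projW s e wt v) = 0 := by
    rw [OrthoW.inner_right_projW]
    apply Finset.sum_eq_zero
    intro i hi
    rw [h.inner_sub_projW_mem v hi, mul_zero]
  have h3 : classInner (projW s e wt v) (projW s e wt v) =
      ∑ i ∈ s, classInner v (e i) * conj (classInner v (e i) / wt i) := by
    rw [OrthoW.inner_right_projW]
    apply Finset.sum_congr rfl
    intro i hi
    rw [h.inner_projW_mem v hi, mul_comm]
  conv_lhs => rw [h1]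
  rw [classInner_add_left, classInner_add_right, classInner_add_right, h3, h2,
    classInner_eq_zero_symm h2]
  ring

end Weighted

section Char

variable {G : Type u} [Group G] [Finite G]

theorem char_eq_zero_of_one {χ : G → ℂ} (h : IsCharacter G χ) (h1 : χ 1 = 0) : χ = 0 := by
  ext g
  have := isCharacter_norm_le h g
  rw [h1] at this
  simpa using this

end Char

section CS

variable {L : Type u} [Group L] [Fintype L] {G : Type v} [Group G] [Fintype G]
variable {S : Set (L → ℂ)} {τ : (L → ℂ) → (G → ℂ)} {R : (L → ℂ) → Finset (G → ℂ)}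

theorem cs_ne_zero (hS : IsCoherenceSystem S τ R) {ξ : L → ℂ} (hξ : ξ ∈ S) : ξ ≠ 0 := by
  rintro rfl
  exact hS.conj_ne 0 hξ conjFun_zero

theorem cs_orthoSet (hS : IsCoherenceSystem S τ R) : OrthoSet S :=
  ⟨hS.orthogonal, fun _ hξ h => cs_ne_zero hS hξ (classInner_self_eq_zero h)⟩

theorem cs_norm (hS : IsCoherenceSystem S τ R) {ξ : L → ℂ} (hξ : ξ ∈ S) :
    ∃ N : ℕ, 0 < N ∧ classInner ξ ξ = N := by
  obtain ⟨N, hN⟩ := isCharacter_classInner_nat' (hS.isCharacter ξ hξ) (hS.isCharacter ξ hξ)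
  refine ⟨N, Nat.pos_of_ne_zero ?_, hN⟩
  rintro rfl
  exact (cs_orthoSet hS).2 ξ hξ (by simpa using hN)

theorem cs_deg (hS : IsCoherenceSystem S τ R) {ξ : L → ℂ} (hξ : ξ ∈ S) :
    ∃ n : ℕ, 0 < n ∧ ξ 1 = n := by
  obtain ⟨n, hn⟩ := isCharacter_apply_one (hS.isCharacter ξ hξ)
  refine ⟨n, Nat.pos_of_ne_zero ?_, hn⟩
  rintro rfl
  exact cs_ne_zero hS hξ (char_eq_zero_of_one (hS.isCharacter ξ hξ) (by simpa using hn))

theorem cs_exists_deg (hS : IsCoherenceSystem S τ R) :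
    ∃ d : (L → ℂ) → ℤ, ∀ ξ ∈ S, ξ 1 = d ξ ∧ 0 < d ξ := by
  have : ∀ ξ ∈ S, ∃ n : ℤ, ξ 1 = n ∧ 0 < n := by
    intro ξ hξ
    obtain ⟨n, hn, h⟩ := cs_deg hS hξ
    exact ⟨n, by simpa using h, by exact_mod_cast hn⟩
  choose! d hd using this
  exact ⟨d, hd⟩

theorem cs_conj_one (hS : IsCoherenceSystem S τ R) {ξ : L → ℂ} (hξ : ξ ∈ S) :
    conjFun ξ 1 = ξ 1 := conjFun_one_of_char (hS.isCharacter ξ hξ)

theorem cs_sub_conj_mem (hS : IsCoherenceSystem S τ R) {ξ : L → ℂ} (hξ : ξ ∈ S) :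
    ξ - conjFun ξ ∈ zspanOn S {1}ᶜ := by
  rw [mem_zspanOn_one]
  refine ⟨Submodule.sub_mem _ (Submodule.subset_span hξ)
    (Submodule.subset_span (hS.conj_mem ξ hξ)), ?_⟩
  rw [Pi.sub_apply, cs_conj_one hS hξ, sub_self]

theorem cs_inner_conj (hS : IsCoherenceSystem S τ R) {ξ : L → ℂ} (hξ : ξ ∈ S) :
    classInner ξ (conjFun ξ) = 0 :=
  hS.orthogonal ξ hξ _ (hS.conj_mem ξ hξ) (hS.conj_ne ξ hξ).symm

theorem cs_inner_conj' (hS : IsCoherenceSystem S τ R) {ξ : L → ℂ} (hξ : ξ ∈ S) :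
    classInner (conjFun ξ) ξ = 0 :=
  hS.orthogonal _ (hS.conj_mem ξ hξ) ξ hξ (hS.conj_ne ξ hξ)

theorem cs_norm_conj (hS : IsCoherenceSystem S τ R) {ξ : L → ℂ} (hξ : ξ ∈ S) :
    classInner (conjFun ξ) (conjFun ξ) = classInner ξ ξ := by
  obtain ⟨N, -, hN⟩ := cs_norm hS hξ
  rw [classInner_conjFun, hN]; simp

theorem cs_orthoN (hS : IsCoherenceSystem S τ R) {ξ : L → ℂ} (hξ : ξ ∈ S) :
    OrthoN (R ξ) (fun α => α) := by
  intro α hα β hβ
  have := hS.orthonormal ξ hξ α hα β hβ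
  refine ⟨fun h => ?_, fun h => ?_⟩
  · rwa [if_pos h] at this
  · rwa [if_neg h] at this

theorem cs_iso (hS : IsCoherenceSystem S τ R) :
    IsLinearIsometryOn ((zspanOnSub S {1}ᶜ : Submodule ℤ (L → ℂ)) : Set (L → ℂ)) τ := hS.isometry

/-- `R φ ⊥ R χ` for `φ ∉ {χ, conj χ}` -/
theorem cs_R_orth (hS : IsCoherenceSystem S τ R) {χ φ : L → ℂ} (hχ : χ ∈ S) (hφ : φ ∈ S)
    (h1 : φ ≠ χ) (h2 : φ ≠ conjFun χ) {α β : G → ℂ} (hα : α ∈ R φ) (hβ : β ∈ R χ) :
    classInner α β = 0 :=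
  hS.disjoint χ hχ φ hφ (hS.orthogonal φ hφ χ hχ h1)
    (hS.orthogonal φ hφ _ (hS.conj_mem χ hχ) h2) α hα β hβ

/-- inner product with `τ (χ - conj χ)` is the sum of the coefficients on `R χ` -/
theorem cs_inner_sum (hS : IsCoherenceSystem S τ R) {χ : L → ℂ} (hχ : χ ∈ S) (v : G → ℂ) :
    classInner v (τ (χ - conjFun χ)) = ∑ α ∈ R χ, classInner v α := by
  rw [hS.sum_eq χ hχ, classInner_sum_right]

end CS

end Cfsg.Agent.Lib.Helper32
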