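import Cfsg.Agent.Lib.Helper32.Coherence

set_option autoImplicit false
set_option linter.unusedSectionVars false

namespace Cfsg.Agent.Lib.Helper32

open Cfsg Cfsg.Agent.Lib.Helper20
open scoped ComplexConjugate

universe u v

section Basic

variable {X : Type u}

theorem conjFun_apply (χ : X → ℂ) (x : X) : conjFun χ x = conj (χ x) := rfl

theorem conjFun_conjFun (χ : X → ℂ) : conjFun (conjFun χ) = χ := by
  ext x; simp [conjFun]

theorem conjFun_sub (χ ψ : X → ℂ) : conjFun (χ - ψ) = conjFun χ - conjFun ψ := by
  ext x; simp [conjFun]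

theorem conjFun_add (χ ψ : X → ℂ) : conjFun (χ + ψ) = conjFun χ + conjFun ψ := by
  ext x; simp [conjFun]

theorem conjFun_neg (χ : X → ℂ) : conjFun (-χ) = -conjFun χ := by
  ext x; simp [conjFun]

theorem conjFun_zero : conjFun (0 : X → ℂ) = 0 := by
  ext x; simp [conjFun]

theorem conjFun_injective : Function.Injective (conjFun : (X → ℂ) → (X → ℂ)) := by
  intro a b h
  rw [← conjFun_conjFun a, h, conjFun_conjFun]

end Basic

section Grp

variable {G : Type u} [Group G]

theorem isCharacter_conjFun [Finite G] {χ : G → ℂ} (h : IsCharacter G χ) :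
    IsCharacter G (conjFun χ) := isCharacter_conj h

theorem conjFun_one_of_char {χ : G → ℂ} (h : IsCharacter G χ) : conjFun χ 1 = χ 1 := by
  obtain ⟨n, hn⟩ := isCharacter_apply_one h
  rw [conjFun_apply, hn]; simp

theorem genChar_conjFun [Finite G] {θ : G → ℂ} (h : IsGeneralizedCharacter G θ) :
    IsGeneralizedCharacter G (conjFun θ) := by
  obtain ⟨a, b, ha, hb, rfl⟩ := h
  exact ⟨conjFun a, conjFun b, isCharacter_conjFun ha, isCharacter_conjFun hb, conjFun_sub a b⟩

variable [Fintype G]

theorem classInner_conjFun (a b : G → ℂ) :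
    classInner (conjFun a) (conjFun b) = conj (classInner a b) := by
  unfold classInner conjFun
  rw [map_mul, map_sum, map_inv₀, Complex.conj_natCast]
  congr 1
  apply Finset.sum_congr rfl
  intro g _
  rw [map_mul]

theorem classInner_conjFun_left (a b : G → ℂ) :
    classInner (conjFun a) b = conj (classInner a (conjFun b)) := by
  rw [← classInner_conjFun, conjFun_conjFun]

theorem isIrr_conjFun {χ : G → ℂ} (h : IsIrrCharacter G χ) : IsIrrCharacter G (conjFun χ) := by
  rw [isIrrCharacter_iff]
  refine ⟨isCharacter_conjFun (isCharacter_of_isIrrCharacter h), ?_⟩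
  rw [classInner_conjFun, classInner_irr_self h]; simp

end Grp

end Cfsg.Agent.Lib.Helper32
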