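import Mathlib
import Cfsg.Prelude.Def_OddOrderChar
import Cfsg.Agent.Lib.Helper32.CohSys
import Cfsg.Agent.S1516

set_option autoImplicit false

namespace Cfsg.Agent.Lib.Helper32

open Cfsg
open scoped ComplexConjugate

section
variable {L : Type*} [Group L] [Fintype L] {G : Type*} [Group G] [Fintype G]

theorem coherent_mono {S S' : Set (L → ℂ)} {A : Set L} {τ : (L → ℂ) → (G → ℂ)} (h : S' ⊆ S)
    (hcoh : IsCoherent S A τ) (hne : ∃ α ∈ zspanOn S' A, α ≠ 0) : IsCoherent S' A τ := by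
  obtain ⟨_, τ₁, h1, h2⟩ := hcoh
  exact ⟨hne, τ₁, iso_mono h1 (zspan_mono h), fun α hα => h2 α (zspanOn_mono h A hα)⟩

variable {S : Set (L → ℂ)} {τ : (L → ℂ) → (G → ℂ)} {R : (L → ℂ) → Finset (G → ℂ)}

theorem cs_exists_dn (hS : IsCoherenceSystem S τ R) :
    ∃ d n : (L → ℂ) → ℕ, (∀ φ ∈ S, φ 1 = (d φ : ℂ)) ∧ (∀ φ ∈ S, classInner φ φ = (n φ : ℂ)) ∧
      (∀ φ ∈ S, 0 < d φ) ∧ (∀ φ ∈ S, 0 < n φ) := by
  have h1 : ∀ φ ∈ S, ∃ k : ℕ, 0 < k ∧ φ 1 = k := fun φ hφ => cs_deg hS hφ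
  have h2 : ∀ φ ∈ S, ∃ k : ℕ, 0 < k ∧ classInner φ φ = k := fun φ hφ => cs_norm hS hφ
  choose! d hd using h1
  choose! n hn using h2
  exact ⟨d, n, fun φ hφ => (hd φ hφ).2, fun φ hφ => (hn φ hφ).2, fun φ hφ => (hd φ hφ).1,
    fun φ hφ => (hn φ hφ).1⟩

theorem cs_exists_ne_zero (hS : IsCoherenceSystem S τ R) {S' : Set (L → ℂ)} (h : S' ⊆ S)
    (hc : ∀ φ ∈ S', conjFun φ ∈ S') (hne : S'.Nonempty) : ∃ α ∈ zspanOn S' {1}ᶜ, α ≠ 0 := by
  obtain ⟨χ, hχ⟩ := hne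
  refine ⟨χ - conjFun χ, ?_, ?_⟩
  · rw [mem_zspanOn_one]
    refine ⟨Submodule.sub_mem _ (Submodule.subset_span hχ) (Submodule.subset_span (hc χ hχ)), ?_⟩
    rw [Pi.sub_apply, cs_conj_one hS (h hχ), sub_self]
  · intro h0
    exact hS.conj_ne χ (h hχ) (sub_eq_zero.1 h0).symm

/-- Extending coherence step by step with the criterion of S1516. -/
theorem coherent_extend_gen (hS : IsCoherenceSystem S τ R) (d n : (L → ℂ) → ℕ)
    (hd : ∀ φ ∈ S, φ 1 = (d φ : ℂ)) (hn : ∀ φ ∈ S, classInner φ φ = (n φ : ℂ))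
    (T V : Finset (L → ℂ)) (hTV : T ⊆ V) (hV : ↑V ⊆ S)
    (hTc : ∀ φ ∈ T, conjFun φ ∈ T) (hVc : ∀ φ ∈ V, conjFun φ ∈ V)
    (hcoh : IsCoherent (↑T : Set (L → ℂ)) {1}ᶜ τ)
    (hstep : ∀ S₁ : Finset (L → ℂ), T ⊆ S₁ → S₁ ⊂ V → (∀ φ ∈ S₁, conjFun φ ∈ S₁) →
      ∃ χ ∈ V, χ ∉ S₁ ∧ ∃ χ₁ ∈ S₁, d χ₁ ∣ d χ ∧
        (2 * d χ * d χ₁ : ℝ) < ∑ φ ∈ S₁, ((d φ : ℝ) ^ 2 / (n φ : ℝ))) :
    IsCoherent (↑V : Set (L → ℂ)) {1}ᶜ τ := by
  classical
  let P : Finset (Finset (L → ℂ)) := V.powerset.filter (fun S₁ => T ⊆ S₁ ∧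
    (∀ φ ∈ S₁, conjFun φ ∈ S₁) ∧ IsCoherent (↑S₁ : Set (L → ℂ)) {1}ᶜ τ)
  have hP : P.Nonempty := ⟨T, by
    simp only [P, Finset.mem_filter, Finset.mem_powerset]
    exact ⟨hTV, subset_rfl, hTc, hcoh⟩⟩
  obtain ⟨S₁, hS₁, hmax⟩ := Finset.exists_max_image P Finset.card hP
  simp only [P, Finset.mem_filter, Finset.mem_powerset] at hS₁
  obtain ⟨h1, h2, h3, h4⟩ := hS₁
  by_cases heq : S₁ = V
  · rw [← heq]; exact h4
  · exfalso
    obtain ⟨χ, hχV, hχ, χ₁, hχ₁, hdvd, hlt⟩ := hstep S₁ h2 (Finset.ssubset_iff_subset_ne.2 ⟨h1, heq⟩) h3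
    have hχc : conjFun χ ∉ S₁ := by
      intro h
      have := h3 _ h
      rw [conjFun_conjFun] at this
      exact hχ this
    have hnew := Cfsg.Agent.S1516.result S τ R hS d n hd hn S₁ (fun x hx => hV (h1 hx)) h3 h4 χ
      (hV hχV) hχ hχc χ₁ hχ₁ hdvd hlt
    have hmem : S₁ ∪ {χ, conjFun χ} ∈ P := by
      simp only [P, Finset.mem_filter, Finset.mem_powerset]
      refine ⟨?_, ?_, ?_, ?_⟩
      · apply Finset.union_subset h1
        intro x hx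
        simp only [Finset.mem_insert, Finset.mem_singleton] at hx
        rcases hx with rfl | rfl
        · exact hχV
        · exact hVc _ hχV
      · exact h2.trans Finset.subset_union_left
      · intro φ hφ
        simp only [Finset.mem_union, Finset.mem_insert, Finset.mem_singleton] at hφ ⊢
        rcases hφ with h | rfl | rfl
        · left; exact h3 _ h
        · right; right; rfl
        · right; left; exact conjFun_conjFun _
      · convert hnew using 1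
        push_cast
        rfl
    have hle := hmax _ hmem
    have hlt' : S₁.card < (S₁ ∪ {χ, conjFun χ}).card := by
      apply Finset.card_lt_card
      rw [Finset.ssubset_iff_of_subset Finset.subset_union_left]
      exact ⟨χ, by simp, hχ⟩
    omega

end

end Cfsg.Agent.Lib.Helper32
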