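import Mathlib
import Cfsg.Prelude.Def_Characters
import Cfsg.Agent.Lib.Helper32.GenChar
import Cfsg.Agent.Lib.Helper82.ClassSum
import Cfsg.Agent.Lib.Helper82.Constituent
import Cfsg.Agent.Lib.Helper79.CharNorm
import Cfsg.Agent.Lib.Helper19.GoingDown

set_option autoImplicit false

namespace Cfsg.Agent.Lib.Helper32

open Cfsg
open scoped ComplexConjugate

section
variable {G : Type*} [Group G] [Fintype G]

theorem char_eq_one_of_re {χ : G → ℂ} (hχ : IsCharacter G χ) {b : G}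
    (h : (χ 1).re ≤ (χ b).re) : χ b = χ 1 := by
  have h1 := Helper20.isCharacter_norm_le hχ b
  obtain ⟨n, hn⟩ := Helper20.isCharacter_apply_one hχ
  have h2 : (χ b).re ≤ ‖χ b‖ := Complex.re_le_norm _
  have h3 : (χ b).re = ‖χ b‖ := le_antisymm h2 (h1.trans h)
  have h4 : (χ b).re = (χ 1).re := le_antisymm (h2.trans h1) h
  have h5 : (χ b).im = 0 := by
    have := Complex.sq_norm_sub_sq_re (χ b)
    rw [← h3, sub_self] at this
    exact pow_eq_zero_iff (two_ne_zero) |>.1 this.symm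
  apply Complex.ext
  · exact h4
  · rw [h5, hn]; simp

theorem ker_of_constituent {φ χ : G → ℂ} (hφ : IsCharacter G φ) (hχ : IsIrrCharacter G χ)
    (h : classInner φ χ ≠ 0) {b : G} (hb : φ b = φ 1) : χ b = χ 1 := by
  obtain ⟨ψ, hψ, rfl⟩ := Helper82.exists_add_of_inner_ne_zero hφ hχ h
  have hχc := Helper83.IsIrr.isChar hχ
  apply char_eq_one_of_re hχc
  have h1 := Helper20.isCharacter_norm_le hψ b
  have h2 : (ψ b).re ≤ ‖ψ b‖ := Complex.re_le_norm _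
  have h3 := congrArg Complex.re hb
  simp only [Pi.add_apply, Complex.add_re] at h3
  linarith

theorem irr_norm_sq_of_commutators {θ : G → ℂ} (hθ : IsIrrCharacter G θ) {d : G}
    (h : ∀ c : G, θ (d * c * d⁻¹ * c⁻¹) = θ 1) : ‖θ d‖ ^ 2 = ‖θ 1‖ ^ 2 := by
  have hc := Helper83.IsIrr.isChar hθ
  obtain ⟨n, hn0, hn⟩ := irr_apply_one hθ
  have h1 := Helper82.isIrr_sum_conj_mul hθ d d⁻¹
  have h2 : ∀ a : G, θ (a * d * a⁻¹ * d⁻¹) = θ 1 := by
    intro a
    have e : a * d * a⁻¹ * d⁻¹ = (d * a * d⁻¹ * a⁻¹)⁻¹ := by group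
    rw [e, Helper20.isCharacter_inv hc, h a, hn]; simp
  simp only [h2] at h1
  rw [Finset.sum_const, Finset.card_univ, nsmul_eq_mul, ← Nat.card_eq_fintype_card,
    Helper20.isCharacter_inv hc] at h1
  have hG : (Nat.card G : ℂ) ≠ 0 := by exact_mod_cast Nat.card_pos.ne'
  have hn' : (θ 1) ≠ 0 := by rw [hn]; exact_mod_cast hn0.ne'
  have h3 : θ d * conj (θ d) = θ 1 * θ 1 := by
    field_simp at h1
    linear_combination -h1
  rw [Complex.mul_conj, Complex.normSq_eq_norm_sq, hn] at h3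
  rw [hn]
  have h4 : ((‖θ d‖ ^ 2 : ℝ) : ℂ) = (((n : ℝ) * n : ℝ) : ℂ) := by
    push_cast at h3 ⊢; exact h3
  have h5 : ‖θ d‖ ^ 2 = (n : ℝ) * n := by exact_mod_cast h4
  rw [h5]; simp [sq]

theorem irr_sq_mul_card_le {θ : G → ℂ} (hθ : IsIrrCharacter G θ) (D : Subgroup G)
    (h : ∀ d ∈ D, ∀ c : G, θ (d * c * d⁻¹ * c⁻¹) = θ 1) :
    ‖θ 1‖ ^ 2 * (Nat.card D : ℝ) ≤ (Nat.card G : ℝ) := by
  classical
  have h1 := Helper19.sum_norm_sq_restrict_le D θ
  rw [Helper79.IsIrrCharacter.sum_norm_sq hθ] at h1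
  have h2 : ∑ n : D, ‖θ n‖ ^ 2 = ∑ _n : D, ‖θ 1‖ ^ 2 :=
    Finset.sum_congr rfl (fun d _ => irr_norm_sq_of_commutators hθ (h d d.2))
  rw [h2, Finset.sum_const, Finset.card_univ, nsmul_eq_mul, ← Nat.card_eq_fintype_card] at h1
  linarith

end

theorem degree_bound {G : Type*} [Group G] [Finite G] (ψ : G → ℂ) (hψ : IsIrrCharacter G ψ)
    (B C D : Subgroup G) (hDC : D ≤ C)
    (hcent : ∀ d ∈ D, ∀ c ∈ C, d * c * d⁻¹ * c⁻¹ ∈ B) (hker : ∀ b ∈ B, ψ b = ψ 1) :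
    ‖ψ 1‖ ^ 2 * (Nat.card C : ℝ) * (Nat.card D : ℝ) ≤ (Nat.card G : ℝ) ^ 2 := by
  classical
  haveI : Fintype G := Fintype.ofFinite G
  haveI := Helper20.finite_irrCharacter (G := C)
  haveI := Fintype.ofFinite (IrrCharacter C)
  have hc := Helper83.IsIrr.isChar hψ
  have hη : IsCharacter C (fun c : C => ψ c) := Helper20.isCharacter_restrict hc C
  obtain ⟨a, ha⟩ := genChar_exists_coeff (genChar_of_char hη)
  have hexp := genChar_expand (genChar_of_char hη) ha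
  have hnorm := genChar_norm (genChar_of_char hη) ha
  have hC0 : (0 : ℝ) < Nat.card C := by exact_mod_cast Nat.card_pos
  have hD0 : (0 : ℝ) < Nat.card D := by exact_mod_cast Nat.card_pos
  have hG0 : (0 : ℝ) < Nat.card G := by exact_mod_cast Nat.card_pos
  set r : ℝ := Real.sqrt ((Nat.card C : ℝ) / Nat.card D) with hr
  have hcardD : Nat.card (D.subgroupOf C) = Nat.card D :=
    Nat.card_congr (Subgroup.subgroupOfEquivOfLe hDC).toEquiv
  have hdeg : ∀ θ : IrrCharacter C, a θ ≠ 0 → ‖(θ : C → ℂ) 1‖ ≤ r := by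
    intro θ hθ
    have hne : classInner (fun c : C => ψ c) (θ : C → ℂ) ≠ 0 := by
      rw [ha θ]; exact_mod_cast hθ
    have h1 := irr_sq_mul_card_le θ.2 (D.subgroupOf C) (by
      intro d hd c
      apply ker_of_constituent hη θ.2 hne
      exact hker _ (hcent d hd c c.2))
    rw [hcardD] at h1
    apply Real.le_sqrt_of_sq_le
    rw [le_div_iff₀ hD0]
    exact h1
  have h1 : ‖ψ 1‖ ≤ r * ∑ θ : IrrCharacter C, (a θ : ℝ) ^ 2 := by
    have e1 := congrFun hexp 1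
    simp only [Finset.sum_apply, Pi.smul_apply, smul_eq_mul, OneMemClass.coe_one] at e1
    rw [e1, Finset.mul_sum]
    refine (norm_sum_le _ _).trans (Finset.sum_le_sum ?_)
    intro θ _
    rw [norm_mul]
    by_cases h0 : a θ = 0
    · simp [h0]
    · have h2 := hdeg θ h0
      have h3 : ‖((a θ : ℤ) : ℂ)‖ ≤ (a θ : ℝ) ^ 2 := by
        rw [Complex.norm_intCast]
        have h4 : (1 : ℝ) ≤ |(a θ : ℝ)| := by
          have : (1 : ℤ) ≤ |a θ| := Int.one_le_abs h0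
          exact_mod_cast this
        rw [← sq_abs]
        nlinarith
      have h5 : (0 : ℝ) ≤ r := Real.sqrt_nonneg _
      calc ‖((a θ : ℤ) : ℂ)‖ * ‖(θ : C → ℂ) 1‖ ≤ (a θ : ℝ) ^ 2 * r :=
            mul_le_mul h3 h2 (norm_nonneg _) (by positivity)
        _ = r * (a θ : ℝ) ^ 2 := by ring
  have h2 : (∑ θ : IrrCharacter C, (a θ : ℝ) ^ 2) ≤ (Nat.card G : ℝ) / Nat.card C := by
    have h3 := Helper19.card_mul_classInner_restrict C ψ
    rw [hnorm] at h3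
    have h4 : (Nat.card C : ℝ) * (∑ θ : IrrCharacter C, (a θ : ℝ) ^ 2) = ∑ n : C, ‖ψ n‖ ^ 2 := by
      have : ((Nat.card C : ℝ) * (∑ θ : IrrCharacter C, (a θ : ℝ) ^ 2) : ℂ) =
          ((∑ n : C, ‖ψ n‖ ^ 2 : ℝ) : ℂ) := by
        rw [← h3]; push_cast; rfl
      exact_mod_cast this
    have h5 := Helper19.sum_norm_sq_restrict_le C ψ
    rw [Helper79.IsIrrCharacter.sum_norm_sq hψ, ← h4] at h5
    rw [le_div_iff₀ hC0]
    linarith
  have h3 : ‖ψ 1‖ ≤ r * ((Nat.card G : ℝ) / Nat.card C) :=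
    h1.trans (mul_le_mul_of_nonneg_left h2 (Real.sqrt_nonneg _))
  have h4 : ‖ψ 1‖ ^ 2 ≤ (r * ((Nat.card G : ℝ) / Nat.card C)) ^ 2 :=
    pow_le_pow_left₀ (norm_nonneg _) h3 2
  rw [mul_pow, hr, Real.sq_sqrt (by positivity)] at h4
  calc ‖ψ 1‖ ^ 2 * (Nat.card C : ℝ) * (Nat.card D : ℝ)
      ≤ ((Nat.card C : ℝ) / Nat.card D * ((Nat.card G : ℝ) / Nat.card C) ^ 2) *
          (Nat.card C : ℝ) * (Nat.card D : ℝ) := by gcongr
    _ = (Nat.card G : ℝ) ^ 2 := by field_simp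

end Cfsg.Agent.Lib.Helper32
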