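import Mathlib
import Cfsg.Prelude.Def_OddOrderChar
import Cfsg.Agent.Lib.Helper32.GenChar
import Cfsg.Agent.Lib.Helper32.ConjFun
import Cfsg.Agent.Lib.Helper32.DegBound
import Cfsg.Agent.Lib.Helper19.IndChar
import Cfsg.Agent.Lib.Helper19.IndFun2
import Cfsg.Agent.Lib.Helper82.CharKer
import Cfsg.Agent.Lib.Helper82.LinCount
import Cfsg.Agent.S0134

set_option autoImplicit false

namespace Cfsg.Agent.Lib.Helper32

open Cfsg
open scoped ComplexConjugate

section
variable {L : Type*} [Group L] [Fintype L] (K : Subgroup L) [hK : K.Normal]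

theorem indFun_normal_apply (θ : K → ℂ) (k : K) :
    indFun K θ k = (Nat.card K : ℂ)⁻¹ * ∑ x : L, θ (MulAut.conjNormal x⁻¹ k) := by
  rw [Helper19.indFun_apply]
  congr 1
  apply Finset.sum_congr rfl
  intro x _
  have : x⁻¹ * (k : L) * x = ((MulAut.conjNormal x⁻¹ k : K) : L) := by
    rw [MulAut.conjNormal_apply, inv_inv]
  rw [this, Helper19.extendByZero_coe]

theorem indFun_normal_eq_zero (θ : K → ℂ) {g : L} (hg : g ∉ K) : indFun K θ g = 0 := by
  rw [Helper19.indFun_apply, Finset.sum_eq_zero, mul_zero]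
  intro x _
  apply Helper19.extendByZero_of_not_mem
  intro h
  apply hg
  have := hK.conj_mem _ h x
  simpa [mul_assoc] using this

theorem indFun_ker (A : Subgroup L) [hA : A.Normal] (θ : K → ℂ)
    (h : ∀ a : K, (a : L) ∈ A → θ a = θ 1) (a : K) (ha : (a : L) ∈ A) :
    indFun K θ a = indFun K θ 1 := by
  have h1 := indFun_normal_apply K θ 1
  rw [OneMemClass.coe_one] at h1
  rw [indFun_normal_apply, h1]
  congr 1
  apply Finset.sum_congr rfl
  intro x _
  rw [map_one]
  apply h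
  rw [MulAut.conjNormal_apply]
  exact hA.conj_mem _ ha _

theorem sum_indFun_res [Fintype K] (θ : K → ℂ) :
    ∑ k : K, indFun K θ k = (K.index : ℂ) * ∑ k : K, θ k := by
  simp only [indFun_normal_apply]
  rw [← Finset.mul_sum, Finset.sum_comm]
  have : ∀ x : L, ∑ k : K, θ (MulAut.conjNormal x⁻¹ k) = ∑ k : K, θ k := by
    intro x
    exact Fintype.sum_equiv (MulAut.conjNormal x⁻¹ : K ≃* K).toEquiv _ _ (fun _ => rfl)
  simp only [this]
  rw [Finset.sum_const, Finset.card_univ, nsmul_eq_mul, ← Nat.card_eq_fintype_card,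
    ← K.card_mul_index]
  have hK0 : (Nat.card K : ℂ) ≠ 0 := by exact_mod_cast Nat.card_pos.ne'
  push_cast
  field_simp

theorem indFun_res_inner_one [Fintype K] {θ : K → ℂ} (hθ : IsIrrCharacter K θ) (h1 : θ ≠ fun _ => 1) :
    classInner (fun k : K => indFun K θ k) (fun _ => 1) = 0 := by
  have h2 := Helper20.classInner_irr_ne hθ Helper83.isIrr_trivial h1
  unfold classInner at h2 ⊢
  simp only [map_one, mul_one] at h2 ⊢
  rw [sum_indFun_res]
  have hK0 : ((Nat.card K : ℂ))⁻¹ ≠ 0 := inv_ne_zero (by exact_mod_cast Nat.card_pos.ne')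
  rw [(mul_eq_zero.1 h2).resolve_left hK0]
  simp

theorem indFun_conjFun (H : Subgroup L) (θ : H → ℂ) :
    conjFun (indFun H θ) = indFun H (conjFun θ) := by
  funext g
  rw [conjFun_apply, Helper19.indFun_apply, Helper19.indFun_apply, map_mul, map_inv₀, map_sum]
  congr 1
  · simp
  · apply Finset.sum_congr rfl
    intro x _
    by_cases h : x⁻¹ * g * x ∈ H
    · rw [Helper19.extendByZero_of_mem H _ h, Helper19.extendByZero_of_mem H _ h]; rfl
    · rw [Helper19.extendByZero_of_not_mem H _ h, Helper19.extendByZero_of_not_mem H _ h]; simp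

end


section above
variable {L : Type*} [Group L] [Fintype L] (K : Subgroup L)

open Classical in
/-- The non-principal irreducible characters of `K` having `A ⊓ K` in their kernel. -/
noncomputable def irrAbove (A : Subgroup L) : Finset (IrrCharacter K) :=
  haveI := Helper20.finite_irrCharacter (G := K)
  haveI := Fintype.ofFinite (IrrCharacter K)
  Finset.univ.filter (fun θ => (θ : K → ℂ) ≠ (fun _ => 1) ∧
    ∀ a : K, (a : L) ∈ A → (θ : K → ℂ) a = (θ : K → ℂ) 1)

theorem mem_irrAbove {A : Subgroup L} {θ : IrrCharacter K} :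
    θ ∈ irrAbove K A ↔ (θ : K → ℂ) ≠ (fun _ => 1) ∧
      ∀ a : K, (a : L) ∈ A → (θ : K → ℂ) a = (θ : K → ℂ) 1 := by
  unfold irrAbove
  simp

open Classical in
noncomputable def indAbove (A : Subgroup L) : Finset (L → ℂ) :=
  (irrAbove K A).image (fun θ : IrrCharacter K => indFun K (θ : K → ℂ))

theorem coe_indAbove (A : Subgroup L) :
    (indAbove K A : Set (L → ℂ)) = inducedIrrAbove K A := by
  ext φ
  unfold indAbove inducedIrrAbove
  simp only [Finset.coe_image, Set.mem_image, Finset.mem_coe, mem_irrAbove, Set.mem_ofPred_eq]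
  constructor
  · rintro ⟨θ, ⟨h1, h2⟩, rfl⟩
    exact ⟨θ, θ.2, h1, h2, rfl⟩
  · rintro ⟨θ, h0, h1, h2, rfl⟩
    exact ⟨⟨θ, h0⟩, ⟨h1, h2⟩, rfl⟩

theorem mem_indAbove {A : Subgroup L} {φ : L → ℂ} :
    φ ∈ indAbove K A ↔ φ ∈ inducedIrrAbove K A := by
  rw [← coe_indAbove, Finset.mem_coe]

theorem inducedIrrAbove_mono {A B : Subgroup L} (h : A ≤ B) :
    inducedIrrAbove K B ⊆ inducedIrrAbove K A := by
  rintro φ ⟨θ, h0, h1, h2, rfl⟩
  exact ⟨θ, h0, h1, fun a ha => h2 a (h ha), rfl⟩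

theorem inducedIrrAbove_conj {A : Subgroup L} {φ : L → ℂ} (h : φ ∈ inducedIrrAbove K A) :
    conjFun φ ∈ inducedIrrAbove K A := by
  haveI := Fintype.ofFinite K
  obtain ⟨θ, h0, h1, h2, rfl⟩ := h
  refine ⟨conjFun θ, isIrr_conjFun h0, ?_, ?_, indFun_conjFun K θ⟩
  · intro h
    apply h1
    have := congrArg conjFun h
    rw [conjFun_conjFun] at this
    rw [this]
    funext x
    simp [conjFun_apply]
  · intro a ha
    rw [conjFun_apply, conjFun_apply, h2 a ha]

theorem sum_irrAbove_sq (A : Subgroup L) [hA : A.Normal] :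
    ∑ θ ∈ irrAbove K A, (θ : K → ℂ) 1 ^ 2 = (A.relIndex K : ℂ) - 1 := by
  classical
  haveI := Helper20.finite_irrCharacter (G := K)
  haveI := Fintype.ofFinite (IrrCharacter K)
  haveI : (A.subgroupOf K).Normal := hA.subgroupOf K
  haveI := Helper20.finite_irrCharacter (G := K ⧸ A.subgroupOf K)
  haveI := Fintype.ofFinite (IrrCharacter (K ⧸ A.subgroupOf K))
  have h1 := Cfsg.Agent.S0134.result (G := K ⧸ A.subgroupOf K)
  rw [finsum_eq_sum_of_fintype] at h1
  have h2 : (Nat.card (K ⧸ A.subgroupOf K) : ℂ) = (A.relIndex K : ℂ) := rfl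
  rw [h2] at h1
  rw [← h1]
  have h3 : ∑ ψ : IrrCharacter (K ⧸ A.subgroupOf K), (ψ : K ⧸ A.subgroupOf K → ℂ) 1 ^ 2
      = ∑ χ : {χ : IrrCharacter K // ∀ x ∈ A.subgroupOf K, (χ : K → ℂ) x = (χ : K → ℂ) 1},
        ((χ : IrrCharacter K) : K → ℂ) 1 ^ 2 := by
    apply Fintype.sum_equiv (Helper82.irrQuotEquiv (A.subgroupOf K))
    intro ψ
    rw [Helper82.irrQuotEquiv_apply]
    rfl
  rw [h3]
  have h4 := Finset.sum_subtype (Finset.univ.filter (fun χ : IrrCharacter K =>
      ∀ x ∈ A.subgroupOf K, (χ : K → ℂ) x = (χ : K → ℂ) 1)) (p := fun χ : IrrCharacter K =>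
      ∀ x ∈ A.subgroupOf K, (χ : K → ℂ) x = (χ : K → ℂ) 1) (F := inferInstance) (by simp)
      (fun χ => (χ : K → ℂ) 1 ^ 2)
  rw [← h4]
  have h5 : Finset.univ.filter (fun χ : IrrCharacter K =>
      ∀ x ∈ A.subgroupOf K, (χ : K → ℂ) x = (χ : K → ℂ) 1)
      = insert (⟨fun _ => 1, Helper83.isIrr_trivial⟩ : IrrCharacter K) (irrAbove K A) := by
    ext χ
    simp only [Finset.mem_filter, Finset.mem_univ, true_and, Finset.mem_insert, mem_irrAbove,
      Subgroup.mem_subgroupOf]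
    constructor
    · intro h
      by_cases h1 : (χ : K → ℂ) = fun _ => 1
      · left; exact Subtype.ext h1
      · right; exact ⟨h1, h⟩
    · rintro (rfl | h)
      · intro _ _; rfl
      · exact h.2
  rw [h5, Finset.sum_insert]
  · simp
  · rw [mem_irrAbove]
    intro h
    exact h.1 rfl


open Classical in
theorem indAbove_c_mul_norm [hK : K.Normal] (A : Subgroup L) [hA : A.Normal]
    (horth : ∀ χ ∈ inducedIrrAbove K A, ∀ φ ∈ inducedIrrAbove K A, χ ≠ φ → classInner χ φ = 0)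
    {φ : L → ℂ} (hφ : φ ∈ inducedIrrAbove K A) :
    (∑ θ ∈ (irrAbove K A).filter (fun θ : IrrCharacter K => indFun K (θ : K → ℂ) = φ),
      (θ : K → ℂ) 1) * classInner φ φ = φ 1 := by
  haveI := Fintype.ofFinite K
  haveI := Helper20.finite_irrCharacter (G := K)
  haveI := Fintype.ofFinite (IrrCharacter K)
  obtain ⟨θ₀, h0, h1, h2, rfl⟩ := id hφ
  have hφc : IsCharacter L (indFun K θ₀) :=
    Helper19.isCharacter_indFun K θ₀ (Helper83.IsIrr.isChar h0)
  have hres : IsCharacter K (fun k : K => indFun K θ₀ k) := Helper20.isCharacter_restrict hφc K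
  have hexp := Helper20.eq_sum_classInner_smul (Helper20.isClassFunction_of_isCharacter hres)
  have hexp1 := congrFun hexp 1
  simp only [Finset.sum_apply, Pi.smul_apply, smul_eq_mul, OneMemClass.coe_one] at hexp1
  rw [hexp1, Finset.sum_mul, Finset.sum_filter]
  rw [← Finset.sum_subset (Finset.subset_univ (irrAbove K A))]
  · apply Finset.sum_congr rfl
    intro χ hχ
    have hχm : indFun K (χ : K → ℂ) ∈ inducedIrrAbove K A := by
      rw [mem_irrAbove] at hχ
      exact ⟨χ, χ.2, hχ.1, hχ.2, rfl⟩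
    rw [genChar_inner_comm (genChar_of_char hres) (genChar_of_irr χ.2),
      ← Helper19.frobenius_reciprocity K (χ : K → ℂ) _ (Helper20.isClassFunction_of_isCharacter hφc)]
    split_ifs with h
    · rw [h, mul_comm]
    · rw [horth _ hχm _ hφ h, zero_mul]
  · intro χ _ hχ
    rw [mem_irrAbove] at hχ
    by_contra hne
    have hne' : classInner (fun k : K => indFun K θ₀ k) (χ : K → ℂ) ≠ 0 := by
      intro h
      apply hne
      rw [h, zero_mul]
    apply hχ
    refine ⟨?_, ?_⟩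
    · intro h
      apply hne'
      rw [h]
      exact indFun_res_inner_one K h0 h1
    · intro a ha
      exact ker_of_constituent hres χ.2 hne' (indFun_ker K A θ₀ h2 a ha)

theorem inducedIrrAbove_one_ne_zero {A : Subgroup L} {φ : L → ℂ} (hφ : φ ∈ inducedIrrAbove K A) :
    φ 1 ≠ 0 := by
  obtain ⟨θ₀, h0, h1, h2, rfl⟩ := hφ
  rw [Helper82.indFun_one]
  obtain ⟨n, hn, h⟩ := irr_apply_one h0
  rw [h]
  have : K.index ≠ 0 := Subgroup.index_ne_zero_of_finite
  exact mul_ne_zero (by exact_mod_cast this) (by exact_mod_cast hn.ne')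

theorem sum_indAbove_sq_div [hK : K.Normal] (A : Subgroup L) [hA : A.Normal]
    (horth : ∀ χ ∈ inducedIrrAbove K A, ∀ φ ∈ inducedIrrAbove K A, χ ≠ φ → classInner χ φ = 0)
    (d n : (L → ℂ) → ℕ) (hd : ∀ φ ∈ inducedIrrAbove K A, φ 1 = d φ)
    (hn : ∀ φ ∈ inducedIrrAbove K A, classInner φ φ = n φ) :
    ∑ φ ∈ indAbove K A, ((d φ : ℝ) ^ 2 / (n φ : ℝ)) = K.index * ((A.relIndex K : ℝ) - 1) := by
  classical
  have key : ∑ φ ∈ indAbove K A, ((d φ : ℂ) ^ 2 / (n φ : ℂ))
      = ∑ θ ∈ irrAbove K A, (K.index : ℂ) * (θ : K → ℂ) 1 ^ 2 := by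
    unfold indAbove
    apply Finset.sum_image'
    intro θ hθ
    have hθm : indFun K (θ : K → ℂ) ∈ inducedIrrAbove K A := by
      rw [mem_irrAbove] at hθ
      exact ⟨θ, θ.2, hθ.1, hθ.2, rfl⟩
    have h1 := indAbove_c_mul_norm K A horth hθm
    have h0 := inducedIrrAbove_one_ne_zero K hθm
    rw [hn _ hθm, hd _ hθm] at h1
    rw [hd _ hθm] at h0
    have hn0 : (n (indFun K (θ : K → ℂ)) : ℂ) ≠ 0 := by
      intro h
      rw [h, mul_zero] at h1
      exact h0 h1.symm
    rw [div_eq_iff hn0, pow_two]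
    nth_rewrite 2 [← h1]
    rw [Finset.sum_mul, Finset.mul_sum, Finset.sum_mul]
    apply Finset.sum_congr rfl
    intro j hj
    rw [Finset.mem_filter] at hj
    have h3 : (d (indFun K (θ : K → ℂ)) : ℂ) = (K.index : ℂ) * (j : K → ℂ) 1 := by
      rw [← hd _ hθm, ← hj.2, Helper82.indFun_one]
    rw [h3]
    ring
  rw [← Finset.mul_sum, sum_irrAbove_sq] at key
  have key2 : ((∑ φ ∈ indAbove K A, ((d φ : ℝ) ^ 2 / (n φ : ℝ)) : ℝ) : ℂ)
      = ((K.index * ((A.relIndex K : ℝ) - 1) : ℝ) : ℂ) := by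
    push_cast
    exact key
  exact_mod_cast key2


theorem exists_linear_above (hsolv : Group.IsSolvable K) (A : Subgroup L) [hA : A.Normal]
    (hAK : A < K) : ∃ χ₁ ∈ inducedIrrAbove K A, χ₁ 1 = (K.index : ℂ) := by
  haveI : (A.subgroupOf K).Normal := hA.subgroupOf K
  haveI := hsolv
  haveI : Nontrivial (K ⧸ A.subgroupOf K) := by
    rw [QuotientGroup.nontrivial_iff]
    intro h
    rw [Subgroup.subgroupOf_eq_top] at h
    exact absurd h (not_le_of_gt hAK)
  have hne : commutator (K ⧸ A.subgroupOf K) ≠ ⊤ :=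
    (Group.IsSolvable.commutator_lt_top_of_nontrivial (K ⧸ A.subgroupOf K)).ne
  obtain ⟨lam, h1, h2⟩ := Helper82.exists_nonprincipal_linear hne
  refine ⟨indFun K (fun k : K => (lam : K ⧸ A.subgroupOf K → ℂ) (k : K ⧸ A.subgroupOf K)),
    ⟨_, Helper82.isIrr_inflate lam.2, ?_, ?_, rfl⟩, ?_⟩
  · intro h
    apply h2
    funext q
    obtain ⟨k, rfl⟩ := QuotientGroup.mk_surjective q
    exact congrFun h k
  · intro a ha
    have : ((a : K) : K ⧸ A.subgroupOf K) = 1 := by
      rw [QuotientGroup.eq_one_iff]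
      exact ha
    rw [this]
    rfl
  · rw [Helper82.indFun_one]
    have : (lam : K ⧸ A.subgroupOf K → ℂ) ((1 : K) : K ⧸ A.subgroupOf K) = 1 := h1
    rw [this, mul_one]

/-- degree bound for characters induced from `K` whose kernel contains `B ≥ [D, C]`. -/
theorem inducedIrrAbove_degree_bound (B C D : Subgroup L) (hDC : D ≤ C) (hCK : C ≤ K)
    (hcent : ∀ x ∈ D, ∀ y ∈ C, x * y * x⁻¹ * y⁻¹ ∈ B) {χ : L → ℂ}
    (hχ : χ ∈ inducedIrrAbove K B) :
    ∃ m : ℕ, χ 1 = ((K.index * m : ℕ) : ℂ) ∧ (K.index * m) ^ 2 ≤ C.index ^ 2 * D.relIndex C := by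
  obtain ⟨θ, h0, h1, h2, rfl⟩ := hχ
  obtain ⟨m, hm, hθ⟩ := irr_apply_one h0
  refine ⟨m, by rw [Helper82.indFun_one, hθ]; push_cast; rfl, ?_⟩
  have hb := degree_bound θ h0 (B.subgroupOf K) (C.subgroupOf K) (D.subgroupOf K)
    (fun x hx => hDC hx) (fun d hd c hc => hcent _ hd _ hc) (fun b hb => h2 b hb)
  rw [hθ] at hb
  have hC : Nat.card (C.subgroupOf K) = Nat.card C :=
    Nat.card_congr (Subgroup.subgroupOfEquivOfLe hCK).toEquiv
  have hD : Nat.card (D.subgroupOf K) = Nat.card D :=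
    Nat.card_congr (Subgroup.subgroupOfEquivOfLe (hDC.trans hCK)).toEquiv
  rw [hC, hD] at hb
  have hb' : m ^ 2 * Nat.card C * Nat.card D ≤ Nat.card K ^ 2 := by
    have : ‖(m : ℂ)‖ = (m : ℝ) := by simp
    rw [this] at hb
    exact_mod_cast hb
  have e1 : Nat.card C * C.index = Nat.card L := C.card_mul_index
  have e2 : Nat.card K * K.index = Nat.card L := K.card_mul_index
  have e3 : Nat.card D * D.relIndex C = Nat.card C := by
    have := (D.subgroupOf C).card_mul_index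
    rwa [Nat.card_congr (Subgroup.subgroupOfEquivOfLe hDC).toEquiv] at this
  have hCpos : 0 < Nat.card C := Nat.card_pos
  have hDpos : 0 < Nat.card D := Nat.card_pos
  -- (e m)^2 |C|^2 ≤ ...
  have : (K.index * m) ^ 2 * (Nat.card C ^ 2 * Nat.card D)
      ≤ (C.index ^ 2 * D.relIndex C) * (Nat.card C ^ 2 * Nat.card D) := by
    calc (K.index * m) ^ 2 * (Nat.card C ^ 2 * Nat.card D)
        = K.index ^ 2 * Nat.card C * (m ^ 2 * Nat.card C * Nat.card D) := by ring
      _ ≤ K.index ^ 2 * Nat.card C * Nat.card K ^ 2 := Nat.mul_le_mul_left _ hb'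
      _ = (Nat.card K * K.index) ^ 2 * Nat.card C := by ring
      _ = (Nat.card C * C.index) ^ 2 * (Nat.card D * D.relIndex C) := by rw [e2, e1, e3]
      _ = (C.index ^ 2 * D.relIndex C) * (Nat.card C ^ 2 * Nat.card D) := by ring
  exact Nat.le_of_mul_le_mul_right this (by positivity)

end above

end Cfsg.Agent.Lib.Helper32
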