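import Mathlib
import Cfsg.Prelude.Def_OddOrderChar
import Cfsg.Agent.Lib.Helper32.CohExt
import Cfsg.Agent.Lib.Helper32.IndAbove
import Cfsg.Agent.S1517

set_option autoImplicit false

namespace Cfsg.Agent.Lib.Helper32

open Cfsg
open scoped ComplexConjugate commutatorElement

section
variable {L : Type*} [Group L] [Fintype L] {G : Type*} [Group G] [Fintype G]
variable {S : Set (L → ℂ)} {τ : (L → ℂ) → (G → ℂ)} {R : (L → ℂ) → Finset (G → ℂ)}

theorem cs_restrict (hS : IsCoherenceSystem S τ R) {S' : Set (L → ℂ)} (h : S' ⊆ S)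
    (hc : ∀ φ ∈ S', conjFun φ ∈ S') (hne : S'.Nonempty) : IsCoherenceSystem S' τ R where
  nonempty := hne
  isCharacter := fun χ hχ => hS.isCharacter χ (h hχ)
  conj_mem := hc
  conj_ne := fun χ hχ => hS.conj_ne χ (h hχ)
  isometry := iso_mono hS.isometry (zspanOn_mono h _)
  map_one := fun α hα => hS.map_one α (zspanOn_mono h _ hα)
  orthogonal := fun χ hχ φ hφ => hS.orthogonal χ (h hχ) φ (h hφ)
  orthonormal := fun χ hχ => hS.orthonormal χ (h hχ)
  virtual := fun χ hχ => hS.virtual χ (h hχ)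
  sum_eq := fun χ hχ => hS.sum_eq χ (h hχ)
  disjoint := fun χ hχ φ hφ => hS.disjoint χ (h hχ) φ (h hφ)

theorem inducedIrrAbove_linear (K : Subgroup L) (H₁ : Subgroup L) (hc : ⁅K, K⁆ ≤ H₁)
    {χ : L → ℂ} (hχ : χ ∈ inducedIrrAbove K H₁) : χ 1 = (K.index : ℂ) := by
  obtain ⟨m, hm1, hm2⟩ := inducedIrrAbove_degree_bound K H₁ K K le_rfl le_rfl
    (fun x hx y hy => hc (Subgroup.commutator_mem_commutator hx hy)) hχ
  have h0 := inducedIrrAbove_one_ne_zero K hχ
  rw [Subgroup.relIndex_self, mul_one] at hm2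
  have hKpos : 0 < K.index := Nat.pos_of_ne_zero Subgroup.index_ne_zero_of_finite
  have h1 : K.index * m ≤ K.index := by
    exact (Nat.pow_le_pow_iff_left (by norm_num)).1 hm2
  have h2 : m ≤ 1 := by nlinarith
  have h3 : m ≠ 0 := by
    rintro rfl
    apply h0
    rw [hm1]
    simp
  have h4 : m = 1 := by omega
  rw [hm1, h4, mul_one]

theorem coherent_above_derived (K : Subgroup L) [hK : K.Normal] (hsolv : Group.IsSolvable K)
    (hS : IsCoherenceSystem (inducedIrrAbove K ⊥) τ R) (H₁ : Subgroup L) [H₁.Normal]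
    (hc : ⁅K, K⁆ ≤ H₁) (hlt : H₁ < K) : IsCoherent (inducedIrrAbove K H₁) {1}ᶜ τ := by
  obtain ⟨χ₁, hχ₁, _⟩ := exists_linear_above K hsolv H₁ hlt
  apply Cfsg.Agent.S1517.result _ τ R (cs_restrict hS (inducedIrrAbove_mono K bot_le)
    (fun φ hφ => inducedIrrAbove_conj K hφ) ⟨χ₁, hχ₁⟩)
  intro φ hφ ψ hψ
  rw [inducedIrrAbove_linear K H₁ hc hφ, inducedIrrAbove_linear K H₁ hc hψ]

end

theorem two_mul_add_one_le {e a : ℕ} (he : Odd e) (ha : Odd a) (h1 : 1 < a) (hd : e ∣ a - 1) :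
    2 * e + 1 ≤ a := by
  obtain ⟨c, hc⟩ := hd
  have h2 : a = e * c + 1 := by omega
  have h3 : Even (e * c) := by
    rcases Nat.even_or_odd (e * c) with h | h
    · exact h
    · exfalso
      rw [h2] at ha
      exact (Nat.not_even_iff_odd.2 ha) (h.add_odd odd_one)
  have h4 : Even c := by
    rcases Nat.even_mul.1 h3 with h | h
    · exact absurd h (Nat.not_even_iff_odd.2 he)
    · exact h
  obtain ⟨c', rfl⟩ := h4
  have h5 : c' ≠ 0 := by
    rintro rfl
    simp at h2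
    omega
  have h6 : 1 ≤ c' := Nat.one_le_iff_ne_zero.2 h5
  nlinarith

end Cfsg.Agent.Lib.Helper32
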