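import Cfsg.Agent.Lib.Helper32.ConjFun

set_option autoImplicit false
set_option linter.unusedSectionVars false

namespace Cfsg.Agent.Lib.Helper32

open Cfsg Cfsg.Agent.Lib.Helper20
open scoped ComplexConjugate

universe u v

variable {G : Type u} [Group G] [Fintype G] {ι : Type v}

/-- orthonormal family indexed by a finset -/
def OrthoN (s : Finset ι) (e : ι → G → ℂ) : Prop :=
  ∀ i ∈ s, ∀ j ∈ s, (i = j → classInner (e i) (e j) = 1) ∧ (i ≠ j → classInner (e i) (e j) = 0)

/-- orthogonal projection on the span of an orthonormal family -/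
noncomputable def proj (s : Finset ι) (e : ι → G → ℂ) (v : G → ℂ) : G → ℂ :=
  ∑ i ∈ s, classInner v (e i) • e i

theorem inner_proj_left (s : Finset ι) (e : ι → G → ℂ) (v w : G → ℂ) :
    classInner (proj s e v) w = ∑ i ∈ s, classInner v (e i) * classInner (e i) w := by
  unfold proj
  rw [classInner_sum_left]
  simp only [classInner_smul_left]

theorem inner_proj_right (s : Finset ι) (e : ι → G → ℂ) (v w : G → ℂ) :
    classInner v (proj s e w) = ∑ i ∈ s, conj (classInner w (e i)) * classInner v (e i) := by
  unfold proj
  rw [classInner_sum_right]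
  simp only [classInner_smul_right]

theorem OrthoN.inner_proj_mem {s : Finset ι} {e : ι → G → ℂ} (h : OrthoN s e) (v : G → ℂ)
    {j : ι} (hj : j ∈ s) : classInner (proj s e v) (e j) = classInner v (e j) := by
  rw [inner_proj_left, Finset.sum_eq_single j]
  · rw [(h j hj j hj).1 rfl, mul_one]
  · intro i hi hij
    rw [(h i hi j hj).2 hij, mul_zero]
  · intro h'; exact absurd hj h'

theorem OrthoN.inner_sub_proj_mem {s : Finset ι} {e : ι → G → ℂ} (h : OrthoN s e) (v : G → ℂ)
    {j : ι} (hj : j ∈ s) : classInner (v - proj s e v) (e j) = 0 := by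
  rw [classInner_sub_left, h.inner_proj_mem v hj, sub_self]

theorem OrthoN.inner_proj_proj {s : Finset ι} {e : ι → G → ℂ} (h : OrthoN s e) (v w : G → ℂ) :
    classInner (proj s e v) (proj s e w) =
      ∑ i ∈ s, classInner v (e i) * conj (classInner w (e i)) := by
  rw [inner_proj_right]
  apply Finset.sum_congr rfl
  intro i hi
  rw [h.inner_proj_mem v hi, mul_comm]

theorem OrthoN.inner_sub_proj_proj {s : Finset ι} {e : ι → G → ℂ} (h : OrthoN s e)
    (v w : G → ℂ) : classInner (v - proj s e v) (proj s e w) = 0 := by
  rw [inner_proj_right]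
  apply Finset.sum_eq_zero
  intro i hi
  rw [h.inner_sub_proj_mem v hi, mul_zero]

theorem OrthoN.pythagoras {s : Finset ι} {e : ι → G → ℂ} (h : OrthoN s e) (v : G → ℂ) :
    classInner v v = ∑ i ∈ s, classInner v (e i) * conj (classInner v (e i)) +
      classInner (v - proj s e v) (v - proj s e v) := by
  have h1 : v = proj s e v + (v - proj s e v) := by abel
  conv_lhs => rw [h1]
  rw [classInner_add_left, classInner_add_right, classInner_add_right, h.inner_proj_proj,
    h.inner_sub_proj_proj, classInner_eq_zero_symm (h.inner_sub_proj_proj v v)]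
  ring

theorem OrthoN.inner_eq {s : Finset ι} {e : ι → G → ℂ} (h : OrthoN s e) (v w : G → ℂ) :
    classInner v w = ∑ i ∈ s, classInner v (e i) * conj (classInner w (e i)) +
      classInner (v - proj s e v) (w - proj s e w) := by
  have h1 : v = proj s e v + (v - proj s e v) := by abel
  have h2 : w = proj s e w + (w - proj s e w) := by abel
  conv_lhs => rw [h1, h2]
  rw [classInner_add_left, classInner_add_right, classInner_add_right, h.inner_proj_proj,
    h.inner_sub_proj_proj, classInner_eq_zero_symm (h.inner_sub_proj_proj w v)]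
  ring

theorem genChar_proj {s : Finset ι} {e : ι → G → ℂ} {v : G → ℂ}
    (hv : IsGeneralizedCharacter G v) (he : ∀ i ∈ s, IsGeneralizedCharacter G (e i)) :
    IsGeneralizedCharacter G (proj s e v) := by
  unfold proj
  apply genChar_sum
  intro i hi
  obtain ⟨n, hn⟩ := genChar_inner_int hv (he i hi)
  rw [hn]
  exact genChar_intCast_smul (he i hi) n

end Cfsg.Agent.Lib.Helper32
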