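import Mathlib
import Cfsg.Prelude.Def_OddOrderChar
import Cfsg.Agent.Lib.Helper32.CohExt2
import Cfsg.Agent.Lib.Helper32.Ortho
import Cfsg.Agent.Lib.Helper83.Frob

set_option autoImplicit false

namespace Cfsg.Agent.Lib.Helper32

open Cfsg
open scoped ComplexConjugate

theorem genChar_restrict {G : Type*} [Group G] {θ : G → ℂ} (h : IsGeneralizedCharacter G θ)
    (L : Subgroup G) : IsGeneralizedCharacter L (fun l : L => θ l) := by
  obtain ⟨χ, ψ, hχ, hψ, rfl⟩ := h
  exact ⟨_, _, Helper20.isCharacter_restrict hχ L, Helper20.isCharacter_restrict hψ L, rfl⟩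

/-- exact decomposition from a sharp Bessel inequality with four orthonormal vectors -/
theorem four_vector {G : Type*} [Group G] [Fintype G] {v₁ v₂ w₁ w₂ β : G → ℂ}
    (h11 : classInner v₁ v₁ = 1) (h22 : classInner v₂ v₂ = 1) (h33 : classInner w₁ w₁ = 1)
    (h44 : classInner w₂ w₂ = 1) (h12 : classInner v₁ v₂ = 0) (h13 : classInner v₁ w₁ = 0)
    (h14 : classInner v₁ w₂ = 0) (h23 : classInner v₂ w₁ = 0) (h24 : classInner v₂ w₂ = 0)
    (h34 : classInner w₁ w₂ = 0) {a t x : ℤ} (ha : 0 < a)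
    (hβ : classInner β β = 1 + (a : ℂ) ^ 2)
    (b1 : classInner β v₁ = (((t - 1) * a : ℤ) : ℂ)) (b2 : classInner β v₂ = ((t * a : ℤ) : ℂ))
    (b3 : classInner β w₁ = (x : ℂ)) (b4 : classInner β w₂ = ((x - 1 : ℤ) : ℂ)) :
    (t = 0 ∨ t = 1) ∧ (x = 0 ∨ x = 1) ∧
      β = ((t - 1) * a) • v₁ + (t * a) • v₂ + x • w₁ + (x - 1) • w₂ := by
  have hO : OrthoN (Finset.univ : Finset (Fin 4)) ![v₁, v₂, w₁, w₂] := by
    have s12 := classInner_eq_zero_symm h12
    have s13 := classInner_eq_zero_symm h13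
    have s14 := classInner_eq_zero_symm h14
    have s23 := classInner_eq_zero_symm h23
    have s24 := classInner_eq_zero_symm h24
    have s34 := classInner_eq_zero_symm h34
    intro i _ j _
    fin_cases i <;> fin_cases j <;> simp [*]
  have hp := hO.pythagoras β
  rw [Fin.sum_univ_four] at hp
  simp only [Matrix.cons_val_zero, Matrix.cons_val_one, Matrix.cons_val] at hp
  rw [hβ, b1, b2, b3, b4] at hp
  simp only [map_intCast] at hp
  set γ := β - proj (Finset.univ : Finset (Fin 4)) ![v₁, v₂, w₁, w₂] β with hγ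
  have hre := classInner_self_re_nonneg γ
  have him := classInner_self_im γ
  have hp' := congrArg Complex.re hp
  have e1 : (classInner γ γ).re
      = ((1 + a ^ 2 - (((t - 1) * a) ^ 2 + (t * a) ^ 2 + x ^ 2 + (x - 1) ^ 2) : ℤ) : ℝ) := by
    have : (classInner γ γ) = ((1 + a ^ 2 - (((t - 1) * a) ^ 2 + (t * a) ^ 2 + x ^ 2 + (x - 1) ^ 2) : ℤ) : ℂ) := by
      push_cast
      push_cast at hp
      linear_combination -hp
    rw [this]
    exact Complex.intCast_re _
  rw [e1] at hre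
  have hI : 0 ≤ 1 + a ^ 2 - (((t - 1) * a) ^ 2 + (t * a) ^ 2 + x ^ 2 + (x - 1) ^ 2) := by
    exact_mod_cast hre
  have hx : x * (x - 1) ≥ 0 := by
    rcases le_or_gt x 0 with h | h
    · nlinarith
    · nlinarith
  have ht : t * (t - 1) ≥ 0 := by
    rcases le_or_gt t 0 with h | h
    · nlinarith
    · nlinarith
  have ha2 : 0 < a ^ 2 := by positivity
  have ht0 : t * (t - 1) = 0 := by
    by_contra hne
    have : 1 ≤ t * (t - 1) := by
      rcases lt_or_eq_of_le ht with h | h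
      · exact h
      · exact absurd h.symm hne
    nlinarith
  have hx0 : x * (x - 1) = 0 := by
    have h2 : ((t - 1) * a) ^ 2 + (t * a) ^ 2 = a ^ 2 + 2 * (t * (t - 1)) * a ^ 2 := by ring
    rw [ht0] at h2
    nlinarith
  have hzero : 1 + a ^ 2 - (((t - 1) * a) ^ 2 + (t * a) ^ 2 + x ^ 2 + (x - 1) ^ 2) = 0 := by
    have h2 : ((t - 1) * a) ^ 2 + (t * a) ^ 2 = a ^ 2 + 2 * (t * (t - 1)) * a ^ 2 := by ring
    have h3 : x ^ 2 + (x - 1) ^ 2 = 1 + 2 * (x * (x - 1)) := by ring
    rw [ht0] at h2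
    rw [hx0] at h3
    linarith
  refine ⟨?_, ?_, ?_⟩
  · rcases mul_eq_zero.1 ht0 with h | h
    · left; exact h
    · right; linarith
  · rcases mul_eq_zero.1 hx0 with h | h
    · left; exact h
    · right; linarith
  · have hγ0 : γ = 0 := by
      apply classInner_self_eq_zero
      apply Complex.ext
      · rw [e1, hzero]; simp
      · rw [him]; simp
    have h5 : β = proj (Finset.univ : Finset (Fin 4)) ![v₁, v₂, w₁, w₂] β := by
      rw [hγ, sub_eq_zero] at hγ0
      exact hγ0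
    have h6 : proj (Finset.univ : Finset (Fin 4)) ![v₁, v₂, w₁, w₂] β
        = classInner β v₁ • v₁ + classInner β v₂ • v₂ + classInner β w₁ • w₁
          + classInner β w₂ • w₂ := by
      unfold proj
      rw [Fin.sum_univ_four]
      simp only [Matrix.cons_val_zero, Matrix.cons_val_one, Matrix.cons_val]
    rw [h6, b1, b2, b3, b4] at h5
    rw [h5]
    funext g
    simp only [Pi.add_apply, Pi.smul_apply, smul_eq_mul, zsmul_eq_mul]
    simp only [Pi.mul_apply, Pi.intCast_apply]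


theorem conjFun_zsmul {X : Type*} (n : ℤ) (χ : X → ℂ) : conjFun (n • χ) = n • conjFun χ := by
  funext x
  simp [conjFun_apply]

theorem const_on_Z {L : Type*} [Group L] [Fintype L] (Z : Subgroup L) {f : L → ℂ}
    (hf : IsClassFunction L f) {ξ₁ : L → ℂ}
    (hprop : ∀ ξ : L → ℂ, IsIrrCharacter L ξ → (∃ z ∈ Z, ξ z ≠ ξ 1) →
      ξ₁ 1 * classInner f ξ = ξ 1 * classInner f ξ₁)
    {z : L} (hz : z ∈ Z) (hz1 : z ≠ 1) :
    ξ₁ 1 * (f 1 - f z) = classInner f ξ₁ * (Nat.card L : ℂ) := by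
  classical
  haveI := Helper20.finite_irrCharacter (G := L)
  haveI := Fintype.ofFinite (IrrCharacter L)
  have hexp := Helper20.eq_sum_classInner_smul hf
  have e1 := congrFun hexp 1
  have e2 := congrFun hexp z
  simp only [Finset.sum_apply, Pi.smul_apply, smul_eq_mul] at e1 e2
  have d1 := Helper83.delta_expand (G := L) 1
  have d2 := Helper83.delta_expand (G := L) z
  rw [if_pos rfl] at d1
  rw [if_neg hz1] at d2
  rw [e1, e2, ← Finset.sum_sub_distrib, Finset.mul_sum]
  have : (Nat.card L : ℂ) = ∑ χ : IrrCharacter L,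
      ((χ : L → ℂ) 1 * (χ : L → ℂ) 1 - (χ : L → ℂ) 1 * (χ : L → ℂ) z) := by
    rw [Finset.sum_sub_distrib, d1, d2, sub_zero]
  rw [this, Finset.mul_sum]
  apply Finset.sum_congr rfl
  intro χ _
  by_cases h : (χ : L → ℂ) z = (χ : L → ℂ) 1
  · rw [h]; ring
  · have := hprop χ χ.2 ⟨z, hz, h⟩
    linear_combination ((χ : L → ℂ) 1 - (χ : L → ℂ) z) * this

section swap
variable {L : Type*} [Group L] [Fintype L] {G : Type*} [Group G] [Fintype G]

theorem swap_iso {ζ : L → ℂ} (hζ : IsIrrCharacter L ζ)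
    {τ σ : (L → ℂ) → (G → ℂ)} (hσ : IsLinearIsometryOn (zspan {ζ, conjFun ζ}) σ)
    (hag : ∀ α ∈ zspanOn {ζ, conjFun ζ} {1}ᶜ, σ α = τ α) :
    IsLinearIsometryOn (zspan {ζ, conjFun ζ}) (fun α => - σ (conjFun α)) ∧
    (∀ α ∈ zspanOn {ζ, conjFun ζ} {1}ᶜ, - σ (conjFun α) = τ α) := by
  have hpair : ∀ α ∈ zspan {ζ, conjFun ζ}, ∃ x y : ℤ, α = x • ζ + y • conjFun ζ := by
    intro α hα
    obtain ⟨x, y, h⟩ := Submodule.mem_span_pair.1 hα
    exact ⟨x, y, h.symm⟩
  have hmem : ∀ x y : ℤ, x • ζ + y • conjFun ζ ∈ zspan {ζ, conjFun ζ} := by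
    intro x y
    exact Submodule.mem_span_pair.2 ⟨x, y, rfl⟩
  have hconj : ∀ α ∈ zspan {ζ, conjFun ζ}, conjFun α ∈ zspan {ζ, conjFun ζ} := by
    intro α hα
    obtain ⟨x, y, rfl⟩ := hpair α hα
    rw [conjFun_add, conjFun_zsmul, conjFun_zsmul, conjFun_conjFun, add_comm]
    exact hmem y x
  have hgen : ∀ α ∈ zspan {ζ, conjFun ζ}, IsGeneralizedCharacter L α := by
    intro α hα
    obtain ⟨x, y, rfl⟩ := hpair α hα
    exact genChar_add (genChar_zsmul (genChar_of_irr hζ) x)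
      (genChar_zsmul (genChar_of_irr (isIrr_conjFun hζ)) y)
  obtain ⟨h1, h2, h3, h4⟩ := hσ
  refine ⟨⟨?_, ?_, ?_, ?_⟩, ?_⟩
  · intro α hα β hβ
    simp only
    rw [conjFun_add, h1 _ (hconj α hα) _ (hconj β hβ), neg_add]
  · intro α hα n
    simp only
    rw [conjFun_zsmul, h2 _ (hconj α hα), smul_neg]
  · intro α hα β hβ
    simp only
    rw [Helper20.classInner_neg_left, Helper20.classInner_neg_right, neg_neg,
      h3 _ (hconj α hα) _ (hconj β hβ), classInner_conjFun]
    obtain ⟨n, hn⟩ := genChar_inner_int (hgen α hα) (hgen β hβ)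
    rw [hn]
    simp
  · intro α hα
    exact genChar_neg (h4 _ (hconj α hα))
  · intro α hα
    have hα' := hα
    rw [mem_zspanOn_one] at hα
    obtain ⟨x, y, rfl⟩ := hpair α hα.1
    have hz := hα.2
    rw [Pi.add_apply, Pi.smul_apply, Pi.smul_apply,
      conjFun_one_of_char (Helper83.IsIrr.isChar hζ), zsmul_eq_mul, zsmul_eq_mul] at hz
    obtain ⟨n, hn, h1'⟩ := irr_apply_one hζ
    have hxy : x + y = 0 := by
      have : ((x + y : ℤ) : ℂ) * ζ 1 = 0 := by push_cast; linear_combination hz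
      rw [h1'] at this
      have hn' : (n : ℂ) ≠ 0 := by exact_mod_cast hn.ne'
      have := (mul_eq_zero.1 this).resolve_right hn'
      exact_mod_cast this
    have hy : y = -x := by linarith
    subst hy
    have e : conjFun (x • ζ + -x • conjFun ζ) = (-1 : ℤ) • (x • ζ + -x • conjFun ζ) := by
      rw [conjFun_add, conjFun_zsmul, conjFun_zsmul, conjFun_conjFun]
      simp only [neg_smul, one_smul, neg_add, neg_neg]
      abel
    rw [e, h2 _ hα.1, ← hag _ hα']
    simp

end swap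

end Cfsg.Agent.Lib.Helper32
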