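import Cfsg.Agent.Lib.Helper32.GenChar

set_option autoImplicit false

namespace Cfsg.Agent.Lib.Helper32

open Cfsg Cfsg.Agent.Lib.Helper20
open scoped ComplexConjugate

universe u

variable {G : Type u} [Group G]

/-- an irreducible character up to sign -/
def SignedIrr (G : Type u) [Group G] (α : G → ℂ) : Prop :=
  IsIrrCharacter G α ∨ IsIrrCharacter G (-α)

theorem SignedIrr.neg {α : G → ℂ} (h : SignedIrr G α) : SignedIrr G (-α) := by
  rcases h with h | h
  · right; simpa using h
  · left; exact h

theorem SignedIrr.genChar {α : G → ℂ} (h : SignedIrr G α) : IsGeneralizedCharacter G α := by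
  rcases h with h | h
  · exact genChar_of_irr h
  · simpa using genChar_neg (genChar_of_irr h)

theorem SignedIrr.one_ne {α : G → ℂ} (h : SignedIrr G α) : α 1 ≠ 0 := by
  rcases h with h | h
  · obtain ⟨n, hn, h1⟩ := irr_apply_one h
    rw [h1]; exact_mod_cast hn.ne'
  · obtain ⟨n, hn, h1⟩ := irr_apply_one h
    intro h0
    simp only [Pi.neg_apply, h0, neg_zero] at h1
    exact hn.ne' (by exact_mod_cast h1.symm)

variable [Fintype G]

theorem SignedIrr.inner_self {α : G → ℂ} (h : SignedIrr G α) : classInner α α = 1 := by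
  rcases h with h | h
  · exact classInner_irr_self h
  · have := classInner_irr_self h
    rwa [classInner_neg_left, classInner_neg_right, neg_neg] at this

theorem SignedIrr.cases {α γ : G → ℂ} (hα : SignedIrr G α) (hγ : SignedIrr G γ) :
    classInner α γ = 0 ∨ ∃ ε : ℝ, (ε = 1 ∨ ε = -1) ∧ α = (ε : ℂ) • γ := by
  rcases hα with hα | hα <;> rcases hγ with hγ | hγ
  · by_cases h : α = γ
    · right; exact ⟨1, Or.inl rfl, by simp [h]⟩
    · left; exact classInner_irr_ne hα hγ h
  · by_cases h : α = -γ
    · right; exact ⟨-1, Or.inr rfl, by simp [h]⟩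
    · left
      have := classInner_irr_ne hα hγ h
      rwa [classInner_neg_right, neg_eq_zero] at this
  · by_cases h : -α = γ
    · right; exact ⟨-1, Or.inr rfl, by simp [← h]⟩
    · left
      have := classInner_irr_ne hα hγ h
      rwa [classInner_neg_left, neg_eq_zero] at this
  · by_cases h : -α = -γ
    · right; exact ⟨1, Or.inl rfl, by simp [neg_injective h]⟩
    · left
      have := classInner_irr_ne hα hγ h
      rwa [classInner_neg_left, classInner_neg_right, neg_neg] at this

theorem classInner_eq_zero_symm {α β : G → ℂ} (h : classInner α β = 0) : classInner β α = 0 := by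
  rw [← classInner_conj_symm, h]; simp

theorem four_aux {α β γ δ : G → ℂ} (hα : SignedIrr G α) (hβ : SignedIrr G β)
    (hγ : SignedIrr G γ) (hδ : SignedIrr G δ) (a b u v : ℝ) (ha : a ≠ 0) (hu : u ≠ 0)
    (hab : classInner α β = 0) (hcd : classInner γ δ = 0)
    (hmix : classInner ((a : ℂ) • α - (b : ℂ) • β) ((u : ℂ) • γ - (v : ℂ) • δ) = 0)
    (h1 : (a : ℂ) * α 1 = (b : ℂ) * β 1) (h2 : (u : ℂ) * γ 1 = (v : ℂ) * δ 1) :
    classInner α γ = 0 := by
  rcases hα.cases hγ with h | ⟨ε, hε, rfl⟩
  · exact h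
  exfalso
  have hε0 : ε ≠ 0 := by rcases hε with h | h <;> rw [h] <;> norm_num
  have hγβ : classInner γ β = 0 := by
    rw [classInner_smul_left] at hab
    rcases mul_eq_zero.1 hab with h | h
    · exact absurd (by exact_mod_cast h) hε0
    · exact h
  have hβγ := classInner_eq_zero_symm hγβ
  simp only [classInner_sub_left, classInner_sub_right, classInner_smul_left,
    classInner_smul_right, Complex.conj_ofReal, hγ.inner_self, hcd, hβγ, mul_zero, sub_zero,
    mul_one] at hmix
  have hγ1 := hγ.one_ne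
  rcases hβ.cases hδ with h | ⟨ε', hε', rfl⟩
  · rw [h] at hmix
    simp only [mul_zero, sub_zero] at hmix
    have : a * (u * ε) = 0 := by
      have h' : (a : ℂ) * (u * ε) = 0 := by linear_combination hmix
      exact_mod_cast h'
    rcases mul_eq_zero.1 this with h | h
    · exact ha h
    · rcases mul_eq_zero.1 h with h | h
      · exact hu h
      · exact hε0 h
  · simp only [classInner_smul_left, hδ.inner_self, mul_one, Pi.smul_apply, smul_eq_mul] at hmix h1
    have e1 : a * (u * ε) + b * (v * ε') = 0 := by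
      have h' : (a : ℂ) * (u * ε) + b * (v * ε') = 0 := by linear_combination hmix
      exact_mod_cast h'
    have e2 : a * ε * v = b * ε' * u := by
      have : ((a : ℂ) * ε * v - b * ε' * u) * γ 1 = 0 := by
        linear_combination (v : ℂ) * h1 - (b : ℂ) * ε' * h2
      rcases mul_eq_zero.1 this with h | h
      · have h' : (a : ℂ) * ε * v = b * ε' * u := by linear_combination h
        exact_mod_cast h'
      · exact absurd h hγ1
    have e3 : a * ε * (u ^ 2 + v ^ 2) = 0 := by
      linear_combination u * e1 + v * e2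
    have hpos : 0 < u ^ 2 + v ^ 2 := by positivity
    rcases mul_eq_zero.1 e3 with h | h
    · rcases mul_eq_zero.1 h with h | h
      · exact ha h
      · exact hε0 h
    · exact hpos.ne' h

theorem four_signed {α β γ δ : G → ℂ} (hα : SignedIrr G α) (hβ : SignedIrr G β)
    (hγ : SignedIrr G γ) (hδ : SignedIrr G δ) (a b u v : ℝ) (ha : a ≠ 0) (hb : b ≠ 0)
    (hu : u ≠ 0) (hv : v ≠ 0)
    (hab : classInner α β = 0) (hcd : classInner γ δ = 0)
    (hmix : classInner ((a : ℂ) • α - (b : ℂ) • β) ((u : ℂ) • γ - (v : ℂ) • δ) = 0)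
    (h1 : (a : ℂ) * α 1 = (b : ℂ) * β 1) (h2 : (u : ℂ) * γ 1 = (v : ℂ) * δ 1) :
    classInner α γ = 0 ∧ classInner α δ = 0 ∧ classInner β γ = 0 ∧ classInner β δ = 0 := by
  have hba := classInner_eq_zero_symm hab
  have hdc := classInner_eq_zero_symm hcd
  have m1 : classInner ((a : ℂ) • α - (b : ℂ) • β) ((v : ℂ) • δ - (u : ℂ) • γ) = 0 := by
    rw [← neg_sub ((u : ℂ) • γ), classInner_neg_right, hmix, neg_zero]
  have m2 : classInner ((b : ℂ) • β - (a : ℂ) • α) ((u : ℂ) • γ - (v : ℂ) • δ) = 0 := by
    rw [← neg_sub ((a : ℂ) • α), classInner_neg_left, hmix, neg_zero]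
  have m3 : classInner ((b : ℂ) • β - (a : ℂ) • α) ((v : ℂ) • δ - (u : ℂ) • γ) = 0 := by
    rw [← neg_sub ((a : ℂ) • α), classInner_neg_left, m1, neg_zero]
  exact ⟨four_aux hα hβ hγ hδ a b u v ha hu hab hcd hmix h1 h2,
    four_aux hα hβ hδ hγ a b v u ha hv hab hdc m1 h1 h2.symm,
    four_aux hβ hα hγ hδ b a u v hb hu hba hcd m2 h1.symm h2,
    four_aux hβ hα hδ hγ b a v u hb hv hba hdc m3 h1.symm h2.symm⟩

end Cfsg.Agent.Lib.Helper32
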