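import Mathlib
import Cfsg.Prelude.Def_OddOrderChar
import Cfsg.Agent.Lib.Helper32.Sib1
import Cfsg.Agent.Lib.Helper32.SignedIrr
import Cfsg.Agent.Lib.Helper19.GramRigid
import Cfsg.Agent.S1531

set_option autoImplicit false

namespace Cfsg.Agent.Lib.Helper32

open Cfsg
open scoped ComplexConjugate commutatorElement

section
variable {G : Type*} [Group G] [Fintype G] (L : Subgroup G) [Fintype L] (K : Subgroup L)

theorem sib_stepC (Z : Subgroup L) (hZ1 : Z ≠ ⊥) {ψ : G → ℂ} (hψ : SignedIrr G ψ)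
    {ξ₁ : L → ℂ} {a : ℕ} (ha : 0 < a) (hξ₁ : ξ₁ 1 = (K.index : ℂ) * a)
    (hprop : ∀ ξ : L → ℂ, IsIrrCharacter L ξ → (∃ z ∈ Z, ξ z ≠ ξ 1) →
      ξ₁ 1 * classInner (fun l : L => ψ l) ξ = ξ 1 * classInner (fun l : L => ψ l) ξ₁)
    (h67 : ∀ ψ : G → ℂ, IsIrrCharacter G ψ →
      (∀ z z' : L, z ∈ Z → z' ∈ Z → z ≠ 1 → z' ≠ 1 → ψ z = ψ z') →
      ∀ z : L, z ∈ Z → z ≠ 1 → ∃ k : ℤ, ψ 1 - ψ z = (Nat.card K : ℂ) * k) :
    ∃ k : ℤ, classInner (fun l : L => ψ l) ξ₁ = (a : ℂ) * k := by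
  have hcl : IsClassFunction L (fun l : L => ψ l) :=
    genChar_isClassFunction (genChar_restrict hψ.genChar L)
  have hKpos : (K.index : ℂ) ≠ 0 := by
    have : K.index ≠ 0 := Subgroup.index_ne_zero_of_finite
    exact_mod_cast this
  have ha' : (a : ℂ) ≠ 0 := by exact_mod_cast ha.ne'
  have hξ0 : ξ₁ 1 ≠ 0 := by rw [hξ₁]; exact mul_ne_zero hKpos ha'
  have hform : ∀ z : L, z ∈ Z → z ≠ 1 →
      ξ₁ 1 * (ψ 1 - ψ z) = classInner (fun l : L => ψ l) ξ₁ * (Nat.card L : ℂ) := by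
    intro z hz hz1
    have := const_on_Z Z hcl hprop hz hz1
    simpa using this
  have hconst : ∀ z z' : L, z ∈ Z → z' ∈ Z → z ≠ 1 → z' ≠ 1 → ψ z = ψ z' := by
    intro z z' hz hz' hz1 hz1'
    have h1 := hform z hz hz1
    have h2 := hform z' hz' hz1'
    have h3 : ξ₁ 1 * (ψ z - ψ z') = 0 := by linear_combination h2 - h1
    exact sub_eq_zero.1 ((mul_eq_zero.1 h3).resolve_left hξ0)
  obtain ⟨z, hz, hz1⟩ := (Subgroup.ne_bot_iff_exists_ne_one).1 hZ1 |>.elim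
    (fun z hz => (⟨z.1, z.2, fun h => hz (Subtype.ext h)⟩ : ∃ z : L, z ∈ Z ∧ z ≠ 1))
  obtain ⟨k, hk⟩ : ∃ k : ℤ, ψ 1 - ψ z = (Nat.card K : ℂ) * k := by
    rcases hψ with h | h
    · exact h67 ψ h hconst z hz hz1
    · obtain ⟨k, hk⟩ := h67 (-ψ) h (fun z z' hz hz' h1 h1' => by
        simp only [Pi.neg_apply]; rw [hconst z z' hz hz' h1 h1']) z hz hz1
      refine ⟨-k, ?_⟩
      simp only [Pi.neg_apply] at hk
      push_cast
      linear_combination -hk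
  refine ⟨k, ?_⟩
  have h1 := hform z hz hz1
  rw [hk, hξ₁, ← K.card_mul_index] at h1
  have hKc : (Nat.card K : ℂ) ≠ 0 := by exact_mod_cast Nat.card_pos.ne'
  push_cast at h1
  have h2 : ((Nat.card K : ℂ) * (K.index : ℂ)) * (classInner (fun l : L => ψ l) ξ₁ - a * k) = 0 := by
    linear_combination -h1
  exact sub_eq_zero.1 ((mul_eq_zero.1 h2).resolve_left (mul_ne_zero hKc hKpos))


theorem glue_abstract (S X Y : Set (L → ℂ)) (hirr : ∀ ξ ∈ S, IsIrrCharacter L ξ)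
    (hXS : X ⊆ S) (hYS : Y ⊆ S) (hXY : Disjoint X Y)
    (hXc : ∀ ξ ∈ X, conjFun ξ ∈ X) (hYc : ∀ ξ ∈ Y, conjFun ξ ∈ Y)
    (hreal : ∀ ξ ∈ S, conjFun ξ ≠ ξ)
    (τ : (L → ℂ) → (G → ℂ)) (hτ : IsLinearIsometryOn (zspanOn S {1}ᶜ) τ)
    (hτ1 : ∀ θ ∈ zspanOn S {1}ᶜ, τ θ 1 = 0)
    (σ τ₂ : (L → ℂ) → (G → ℂ)) (hσ : IsLinearIsometryOn (zspan X) σ)
    (hσα : ∀ θ ∈ zspanOn X {1}ᶜ, σ θ = τ θ) (hτ₂ : IsLinearIsometryOn (zspan Y) τ₂)
    (hτ₂α : ∀ θ ∈ zspanOn Y {1}ᶜ, τ₂ θ = τ θ)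
    (ξ₁ η₁ : L → ℂ) (hξ₁ : ξ₁ ∈ X) (hη₁ : η₁ ∈ Y) (a : ℤ) (ha : 0 < a)
    (hdeg : ξ₁ 1 = a * η₁ 1) (hYdeg : ∀ η ∈ Y, η 1 = η₁ 1)
    (hdiv : ∃ t : ℤ, classInner (τ (ξ₁ - a • η₁)) (τ₂ (conjFun η₁)) = ((t * a : ℤ) : ℂ)) :
    IsCoherent (X ∪ Y) {1}ᶜ τ := by
  classical
  have hξ₂ := hXc ξ₁ hξ₁
  have hη₂ := hYc η₁ hη₁
  have hξne := hreal ξ₁ (hXS hξ₁)
  have hηne := hreal η₁ (hYS hη₁)
  have hX2 : ∃ a ∈ X, ∃ b ∈ X, a ≠ b := ⟨_, hξ₂, _, hξ₁, hξne⟩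
  have hY2 : ∃ a ∈ Y, ∃ b ∈ Y, a ≠ b := ⟨_, hη₂, _, hη₁, hηne⟩
  have horth := (Cfsg.Agent.S1531.result L S X Y hirr hXS hYS hXY hX2 hY2 τ hτ hτ1 σ τ₂ hσ hσα
    hτ₂ hτ₂α).1
  have ip : ∀ χ ∈ S, ∀ φ ∈ S, classInner χ φ = if χ = φ then 1 else 0 := by
    intro χ hχ φ hφ
    split_ifs with h
    · rw [h]; exact Helper20.classInner_irr_self (hirr φ hφ)
    · exact Helper20.classInner_irr_ne (hirr χ hχ) (hirr φ hφ) h
  have hXYne : ∀ ξ ∈ X, ∀ η ∈ Y, ξ ≠ η := by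
    intro ξ hξ η hη h
    exact Set.disjoint_left.1 hXY hξ (h ▸ hη)
  have hconj1 : ∀ ξ ∈ S, conjFun ξ 1 = ξ 1 := fun ξ hξ =>
    conjFun_one_of_char (Helper83.IsIrr.isChar (hirr ξ hξ))
  -- membership facts
  have mS : ∀ ξ ∈ S, ξ ∈ zspan S := fun ξ hξ => zspan_of_mem hξ
  have hα₀ : ξ₁ - a • η₁ ∈ zspanOn S {1}ᶜ := by
    rw [mem_zspanOn_one]
    refine ⟨Submodule.sub_mem _ (mS _ (hXS hξ₁)) (Submodule.smul_mem _ _ (mS _ (hYS hη₁))), ?_⟩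
    rw [Pi.sub_apply, Pi.smul_apply, hdeg, zsmul_eq_mul, sub_self]
  set β := τ (ξ₁ - a • η₁) with hβdef
  have hβgen : IsGeneralizedCharacter G β := hτ.2.2.2 _ hα₀
  -- inner product of β with τ of something
  have hβτ : ∀ θ ∈ zspanOn S {1}ᶜ, classInner β (τ θ) = classInner (ξ₁ - a • η₁) θ :=
    fun θ hθ => hτ.2.2.1 _ hα₀ _ hθ
  have hββ : classInner β β = 1 + (a : ℂ) ^ 2 := by
    rw [hβτ _ hα₀, Helper20.classInner_sub_left, Helper20.classInner_sub_right,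
      Helper20.classInner_sub_right, classInner_zsmul_left, classInner_zsmul_right,
      classInner_zsmul_left, classInner_zsmul_right, ip _ (hXS hξ₁) _ (hXS hξ₁),
      ip _ (hXS hξ₁) _ (hYS hη₁), ip _ (hYS hη₁) _ (hXS hξ₁), ip _ (hYS hη₁) _ (hYS hη₁),
      if_pos rfl, if_pos rfl, if_neg (hXYne _ hξ₁ _ hη₁), if_neg (hXYne _ hξ₁ _ hη₁).symm]
    ring
  -- difference elements in Y
  have hYdiff : ∀ η ∈ Y, ∀ η' ∈ Y, η - η' ∈ zspanOn Y {1}ᶜ := by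
    intro η hη η' hη'
    rw [mem_zspanOn_one]
    refine ⟨Submodule.sub_mem _ (zspan_of_mem hη) (zspan_of_mem hη'), ?_⟩
    rw [Pi.sub_apply, hYdeg η hη, hYdeg η' hη', sub_self]
  have hβY : ∀ η ∈ Y, ∀ η' ∈ Y, classInner β (τ₂ η) - classInner β (τ₂ η')
      = classInner (ξ₁ - a • η₁) (η - η') := by
    intro η hη η' hη'
    rw [← Helper20.classInner_sub_right, ← iso_map_sub hτ₂ (zspan_of_mem hη) (zspan_of_mem hη'),
      hτ₂α _ (hYdiff η hη η' hη'), hβτ _ (zspanOn_mono hYS _ (hYdiff η hη η' hη'))]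
  have hα₀Y : ∀ η ∈ Y, classInner (ξ₁ - a • η₁) η = if η₁ = η then -(a : ℂ) else 0 := by
    intro η hη
    rw [Helper20.classInner_sub_left, classInner_zsmul_left, ip _ (hXS hξ₁) _ (hYS hη),
      ip _ (hYS hη₁) _ (hYS hη), if_neg (hXYne _ hξ₁ _ hη)]
    split_ifs <;> ring
  have hα₀X : ∀ ξ ∈ X, classInner (ξ₁ - a • η₁) ξ = if ξ₁ = ξ then 1 else 0 := by
    intro ξ hξ
    rw [Helper20.classInner_sub_left, classInner_zsmul_left, ip _ (hXS hξ₁) _ (hXS hξ),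
      ip _ (hYS hη₁) _ (hXS hξ), if_neg (hXYne _ hξ _ hη₁).symm]
    ring
  obtain ⟨t, ht⟩ := hdiv
  have b2 : classInner β (τ₂ (conjFun η₁)) = ((t * a : ℤ) : ℂ) := ht
  have b1 : classInner β (τ₂ η₁) = (((t - 1) * a : ℤ) : ℂ) := by
    have := hβY η₁ hη₁ _ hη₂
    rw [Helper20.classInner_sub_right, hα₀Y _ hη₁, hα₀Y _ hη₂, if_pos rfl, if_neg hηne.symm, b2]
      at this
    push_cast at this ⊢
    linear_combination this
  -- degrees in X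
  have hXdeg : ∀ ξ ∈ X, ∃ n : ℤ, 0 < n ∧ ξ 1 = n := by
    intro ξ hξ
    obtain ⟨n, hn, h⟩ := irr_apply_one (hirr ξ (hXS hξ))
    exact ⟨n, by exact_mod_cast hn, by simpa using h⟩
  have hXdiff : ∀ ξ ∈ X, ∀ ξ' ∈ X, ∀ n n' : ℤ, ξ 1 = n → ξ' 1 = n' →
      n' • ξ - n • ξ' ∈ zspanOn X {1}ᶜ := by
    intro ξ hξ ξ' hξ' n n' hn hn'
    rw [mem_zspanOn_one]
    refine ⟨Submodule.sub_mem _ (Submodule.smul_mem _ _ (zspan_of_mem hξ))
      (Submodule.smul_mem _ _ (zspan_of_mem hξ')), ?_⟩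
    rw [Pi.sub_apply, Pi.smul_apply, Pi.smul_apply, hn, hn', zsmul_eq_mul, zsmul_eq_mul]
    ring
  have hβX : ∀ ξ ∈ X, ∀ ξ' ∈ X, ∀ n n' : ℤ, ξ 1 = n → ξ' 1 = n' →
      n' * classInner β (σ ξ) - n * classInner β (σ ξ')
        = n' * classInner (ξ₁ - a • η₁) ξ - n * classInner (ξ₁ - a • η₁) ξ' := by
    intro ξ hξ ξ' hξ' n n' hn hn'
    have h1 := hXdiff ξ hξ ξ' hξ' n n' hn hn'
    have h2 := hβτ _ (zspanOn_mono hXS _ h1)
    rw [← hσα _ h1, iso_map_sub hσ (Submodule.smul_mem _ _ (zspan_of_mem hξ))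
      (Submodule.smul_mem _ _ (zspan_of_mem hξ')), iso_map_zsmul hσ (zspan_of_mem hξ),
      iso_map_zsmul hσ (zspan_of_mem hξ'), Helper20.classInner_sub_right,
      Helper20.classInner_sub_right, classInner_zsmul_right, classInner_zsmul_right,
      classInner_zsmul_right, classInner_zsmul_right] at h2
    exact h2
  obtain ⟨x, hx⟩ := genChar_inner_int hβgen (iso_genChar hσ (zspan_of_mem hξ₁))
  obtain ⟨n₁, hn₁pos, hn₁⟩ := hXdeg ξ₁ hξ₁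
  have hn₁' : (n₁ : ℂ) ≠ 0 := by exact_mod_cast hn₁pos.ne'
  have b4 : classInner β (σ (conjFun ξ₁)) = ((x - 1 : ℤ) : ℂ) := by
    have := hβX ξ₁ hξ₁ _ hξ₂ n₁ n₁ hn₁ (by rw [hconj1 _ (hXS hξ₁), hn₁])
    rw [hα₀X _ hξ₁, hα₀X _ hξ₂, if_pos rfl, if_neg hξne.symm, hx] at this
    have h3 : (n₁ : ℂ) * (classInner β (σ (conjFun ξ₁)) - (x - 1)) = 0 := by
      linear_combination -this
    have := sub_eq_zero.1 ((mul_eq_zero.1 h3).resolve_left hn₁')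
    rw [this]; push_cast; ring
  -- orthonormality
  have nσ : ∀ ξ ∈ X, ∀ ξ' ∈ X, classInner (σ ξ) (σ ξ') = if ξ = ξ' then 1 else 0 := by
    intro ξ hξ ξ' hξ'
    rw [iso_inner hσ (zspan_of_mem hξ) (zspan_of_mem hξ'), ip _ (hXS hξ) _ (hXS hξ')]
  have nτ : ∀ η ∈ Y, ∀ η' ∈ Y, classInner (τ₂ η) (τ₂ η') = if η = η' then 1 else 0 := by
    intro η hη η' hη'
    rw [iso_inner hτ₂ (zspan_of_mem hη) (zspan_of_mem hη'), ip _ (hYS hη) _ (hYS hη')]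
  have horth' : ∀ η ∈ Y, ∀ ξ ∈ X, classInner (τ₂ η) (σ ξ) = 0 := fun η hη ξ hξ =>
    classInner_eq_zero_symm (horth ξ hξ η hη)
  obtain ⟨ht01, hx01, hform⟩ := four_vector (v₁ := τ₂ η₁) (v₂ := τ₂ (conjFun η₁)) (w₁ := σ ξ₁)
    (w₂ := σ (conjFun ξ₁)) (β := β)
    (by rw [nτ _ hη₁ _ hη₁, if_pos rfl]) (by rw [nτ _ hη₂ _ hη₂, if_pos rfl])
    (by rw [nσ _ hξ₁ _ hξ₁, if_pos rfl]) (by rw [nσ _ hξ₂ _ hξ₂, if_pos rfl])
    (by rw [nτ _ hη₁ _ hη₂, if_neg hηne.symm]) (horth' _ hη₁ _ hξ₁) (horth' _ hη₁ _ hξ₂)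
    (horth' _ hη₂ _ hξ₁) (horth' _ hη₂ _ hξ₂) (by rw [nσ _ hξ₁ _ hξ₂, if_neg hξne.symm])
    ha hββ b1 b2 hx b4
  have ha' : (a : ℂ) ≠ 0 := by exact_mod_cast ha.ne'
  -- the Y side
  obtain ⟨τ₂', hτ₂', hτ₂α', hYform⟩ : ∃ τ₂' : (L → ℂ) → (G → ℂ),
      IsLinearIsometryOn (zspan Y) τ₂' ∧ (∀ θ ∈ zspanOn Y {1}ᶜ, τ₂' θ = τ θ) ∧
      ((t - 1) * a) • τ₂ η₁ + (t * a) • τ₂ (conjFun η₁) = (-a) • τ₂' η₁ := by
    rcases ht01 with rfl | rfl
    · exact ⟨τ₂, hτ₂, hτ₂α, by simp⟩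
    · have hYeq : Y = {η₁, conjFun η₁} := by
        ext η
        constructor
        · intro hη
          by_contra hcon
          simp only [Set.mem_insert_iff, Set.mem_singleton_iff, not_or] at hcon
          have h1 := hβY η hη _ hη₂
          rw [Helper20.classInner_sub_right, hα₀Y _ hη, hα₀Y _ hη₂, if_neg (Ne.symm hcon.1),
            if_neg hηne.symm, b2] at h1
          have h2 : classInner β (τ₂ η) = 0 := by
            rw [hform, Helper20.classInner_add_left, Helper20.classInner_add_left,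
              Helper20.classInner_add_left, classInner_zsmul_left, classInner_zsmul_left,
              classInner_zsmul_left, classInner_zsmul_left, nτ _ hη₁ _ hη, nτ _ hη₂ _ hη,
              horth _ hξ₁ _ hη, horth _ hξ₂ _ hη, if_neg (Ne.symm hcon.1), if_neg (Ne.symm hcon.2)]
            ring
          rw [h2] at h1
          apply ha'
          push_cast at h1
          linear_combination -h1
        · intro hη
          simp only [Set.mem_insert_iff, Set.mem_singleton_iff] at hη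
          rcases hη with rfl | rfl
          · exact hη₁
          · exact hη₂
      have hsw := swap_iso (τ := τ) (σ := τ₂) (hirr η₁ (hYS hη₁)) (hYeq ▸ hτ₂) (hYeq ▸ hτ₂α)
      refine ⟨fun α => - τ₂ (conjFun α), ?_, ?_, ?_⟩
      · rw [hYeq]; exact hsw.1
      · rw [hYeq]; exact hsw.2
      · simp
  -- the X side
  obtain ⟨σ', hσ', hσα', hXform⟩ : ∃ σ' : (L → ℂ) → (G → ℂ),
      IsLinearIsometryOn (zspan X) σ' ∧ (∀ θ ∈ zspanOn X {1}ᶜ, σ' θ = τ θ) ∧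
      x • σ ξ₁ + (x - 1) • σ (conjFun ξ₁) = σ' ξ₁ := by
    rcases hx01 with rfl | rfl
    · have hXeq : X = {ξ₁, conjFun ξ₁} := by
        ext ξ
        constructor
        · intro hξ
          by_contra hcon
          simp only [Set.mem_insert_iff, Set.mem_singleton_iff, not_or] at hcon
          obtain ⟨n, hnpos, hn⟩ := hXdeg ξ hξ
          have h1 := hβX ξ₁ hξ₁ ξ hξ n₁ n hn₁ hn
          rw [hα₀X _ hξ₁, hα₀X _ hξ, if_pos rfl, if_neg (Ne.symm hcon.1), hx] at h1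
          have h2 : classInner β (σ ξ) = 0 := by
            rw [hform, Helper20.classInner_add_left, Helper20.classInner_add_left,
              Helper20.classInner_add_left, classInner_zsmul_left, classInner_zsmul_left,
              classInner_zsmul_left, classInner_zsmul_left, nσ _ hξ₁ _ hξ, nσ _ hξ₂ _ hξ,
              horth' _ hη₁ _ hξ, horth' _ hη₂ _ hξ, if_neg (Ne.symm hcon.1), if_neg (Ne.symm hcon.2)]
            ring
          rw [h2] at h1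
          have : (n : ℂ) = 0 := by
            push_cast at h1
            linear_combination -h1
          exact hnpos.ne' (by exact_mod_cast this)
        · intro hξ
          simp only [Set.mem_insert_iff, Set.mem_singleton_iff] at hξ
          rcases hξ with rfl | rfl
          · exact hξ₁
          · exact hξ₂
      have hsw := swap_iso (τ := τ) (σ := σ) (hirr ξ₁ (hXS hξ₁)) (hXeq ▸ hσ) (hXeq ▸ hσα)
      refine ⟨fun α => - σ (conjFun α), ?_, ?_, ?_⟩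
      · rw [hXeq]; exact hsw.1
      · rw [hXeq]; exact hsw.2
      · simp
    · exact ⟨σ, hσ, hσα, by simp⟩
  have hfinal : β = (-a) • τ₂' η₁ + σ' ξ₁ := by
    rw [hform, hYform, ← hXform, add_assoc]
  refine (Cfsg.Agent.S1531.result L S X Y hirr hXS hYS hXY hX2 hY2 τ hτ hτ1 σ' τ₂' hσ' hσα'
    hτ₂' hτ₂α').2 ⟨ξ₁, hξ₁, η₁, hη₁, ?_⟩
  obtain ⟨m, hm, hm1⟩ := irr_apply_one (hirr η₁ (hYS hη₁))
  have e1 : ξ₁ 1 • η₁ - η₁ 1 • ξ₁ = (-(m : ℤ)) • (ξ₁ - a • η₁) := by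
    funext g
    simp only [Pi.sub_apply, Pi.smul_apply, smul_eq_mul, zsmul_eq_mul, hdeg, hm1, Pi.mul_apply,
      Pi.intCast_apply, Pi.neg_apply]
    push_cast
    ring
  rw [e1, hτ.2.1 _ hα₀, ← hβdef, hfinal]
  funext g
  simp only [Pi.sub_apply, Pi.add_apply, Pi.smul_apply, smul_eq_mul, zsmul_eq_mul, hdeg, hm1,
    Pi.mul_apply, Pi.intCast_apply, Pi.neg_apply]
  push_cast
  ring

end

end Cfsg.Agent.Lib.Helper32
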