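import Mathlib
import Cfsg.Prelude.Def_OddOrderChar
import Cfsg.Agent.Lib.Helper32.IndAbove
import Cfsg.Agent.Lib.Helper82.Codegree

set_option autoImplicit false

namespace Cfsg.Agent.Lib.Helper32

open Cfsg
open scoped ComplexConjugate commutatorElement

section
variable {L : Type*} [Group L] [Fintype L] (K : Subgroup L) [hK : K.Normal]

theorem indFun_res_inner_ne_zero [Fintype K] {θ : K → ℂ} (hθ : IsIrrCharacter K θ) :
    classInner (fun k : K => indFun K θ k) θ ≠ 0 := by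
  have hφc : IsCharacter L (indFun K θ) :=
    Helper19.isCharacter_indFun K θ (Helper83.IsIrr.isChar hθ)
  have hres : IsCharacter K (fun k : K => indFun K θ k) := Helper20.isCharacter_restrict hφc K
  rw [genChar_inner_comm (genChar_of_char hres) (genChar_of_irr hθ),
    ← Helper19.frobenius_reciprocity K θ _ (Helper20.isClassFunction_of_isCharacter hφc)]
  intro h
  have h0 := classInner_self_eq_zero h
  have h1 := congrFun h0 1
  rw [Helper82.indFun_one] at h1
  obtain ⟨n, hn, h2⟩ := irr_apply_one hθ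
  rw [h2] at h1
  have : K.index ≠ 0 := Subgroup.index_ne_zero_of_finite
  exact (mul_ne_zero (by exact_mod_cast this) (by exact_mod_cast hn.ne')) h1

theorem ker_of_indFun_mem {A : Subgroup L} [hA : A.Normal] {θ : K → ℂ} (hθ : IsIrrCharacter K θ)
    (h : indFun K θ ∈ inducedIrrAbove K A) : ∀ a : K, (a : L) ∈ A → θ a = θ 1 := by
  haveI := Fintype.ofFinite K
  obtain ⟨θ', h0, h1, h2, heq⟩ := h
  intro a ha
  have hφc : IsCharacter L (indFun K θ) :=
    Helper19.isCharacter_indFun K θ (Helper83.IsIrr.isChar hθ)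
  have hres : IsCharacter K (fun k : K => indFun K θ k) := Helper20.isCharacter_restrict hφc K
  apply ker_of_constituent hres hθ (indFun_res_inner_ne_zero K hθ)
  show indFun K θ a = indFun K θ (1 : K)
  rw [heq]
  exact indFun_ker K A θ' h2 a ha

open Classical in
theorem fiber_sum (A : Subgroup L) [hA : A.Normal]
    (horth : ∀ χ ∈ inducedIrrAbove K A, ∀ φ ∈ inducedIrrAbove K A, χ ≠ φ → classInner χ φ = 0)
    {φ : L → ℂ} (hφ : φ ∈ inducedIrrAbove K A) :
    φ 1 ^ 2 = classInner φ φ *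
      ∑ θ ∈ (irrAbove K A).filter (fun θ : IrrCharacter K => indFun K (θ : K → ℂ) = φ),
        (K.index : ℂ) * (θ : K → ℂ) 1 ^ 2 := by
  have h1 := indAbove_c_mul_norm K A horth hφ
  have h2 : ∑ θ ∈ (irrAbove K A).filter (fun θ : IrrCharacter K => indFun K (θ : K → ℂ) = φ),
        (K.index : ℂ) * (θ : K → ℂ) 1 ^ 2
      = φ 1 * ∑ θ ∈ (irrAbove K A).filter (fun θ : IrrCharacter K => indFun K (θ : K → ℂ) = φ),
        (θ : K → ℂ) 1 := by
    rw [Finset.mul_sum]
    apply Finset.sum_congr rfl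
    intro θ hθ
    rw [Finset.mem_filter] at hθ
    rw [← hθ.2, Helper82.indFun_one]
    ring
  rw [h2, pow_two]
  nth_rewrite 1 [← h1]
  ring

theorem sum_irrAbove_charDegree (A : Subgroup L) [hA : A.Normal] :
    ∑ θ ∈ irrAbove K A, charDegree (θ : K → ℂ) ^ 2 + 1 = A.relIndex K := by
  have h := sum_irrAbove_sq K A
  have h2 : ((∑ θ ∈ irrAbove K A, charDegree (θ : K → ℂ) ^ 2 + 1 : ℕ) : ℂ) = (A.relIndex K : ℂ) := by
    push_cast
    rw [eq_sub_iff_add_eq] at h
    rw [← h]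
    congr 1
    apply Finset.sum_congr rfl
    intro θ _
    rw [Helper82.isChar_one_eq (Helper83.IsIrr.isChar θ.2)]
  exact_mod_cast h2


theorem irrAbove_mono {A B : Subgroup L} (h : A ≤ B) : irrAbove K B ⊆ irrAbove K A := by
  intro θ hθ
  rw [mem_irrAbove] at hθ ⊢
  exact ⟨hθ.1, fun a ha => hθ.2 a (h ha)⟩

theorem indFun_mem_indAbove_iff {A : Subgroup L} [hA : A.Normal] {θ : IrrCharacter K}
    (hθ : θ ∈ irrAbove K ⊥) : indFun K (θ : K → ℂ) ∈ indAbove K A ↔ θ ∈ irrAbove K A := by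
  rw [mem_indAbove, mem_irrAbove]
  rw [mem_irrAbove] at hθ
  constructor
  · intro h
    exact ⟨hθ.1, ker_of_indFun_mem K θ.2 h⟩
  · intro h
    exact ⟨θ, θ.2, h.1, h.2, rfl⟩

open Classical in
theorem key_dvd (Z : Subgroup L) [hZ : Z.Normal] (hZK : Z ≤ K)
    (hZc : ∀ z ∈ Z, ∀ k ∈ K, z * k = k * z)
    (horth : ∀ χ ∈ inducedIrrAbove K ⊥, ∀ φ ∈ inducedIrrAbove K ⊥, χ ≠ φ → classInner χ φ = 0)
    (hirr : ∀ χ ∈ inducedIrrAbove K ⊥ \ inducedIrrAbove K Z, IsIrrCharacter L χ)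
    {p n : ℕ} (hp : p.Prime) (hcard : Nat.card K = p ^ n) (hcop : Nat.Coprime K.index p)
    {χ : L → ℂ} (hχ : χ ∈ inducedIrrAbove K ⊥ \ inducedIrrAbove K Z) :
    charDegree χ ^ 2 ∣ ∑ φ ∈ (indAbove K ⊥ \ indAbove K Z).filter
      (fun φ => charDegree φ < charDegree χ), charDegree φ ^ 2 := by
  have hKpos : 0 < K.index := Nat.pos_of_ne_zero Subgroup.index_ne_zero_of_finite
  obtain ⟨θ₀, h0, h1, h2, rfl⟩ := id hχ.1
  have hdeg : charDegree (indFun K θ₀) = K.index * charDegree θ₀ :=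
    Helper82.charDegree_indFun K (Helper83.IsIrr.isChar h0)
  have hpow : ∀ θ : IrrCharacter K, ∃ b : ℕ, charDegree (θ : K → ℂ) = p ^ b := by
    intro θ
    have := Helper82.isIrr_charDegree_dvd_card θ.2
    rw [hcard] at this
    obtain ⟨b, _, hb⟩ := (Nat.dvd_prime_pow hp).1 this
    exact ⟨b, hb⟩
  obtain ⟨a, ha⟩ := hpow ⟨θ₀, h0⟩
  simp only at ha
  have hdegθ : ∀ θ : IrrCharacter K, charDegree (indFun K (θ : K → ℂ))
      = K.index * charDegree (θ : K → ℂ) := fun θ =>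
    Helper82.charDegree_indFun K (Helper83.IsIrr.isChar θ.2)
  -- (1)
  have d1 : K.index ^ 2 ∣ ∑ φ ∈ (indAbove K ⊥ \ indAbove K Z).filter
      (fun φ => charDegree φ < charDegree (indFun K θ₀)), charDegree φ ^ 2 := by
    apply Finset.dvd_sum
    intro φ hφ
    rw [Finset.mem_filter, Finset.mem_sdiff, mem_indAbove] at hφ
    obtain ⟨θ, g0, _, _, rfl⟩ := hφ.1.1
    rw [Helper82.charDegree_indFun K (Helper83.IsIrr.isChar g0), mul_pow]
    exact Dvd.intro _ rfl
  -- (2)
  have e2 : ∑ φ ∈ (indAbove K ⊥ \ indAbove K Z).filter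
      (fun φ => charDegree φ < charDegree (indFun K θ₀)), charDegree φ ^ 2
      = K.index * ∑ θ ∈ (irrAbove K ⊥ \ irrAbove K Z).filter
        (fun θ : IrrCharacter K => charDegree (θ : K → ℂ) < p ^ a), charDegree (θ : K → ℂ) ^ 2 := by
    rw [Finset.mul_sum]
    rw [← Finset.sum_fiberwise_of_maps_to (s := (irrAbove K ⊥ \ irrAbove K Z).filter
        (fun θ : IrrCharacter K => charDegree (θ : K → ℂ) < p ^ a))
        (t := (indAbove K ⊥ \ indAbove K Z).filter
      (fun φ => charDegree φ < charDegree (indFun K θ₀)))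
        (g := fun θ : IrrCharacter K => indFun K (θ : K → ℂ))]
    · apply Finset.sum_congr rfl
      intro φ hφ
      rw [Finset.mem_filter, Finset.mem_sdiff, mem_indAbove, mem_indAbove] at hφ
      have hφirr := hirr φ hφ.1
      have hf := fiber_sum K ⊥ horth hφ.1.1
      rw [Helper20.classInner_irr_self hφirr, one_mul,
        Helper82.isChar_one_eq (Helper83.IsIrr.isChar hφirr)] at hf
      have hf2 : charDegree φ ^ 2 = ∑ θ ∈ (irrAbove K ⊥).filter
          (fun θ : IrrCharacter K => indFun K (θ : K → ℂ) = φ),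
          K.index * charDegree (θ : K → ℂ) ^ 2 := by
        have : ((charDegree φ ^ 2 : ℕ) : ℂ) = ((∑ θ ∈ (irrAbove K ⊥).filter
          (fun θ : IrrCharacter K => indFun K (θ : K → ℂ) = φ),
          K.index * charDegree (θ : K → ℂ) ^ 2 : ℕ) : ℂ) := by
          push_cast
          rw [hf]
          apply Finset.sum_congr rfl
          intro θ _
          rw [Helper82.isChar_one_eq (Helper83.IsIrr.isChar θ.2)]
        exact_mod_cast this
      rw [hf2]
      apply Finset.sum_congr _ (fun _ _ => rfl)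
      ext θ
      simp only [Finset.mem_filter, Finset.mem_sdiff]
      constructor
      · rintro ⟨g1, rfl⟩
        refine ⟨⟨⟨g1, ?_⟩, ?_⟩, rfl⟩
        · intro g2
          exact hφ.1.2 ((mem_indAbove K).1 ((indFun_mem_indAbove_iff K g1).2 g2))
        · have := hφ.2
          rw [hdegθ, hdeg, ha] at this
          exact Nat.lt_of_mul_lt_mul_left this
      · rintro ⟨⟨⟨g1, _⟩, _⟩, g2⟩
        exact ⟨g1, g2⟩
    · intro θ hθ
      rw [Finset.mem_filter, Finset.mem_sdiff] at hθ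
      rw [Finset.mem_filter, Finset.mem_sdiff]
      refine ⟨⟨(indFun_mem_indAbove_iff K hθ.1.1).2 hθ.1.1, ?_⟩, ?_⟩
      · intro g
        exact hθ.1.2 ((indFun_mem_indAbove_iff K hθ.1.1).1 g)
      · rw [hdegθ, hdeg, ha]
        exact Nat.mul_lt_mul_of_pos_left hθ.2 hKpos
  -- (3)
  have d3 : (p ^ a) ^ 2 ∣ ∑ θ ∈ (irrAbove K ⊥ \ irrAbove K Z).filter
        (fun θ : IrrCharacter K => charDegree (θ : K → ℂ) < p ^ a), charDegree (θ : K → ℂ) ^ 2 := by
    have s1 := sum_irrAbove_charDegree K ⊥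
    have s2 := sum_irrAbove_charDegree K Z
    rw [Subgroup.relIndex_bot_left] at s1
    have s3 := Finset.sum_sdiff (irrAbove_mono K (bot_le : ⊥ ≤ Z))
      (f := fun θ : IrrCharacter K => charDegree (θ : K → ℂ) ^ 2)
    have hZdvd : Z.relIndex K ∣ p ^ n := by
      rw [← hcard]
      exact Subgroup.relIndex_dvd_card Z K
    obtain ⟨c, _, hc⟩ := (Nat.dvd_prime_pow hp).1 hZdvd
    obtain ⟨m, hm1, hm2⟩ := inducedIrrAbove_degree_bound K ⊥ K Z hZK le_rfl
      (fun x hx y hy => by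
        rw [Subgroup.mem_bot, hZc x hx y hy]
        group) hχ.1
    have hm : m = p ^ a := by
      rw [Helper82.isChar_one_eq (Helper19.isCharacter_indFun K θ₀ (Helper83.IsIrr.isChar h0)),
        hdeg, ha] at hm1
      have : K.index * p ^ a = K.index * m := by exact_mod_cast hm1
      exact (Nat.eq_of_mul_eq_mul_left hKpos this).symm
    have hle : (p ^ a) ^ 2 ≤ p ^ c := by
      rw [hm, mul_pow, hc] at hm2
      exact Nat.le_of_mul_le_mul_left hm2 (by positivity)
    have hdc : (p ^ a) ^ 2 ∣ Z.relIndex K := by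
      rw [hc, ← pow_mul] at *
      exact pow_dvd_pow p ((Nat.pow_le_pow_iff_right hp.one_lt).1 hle)
    have hdK : (p ^ a) ^ 2 ∣ Nat.card K := hdc.trans (Subgroup.relIndex_dvd_card Z K)
    have hdΘ : (p ^ a) ^ 2 ∣ ∑ θ ∈ irrAbove K ⊥ \ irrAbove K Z, charDegree (θ : K → ℂ) ^ 2 := by
      have : ∑ θ ∈ irrAbove K ⊥ \ irrAbove K Z, charDegree (θ : K → ℂ) ^ 2 + Z.relIndex K
          = Nat.card K := by
        rw [← s1, ← s2, ← s3]
        ring
      rw [← this] at hdK
      exact (Nat.dvd_add_left hdc).1 hdK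
    rw [← Finset.sum_filter_add_sum_filter_not (irrAbove K ⊥ \ irrAbove K Z)
      (fun θ : IrrCharacter K => charDegree (θ : K → ℂ) < p ^ a)] at hdΘ
    refine (Nat.dvd_add_left ?_).1 hdΘ
    apply Finset.dvd_sum
    intro θ hθ
    rw [Finset.mem_filter, not_lt] at hθ
    obtain ⟨b, hb⟩ := hpow θ
    rw [hb] at hθ ⊢
    exact pow_dvd_pow_of_dvd (pow_dvd_pow p ((Nat.pow_le_pow_iff_right hp.one_lt).1 hθ.2)) 2
  have hfin : K.index ^ 2 * (p ^ a) ^ 2 ∣ ∑ φ ∈ (indAbove K ⊥ \ indAbove K Z).filter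
      (fun φ => charDegree φ < charDegree (indFun K θ₀)), charDegree φ ^ 2 := by
    apply Nat.Coprime.mul_dvd_of_dvd_of_dvd _ d1
    · rw [e2]
      exact Dvd.dvd.mul_left d3 _
    · exact Nat.Coprime.pow _ _ (Nat.Coprime.pow_right _ hcop)
  have : charDegree (indFun K θ₀) ^ 2 = K.index ^ 2 * (p ^ a) ^ 2 := by
    rw [hdeg, ha, mul_pow]
  rw [this]
  exact hfin

end

end Cfsg.Agent.Lib.Helper32
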