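import Mathlib
import Cfsg.Agent.Lib.Helper70.Frobenius

set_option autoImplicit false

namespace Cfsg.Agent.Lib.Helper32

open scoped commutatorElement

theorem index_dvd_card_sub_one {Q : Type*} [Group Q] [Finite Q] (Kb Xb : Subgroup Q)
    [hX : Xb.Normal] (h : ∀ y ∈ Xb, y ≠ 1 → ∀ g : Q, g * y * g⁻¹ = y → g ∈ Kb) :
    Kb.index ∣ Nat.card Xb - 1 := by
  classical
  haveI := Fintype.ofFinite Q
  letI inst : MulAction Q Q := MulAction.compHom Q (MulAut.conj : Q →* MulAut Q)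
  have hsmul : ∀ g y : Q, inst.smul g y = g * y * g⁻¹ := fun g y => rfl
  have key := @Helper70.dvd_sum_of_orbit Q Q _ inst _ (fun y => if y ∈ Xb ∧ y ≠ 1 then 1 else 0)
    ?_ Kb.index ?_
  · have : ∑ y : Q, (if y ∈ Xb ∧ y ≠ 1 then 1 else 0) = Nat.card Xb - 1 := by
      rw [← Finset.card_filter]
      have h1 : Finset.univ.filter (fun y : Q => y ∈ Xb ∧ y ≠ 1)
          = (Finset.univ.filter (fun y : Q => y ∈ Xb)).erase 1 := by
        ext y
        simp [and_comm]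
      rw [h1, Finset.card_erase_of_mem (by simp [Xb.one_mem])]
      congr 1
      rw [Nat.card_eq_fintype_card, Fintype.card_subtype]
    rwa [this] at key
  · intro g y
    have h1 : (g * y * g⁻¹ ∈ Xb ∧ g * y * g⁻¹ ≠ 1) ↔ (y ∈ Xb ∧ y ≠ 1) := by
      constructor
      · rintro ⟨h1, h2⟩
        refine ⟨?_, ?_⟩
        · have := hX.conj_mem _ h1 g⁻¹
          simpa [mul_assoc] using this
        · rintro rfl
          simp at h2
      · rintro ⟨h1, h2⟩
        refine ⟨hX.conj_mem _ h1 g, ?_⟩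
        intro h3
        apply h2
        have : y = g⁻¹ * (g * y * g⁻¹) * g := by group
        rw [this, h3]
        group
    show (if (g * y * g⁻¹ ∈ Xb ∧ g * y * g⁻¹ ≠ 1) then 1 else 0) = _
    simp only [h1]
  · intro y
    split_ifs with hy
    · rw [mul_one, Nat.card_coe_set_eq, ← MulAction.index_stabilizer]
      apply Subgroup.index_dvd_of_le
      intro g hg
      exact h y hy.1 hy.2 g hg
    · simp


theorem frob_dvd_relIndex_sub_one {L : Type*} [Group L] [Finite L] (K H₁ X : Subgroup L)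
    [hH : H₁.Normal] [hX : X.Normal] (hH₁K : H₁ ≤ K) (hXK : X ≤ K)
    (hfrob : ∀ k ∈ K, k ∉ H₁ → ∀ x : L, x * k * x⁻¹ * k⁻¹ ∈ H₁ → x ∈ K) :
    K.index ∣ H₁.relIndex X - 1 := by
  have hsurj := QuotientGroup.mk'_surjective H₁
  haveI : (X.map (QuotientGroup.mk' H₁)).Normal := hX.map _ hsurj
  have h1 := index_dvd_card_sub_one (K.map (QuotientGroup.mk' H₁)) (X.map (QuotientGroup.mk' H₁)) ?_
  · rw [Subgroup.index_map_eq _ hsurj (by rw [QuotientGroup.ker_mk']; exact hH₁K)] at h1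
    have h2 := Subgroup.relIndex_ker (QuotientGroup.mk' H₁) (K := X)
    rw [QuotientGroup.ker_mk'] at h2
    rwa [h2]
  · rintro _ ⟨k, hk, rfl⟩ hne g hg
    obtain ⟨x, rfl⟩ := hsurj g
    refine ⟨x, ?_, rfl⟩
    apply hfrob k (hXK hk)
    · intro hkH
      apply hne
      rw [QuotientGroup.mk'_apply, QuotientGroup.eq_one_iff]
      exact hkH
    · rw [← QuotientGroup.eq_one_iff, ← QuotientGroup.mk'_apply, map_mul, map_mul, map_mul, map_inv,
        map_inv, hg, mul_inv_cancel]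

theorem commutatorElement_mul_central {G : Type*} [Group G] {z₁ z₂ : G}
    (hz₁ : z₁ ∈ Subgroup.center G) (hz₂ : z₂ ∈ Subgroup.center G) (a b : G) :
    ⁅a * z₁, b * z₂⁆ = ⁅a, b⁆ := by
  rw [Subgroup.mem_center_iff] at hz₁ hz₂
  rw [commutatorElement_def, commutatorElement_def]
  have e1 : a * z₁ * (b * z₂) * (a * z₁)⁻¹ * (b * z₂)⁻¹
      = a * (z₁ * (b * (z₂ * (z₁⁻¹ * a⁻¹) * z₂⁻¹)) * z₁⁻¹) * z₁ * b⁻¹ := by group
  have e2 : ∀ g, z₂ * g * z₂⁻¹ = g := fun g => by rw [← hz₂ g, mul_inv_cancel_right]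
  have e3 : ∀ g, z₁ * g * z₁⁻¹ = g := fun g => by rw [← hz₁ g, mul_inv_cancel_right]
  rw [e1, e2, e3]
  have e4 : a * (b * (z₁⁻¹ * a⁻¹)) * z₁ * b⁻¹ = a * b * (z₁⁻¹ * (a⁻¹ * z₁)) * b⁻¹ := by group
  rw [e4, hz₁ a⁻¹]
  group

theorem eq_top_of_sup_commutator {Q : Type*} [Group Q] [hn : Group.IsNilpotent Q]
    (H : Subgroup Q) (h : H ⊔ commutator Q = ⊤) : H = ⊤ := by
  refine Group.nilpotent_center_quotient_ind
    (P := fun G _ _ => ∀ H : Subgroup G, H ⊔ commutator G = ⊤ → H = ⊤) Q ?_ ?_ H h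
  · intro G _ _ H _
    exact Subsingleton.elim _ _
  · intro G _ _ ih H h
    have hsurj := QuotientGroup.mk'_surjective (Subgroup.center G)
    have h1 : H.map (QuotientGroup.mk' (Subgroup.center G)) = ⊤ := by
      apply ih
      rw [eq_top_iff]
      have h2 : (H ⊔ commutator G).map (QuotientGroup.mk' (Subgroup.center G)) = ⊤ := by
        rw [h, Subgroup.map_top_of_surjective _ hsurj]
      rw [← h2, Subgroup.map_sup]
      apply sup_le_sup_left
      rw [commutator_def, commutator_def, Subgroup.map_commutator]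
      exact Subgroup.commutator_mono le_top le_top
    have h2 : H ⊔ Subgroup.center G = ⊤ := by
      have := Subgroup.comap_map_eq (QuotientGroup.mk' (Subgroup.center G)) H
      rw [h1, Subgroup.comap_top, QuotientGroup.ker_mk'] at this
      exact this.symm
    have h3 : commutator G ≤ H := by
      rw [commutator_def, Subgroup.commutator_le]
      intro a _ b _
      have ha : a ∈ H ⊔ Subgroup.center G := by rw [h2]; exact Subgroup.mem_top _
      have hb : b ∈ H ⊔ Subgroup.center G := by rw [h2]; exact Subgroup.mem_top _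
      rw [← SetLike.mem_coe, Subgroup.mul_normal, Set.mem_mul] at ha hb
      obtain ⟨a', ha', z₁, hz₁, rfl⟩ := ha
      obtain ⟨b', hb', z₂, hz₂, rfl⟩ := hb
      rw [commutatorElement_mul_central hz₁ hz₂]
      exact H.mul_mem (H.mul_mem (H.mul_mem ha' hb') (H.inv_mem ha')) (H.inv_mem hb')
    rw [← h]
    exact (sup_eq_left.2 h3).symm

theorem isPGroup_of_nilpotent {Q : Type*} [Group Q] [Finite Q] [Group.IsNilpotent Q] (p : ℕ)
    [hp : Fact p.Prime] (h : ∀ x : Q, ∃ k : ℕ, x ^ (p ^ k) ∈ commutator Q) : IsPGroup p Q := by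
  obtain ⟨P⟩ : Nonempty (Sylow p Q) := inferInstance
  haveI hR : ((P : Subgroup Q) ⊔ commutator Q).Normal := Subgroup.Normal.of_commutator_le Q le_sup_right
  have h1 : IsPGroup p (Q ⧸ ((P : Subgroup Q) ⊔ commutator Q)) := by
    intro x
    obtain ⟨x, rfl⟩ := QuotientGroup.mk_surjective x
    obtain ⟨k, hk⟩ := h x
    refine ⟨k, ?_⟩
    rw [← QuotientGroup.mk_pow, QuotientGroup.eq_one_iff]
    exact Subgroup.mem_sup_right hk
  obtain ⟨j, hj⟩ := IsPGroup.iff_card.1 h1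
  have h2 : ((P : Subgroup Q) ⊔ commutator Q).index = p ^ j := hj
  have h3 : ((P : Subgroup Q) ⊔ commutator Q).index ∣ (P : Subgroup Q).index :=
    Subgroup.index_dvd_of_le le_sup_left
  have h4 : ¬ p ∣ (P : Subgroup Q).index := P.not_dvd_index
  have h5 : j = 0 := by
    by_contra hj0
    apply h4
    refine dvd_trans ?_ h3
    rw [h2]
    exact dvd_pow_self p hj0
  rw [h5, pow_zero, Subgroup.index_eq_one] at h2
  have h6 := eq_top_of_sup_commutator _ h2
  intro x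
  have hx : x ∈ (P : Subgroup Q) := by rw [h6]; exact Subgroup.mem_top _
  obtain ⟨k, hk⟩ := P.isPGroup' ⟨x, hx⟩
  exact ⟨k, by simpa using congrArg Subtype.val hk⟩


section quot
variable {L : Type*} [Group L] (K M : Subgroup L) [hMn : (M.subgroupOf K).Normal]

theorem mk_mem_commutator (hMK : M ≤ K) (k : K) (hk : (k : L) ∈ ⁅K, K⁆ ⊔ M) :
    (QuotientGroup.mk k : K ⧸ M.subgroupOf K) ∈ commutator (K ⧸ M.subgroupOf K) := by
  have key : ⁅K, K⁆ ⊔ M ≤ ((commutator (K ⧸ M.subgroupOf K)).comap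
      (QuotientGroup.mk' (M.subgroupOf K))).map K.subtype := by
    apply sup_le
    · rw [Subgroup.commutator_le]
      intro x hx y hy
      refine ⟨⁅(⟨x, hx⟩ : K), (⟨y, hy⟩ : K)⁆, ?_, rfl⟩
      rw [SetLike.mem_coe, Subgroup.mem_comap, map_commutatorElement, commutator_def]
      exact Subgroup.commutator_mem_commutator (Subgroup.mem_top _) (Subgroup.mem_top _)
    · intro x hx
      refine ⟨⟨x, hMK hx⟩, ?_, rfl⟩
      rw [SetLike.mem_coe, Subgroup.mem_comap]
      have : QuotientGroup.mk' (M.subgroupOf K) ⟨x, hMK hx⟩ = 1 := by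
        rw [QuotientGroup.mk'_apply, QuotientGroup.eq_one_iff]
        exact hx
      rw [this]
      exact Subgroup.one_mem _
  obtain ⟨k', hk', h⟩ := key hk
  have : k' = k := Subtype.ext h
  rw [← this]
  exact hk'

theorem relIndex_prime_pow_of_nilpotent [Finite L] (hMK : M ≤ K) (hnil : Group.IsNilpotent (K ⧸ M.subgroupOf K))
    [hn : ((⁅K, K⁆ ⊔ M).subgroupOf K).Normal] {p a : ℕ} (hp : p.Prime)
    (h : (⁅K, K⁆ ⊔ M).relIndex K = p ^ a) : ∃ m : ℕ, M.relIndex K = p ^ m := by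
  haveI : Fact p.Prime := ⟨hp⟩
  have h1 : IsPGroup p (K ⧸ M.subgroupOf K) := by
    apply isPGroup_of_nilpotent
    intro x
    obtain ⟨k, rfl⟩ := QuotientGroup.mk_surjective x
    refine ⟨a, ?_⟩
    rw [← QuotientGroup.mk_pow]
    apply mk_mem_commutator K M hMK
    have := Subgroup.pow_index_mem ((⁅K, K⁆ ⊔ M).subgroupOf K) k
    rw [← h]
    exact this
  exact IsPGroup.iff_card.1 h1

theorem commutator_le_of_relIndex_prime [Finite L] (hMK : M ≤ K)
    (hnil : Group.IsNilpotent (K ⧸ M.subgroupOf K))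
    [hn : ((⁅K, K⁆ ⊔ M).subgroupOf K).Normal] {p : ℕ} (hp : p.Prime)
    (h : (⁅K, K⁆ ⊔ M).relIndex K = p) : ⁅K, K⁆ ≤ M := by
  haveI : Fact p.Prime := ⟨hp⟩
  have hcard : Nat.card (K ⧸ (⁅K, K⁆ ⊔ M).subgroupOf K) = p := h
  haveI : Nontrivial (K ⧸ (⁅K, K⁆ ⊔ M).subgroupOf K) := by
    rw [← Finite.one_lt_card_iff_nontrivial, hcard]
    exact hp.one_lt
  obtain ⟨x, hx⟩ := exists_ne (1 : K ⧸ (⁅K, K⁆ ⊔ M).subgroupOf K)
  obtain ⟨x, rfl⟩ := QuotientGroup.mk_surjective x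
  have htop : Subgroup.zpowers (QuotientGroup.mk x : K ⧸ M.subgroupOf K) = ⊤ := by
    apply eq_top_of_sup_commutator
    rw [eq_top_iff]
    intro y _
    obtain ⟨y, rfl⟩ := QuotientGroup.mk_surjective y
    have h1 : (QuotientGroup.mk y : K ⧸ (⁅K, K⁆ ⊔ M).subgroupOf K)
        ∈ Subgroup.zpowers (QuotientGroup.mk x : K ⧸ (⁅K, K⁆ ⊔ M).subgroupOf K) :=
      mem_zpowers_of_prime_card hcard hx
    obtain ⟨i, hi⟩ := h1
    have h2 : (x ^ i)⁻¹ * y ∈ (⁅K, K⁆ ⊔ M).subgroupOf K := by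
      rw [← QuotientGroup.eq]
      exact hi
    have h3 := mk_mem_commutator K M hMK _ (Subgroup.mem_subgroupOf.1 h2)
    have h4 : (QuotientGroup.mk y : K ⧸ M.subgroupOf K)
        = (QuotientGroup.mk x : K ⧸ M.subgroupOf K) ^ i * QuotientGroup.mk ((x ^ i)⁻¹ * y) := by
      rw [← QuotientGroup.mk_zpow, ← QuotientGroup.mk_mul, mul_inv_cancel_left]
    rw [h4]
    exact Subgroup.mul_mem _ (Subgroup.mem_sup_left (Subgroup.zpow_mem _ (Subgroup.mem_zpowers _) _))
      (Subgroup.mem_sup_right h3)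
  rw [Subgroup.commutator_le]
  intro a ha b hb
  have h1 : ∀ u v : K ⧸ M.subgroupOf K, u * v = v * u := by
    intro u v
    have hu : u ∈ Subgroup.zpowers (QuotientGroup.mk x : K ⧸ M.subgroupOf K) := by
      rw [htop]; exact Subgroup.mem_top _
    have hv : v ∈ Subgroup.zpowers (QuotientGroup.mk x : K ⧸ M.subgroupOf K) := by
      rw [htop]; exact Subgroup.mem_top _
    obtain ⟨i, rfl⟩ := hu
    obtain ⟨j, rfl⟩ := hv
    exact (zpow_mul_comm _ i j)
  have h2 : (QuotientGroup.mk ⁅(⟨a, ha⟩ : K), (⟨b, hb⟩ : K)⁆ : K ⧸ M.subgroupOf K) = 1 := by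
    rw [commutatorElement_def, QuotientGroup.mk_mul, QuotientGroup.mk_mul, QuotientGroup.mk_mul,
      QuotientGroup.mk_inv, QuotientGroup.mk_inv, h1 (QuotientGroup.mk ⟨a, ha⟩)]
    group
  rw [QuotientGroup.eq_one_iff] at h2
  exact h2

end quot

theorem exists_normal_between {L : Type*} [Group L] [Finite L] (K H₁ : Subgroup L)
    [hK : K.Normal] [hH : H₁.Normal] (hc : ⁅K, K⁆ ≤ H₁) (hle : H₁ ≤ K)
    (hnpp : ¬ ∃ p m : ℕ, p.Prime ∧ H₁.relIndex K = p ^ m) :
    ∃ N : Subgroup L, N.Normal ∧ H₁ < N ∧ N < K := by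
  have hne1 : H₁.relIndex K ≠ 1 := by
    intro h
    exact hnpp ⟨2, 0, Nat.prime_two, by rw [h, pow_zero]⟩
  have hne0 : H₁.relIndex K ≠ 0 := Subgroup.index_ne_zero_of_finite
  obtain ⟨p, hp, hpd⟩ := Nat.exists_prime_and_dvd hne1
  obtain ⟨q, hq, hqd, hqp⟩ : ∃ q : ℕ, q.Prime ∧ q ∣ H₁.relIndex K ∧ q ≠ p := by
    by_contra hcon
    push Not at hcon
    exact hnpp ⟨p, _, hp, Nat.eq_prime_pow_of_unique_prime_dvd hne0 (fun {d} hd hdd => hcon d hd hdd)⟩
  haveI : Fact p.Prime := ⟨hp⟩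
  haveI : Fact q.Prime := ⟨hq⟩
  obtain ⟨x, hx⟩ := exists_prime_orderOf_dvd_card' (G := K ⧸ H₁.subgroupOf K) p hpd
  obtain ⟨y, hy⟩ := exists_prime_orderOf_dvd_card' (G := K ⧸ H₁.subgroupOf K) q hqd
  obtain ⟨k, rfl⟩ := QuotientGroup.mk_surjective x
  obtain ⟨k', rfl⟩ := QuotientGroup.mk_surjective y
  have hk1 : (k : L) ∉ H₁ := by
    intro h
    have : (QuotientGroup.mk k : K ⧸ H₁.subgroupOf K) = 1 := (QuotientGroup.eq_one_iff k).2 h
    rw [this, orderOf_one] at hx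
    exact hp.one_lt.ne hx
  have hk2 : (k : L) ^ p ∈ H₁ := by
    have := pow_orderOf_eq_one (QuotientGroup.mk k : K ⧸ H₁.subgroupOf K)
    rw [hx, ← QuotientGroup.mk_pow, QuotientGroup.eq_one_iff] at this
    exact this
  have hk3 : (k' : L) ^ p ∉ H₁ := by
    intro h
    have h1 : (QuotientGroup.mk k' : K ⧸ H₁.subgroupOf K) ^ p = 1 := by
      rw [← QuotientGroup.mk_pow, QuotientGroup.eq_one_iff]
      exact h
    have h2 := orderOf_dvd_of_pow_eq_one h1
    rw [hy] at h2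
    exact hqp ((Nat.prime_dvd_prime_iff_eq hq hp).1 h2)
  let N : Subgroup L :=
    { carrier := {g | g ∈ K ∧ g ^ p ∈ H₁}
      one_mem' := ⟨K.one_mem, by rw [one_pow]; exact H₁.one_mem⟩
      mul_mem' := by
        rintro a b ⟨ha, ha'⟩ ⟨hb, hb'⟩
        refine ⟨K.mul_mem ha hb, ?_⟩
        have hcomm : Commute (QuotientGroup.mk a : L ⧸ H₁) (QuotientGroup.mk b : L ⧸ H₁) := by
          show (QuotientGroup.mk a : L ⧸ H₁) * QuotientGroup.mk b
            = QuotientGroup.mk b * QuotientGroup.mk a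
          rw [← QuotientGroup.mk_mul, ← QuotientGroup.mk_mul, QuotientGroup.eq]
          have : (a * b)⁻¹ * (b * a) = ⁅b⁻¹, a⁻¹⁆ := by
            rw [commutatorElement_def]; group
          rw [this]
          exact hc (Subgroup.commutator_mem_commutator (K.inv_mem hb) (K.inv_mem ha))
        rw [← QuotientGroup.eq_one_iff, QuotientGroup.mk_pow, QuotientGroup.mk_mul, hcomm.mul_pow,
          ← QuotientGroup.mk_pow, ← QuotientGroup.mk_pow, (QuotientGroup.eq_one_iff _).2 ha',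
          (QuotientGroup.eq_one_iff _).2 hb', one_mul]
      inv_mem' := by
        rintro a ⟨ha, ha'⟩
        exact ⟨K.inv_mem ha, by rw [inv_pow]; exact H₁.inv_mem ha'⟩ }
  refine ⟨N, ⟨?_⟩, ?_, ?_⟩
  · rintro g ⟨hg, hg'⟩ c
    exact ⟨hK.conj_mem g hg c, by rw [conj_pow]; exact hH.conj_mem _ hg' c⟩
  · rw [SetLike.lt_iff_le_and_exists]
    exact ⟨fun h hh => ⟨hle hh, H₁.pow_mem hh p⟩, k, ⟨k.2, hk2⟩, hk1⟩
  · rw [SetLike.lt_iff_le_and_exists]
    exact ⟨fun g hg => hg.1, k', k'.2, fun h => hk3 h.2⟩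

end Cfsg.Agent.Lib.Helper32
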