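import Mathlib

set_option autoImplicit false

namespace Cfsg.Agent.Lib.Helper32

open scoped commutatorElement

theorem eq_of_commutator_sup_eq {L : Type*} [Group L] (M N H : Subgroup L) (hMN : M ≤ N)
    (hNH : N ≤ H) [(M.subgroupOf H).Normal] (hnil : Group.IsNilpotent (H ⧸ M.subgroupOf H))
    (h : ⁅N, H⁆ ⊔ M = N) : N = M := by
  obtain ⟨n, hn⟩ := Subgroup.nilpotent_iff_lowerCentralSeries.1 hnil
  have key : ∀ k : ℕ, N ≤ (((⊤ : Subgroup (H ⧸ M.subgroupOf H)).lowerCentralSeries k).comap
      (QuotientGroup.mk' (M.subgroupOf H))).map H.subtype := by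
    intro k
    induction k with
    | zero =>
      intro x hx
      exact ⟨⟨x, hNH hx⟩, by simp, rfl⟩
    | succ k ih =>
      rw [← h]
      apply sup_le
      · rw [Subgroup.commutator_le]
        intro x hx y hy
        obtain ⟨x', hx', rfl⟩ := ih hx
        refine ⟨⁅x', (⟨y, hy⟩ : H)⁆, ?_, rfl⟩
        rw [SetLike.mem_coe, Subgroup.mem_comap, map_commutatorElement,
          Subgroup.lowerCentralSeries_succ]
        exact Subgroup.commutator_mem_commutator hx' (Subgroup.mem_top _)
      · intro x hx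
        refine ⟨⟨x, hNH (hMN hx)⟩, ?_, rfl⟩
        rw [SetLike.mem_coe, Subgroup.mem_comap]
        have : QuotientGroup.mk' (M.subgroupOf H) ⟨x, hNH (hMN hx)⟩ = 1 := by
          rw [QuotientGroup.mk'_apply, QuotientGroup.eq_one_iff]
          exact hx
        rw [this]
        exact Subgroup.one_mem _
  apply le_antisymm _ hMN
  intro x hx
  obtain ⟨x', hx', rfl⟩ := key n hx
  rw [hn, SetLike.mem_coe, Subgroup.mem_comap, Subgroup.mem_bot, QuotientGroup.mk'_apply,
    QuotientGroup.eq_one_iff] at hx'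
  exact hx'

end Cfsg.Agent.Lib.Helper32
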