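import Mathlib
import Cfsg.Prelude.Def_OddOrderChar
import Cfsg.Agent.Lib.Helper32.Sib2
import Cfsg.Agent.S1522

set_option autoImplicit false

namespace Cfsg.Agent.Lib.Helper32

open Cfsg
open scoped ComplexConjugate commutatorElement

section
variable {G : Type*} [Group G] [Fintype G] (L : Subgroup G) [Fintype L] (K : Subgroup L)

theorem sibley_glue [hK : K.Normal] (hsolv : Group.IsSolvable K)
    (R : (L → ℂ) → Finset (G → ℂ))
    (hS : IsCoherenceSystem (inducedIrrAbove K ⊥) (fun α : L → ℂ => indFun L α) R)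
    (hirr : ∀ χ ∈ inducedIrrAbove K ⊥, IsIrrCharacter L χ)
    (Z : Subgroup L) [hZ : Z.Normal] (hZK' : Z ≤ ⁅K, K⁆) (hZ1 : Z ≠ ⊥) (hK'K : ⁅K, K⁆ < K)
    (hXeq : inducedIrrAbove K ⊥ \ inducedIrrAbove K Z
      = {χ | IsIrrCharacter L χ ∧ ∃ z ∈ Z, χ z ≠ χ 1})
    (cohX : IsCoherent (inducedIrrAbove K ⊥ \ inducedIrrAbove K Z) {1}ᶜ
      (fun α : L → ℂ => indFun L α))
    (h67 : ∀ ψ : G → ℂ, IsIrrCharacter G ψ →
      (∀ z z' : L, z ∈ Z → z' ∈ Z → z ≠ 1 → z' ≠ 1 → ψ z = ψ z') →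
      ∀ z : L, z ∈ Z → z ≠ 1 → ∃ k : ℤ, ψ 1 - ψ z = (Nat.card K : ℂ) * k) :
    IsCoherent ((inducedIrrAbove K ⊥ \ inducedIrrAbove K Z) ∪ inducedIrrAbove K ⁅K, K⁆) {1}ᶜ
      (fun α : L → ℂ => indFun L α) := by
  classical
  have cohY := coherent_above_derived K hsolv hS ⁅K, K⁆ le_rfl hK'K
  have hXS : inducedIrrAbove K ⊥ \ inducedIrrAbove K Z ⊆ inducedIrrAbove K ⊥ := Set.sdiff_subset
  have hYS : inducedIrrAbove K ⁅K, K⁆ ⊆ inducedIrrAbove K ⊥ := inducedIrrAbove_mono K bot_le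
  have hXY : Disjoint (inducedIrrAbove K ⊥ \ inducedIrrAbove K Z) (inducedIrrAbove K ⁅K, K⁆) := by
    rw [Set.disjoint_left]
    intro χ hχ hχY
    exact hχ.2 (inducedIrrAbove_mono K hZK' hχY)
  have hXc : ∀ φ ∈ inducedIrrAbove K ⊥ \ inducedIrrAbove K Z,
      conjFun φ ∈ inducedIrrAbove K ⊥ \ inducedIrrAbove K Z := by
    intro φ hφ
    refine ⟨inducedIrrAbove_conj K hφ.1, fun h => hφ.2 ?_⟩
    have := inducedIrrAbove_conj K h
    rwa [conjFun_conjFun] at this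
  have hYc : ∀ φ ∈ inducedIrrAbove K ⁅K, K⁆, conjFun φ ∈ inducedIrrAbove K ⁅K, K⁆ :=
    fun φ hφ => inducedIrrAbove_conj K hφ
  obtain ⟨ξ₁, hξ₁⟩ := Cfsg.Agent.S1522.exists_not_above K Z (hZK'.trans hK'K.le) hZ1
  obtain ⟨η₁, hη₁, hη₁d⟩ := exists_linear_above K hsolv ⁅K, K⁆ hK'K
  obtain ⟨_, σ, hσ, hσα⟩ := cohX
  obtain ⟨_, τ₂, hτ₂, hτ₂α⟩ := cohY
  have hξ₂ := hXc ξ₁ hξ₁
  have hη₂ := hYc η₁ hη₁
  have hξne := hS.conj_ne ξ₁ (hXS hξ₁)
  have hηne := hS.conj_ne η₁ (hYS hη₁)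
  have horth := (Cfsg.Agent.S1531.result L _ _ _ hirr hXS hYS hXY ⟨_, hξ₂, _, hξ₁, hξne⟩
    ⟨_, hη₂, _, hη₁, hηne⟩ _ hS.isometry hS.map_one σ τ₂ hσ hσα hτ₂ hτ₂α).1
  obtain ⟨a, ha, hξ₁d⟩ : ∃ a : ℕ, 0 < a ∧ ξ₁ 1 = (K.index : ℂ) * a := by
    obtain ⟨θ, h0, _, _, rfl⟩ := hξ₁.1
    obtain ⟨n, hn, h⟩ := irr_apply_one h0
    exact ⟨n, hn, by rw [Helper82.indFun_one, h]⟩
  apply glue_abstract L _ _ _ hirr hXS hYS hXY hXc hYc hS.conj_ne _ hS.isometry hS.map_one σ τ₂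
    hσ hσα hτ₂ hτ₂α ξ₁ η₁ hξ₁ hη₁ (a : ℤ) (by exact_mod_cast ha)
    (by rw [hξ₁d, hη₁d]; push_cast; ring)
    (fun η hη => by rw [inducedIrrAbove_linear K _ le_rfl hη, hη₁d])
  -- divisibility
  set ψ := τ₂ (conjFun η₁) with hψdef
  have hψgen : IsGeneralizedCharacter G ψ := iso_genChar hτ₂ (zspan_of_mem hη₂)
  have hψ : SignedIrr G ψ := by
    apply genChar_norm_one hψgen
    rw [hψdef, iso_inner hτ₂ (zspan_of_mem hη₂) (zspan_of_mem hη₂)]
    exact Helper20.classInner_irr_self (hirr _ (hYS hη₂))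
  have hres : IsGeneralizedCharacter L (fun l : L => ψ l) := genChar_restrict hψgen L
  have hfr : ∀ α : L → ℂ, classInner (indFun L α) ψ = classInner α (fun l : L => ψ l) :=
    fun α => Helper19.frobenius_reciprocity L α ψ (genChar_isClassFunction hψgen)
  obtain ⟨n₁, hn₁⟩ : ∃ n : ℤ, ξ₁ 1 = n := ⟨(K.index * a : ℕ), by rw [hξ₁d]; push_cast; ring⟩
  have hprop : ∀ ξ : L → ℂ, IsIrrCharacter L ξ → (∃ z ∈ Z, ξ z ≠ ξ 1) →
      ξ₁ 1 * classInner (fun l : L => ψ l) ξ = ξ 1 * classInner (fun l : L => ψ l) ξ₁ := by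
    intro ξ hξi hξz
    have hξ : ξ ∈ inducedIrrAbove K ⊥ \ inducedIrrAbove K Z := by
      rw [hXeq]; exact ⟨hξi, hξz⟩
    obtain ⟨n, _, hn⟩ := irr_apply_one hξi
    have hmem : n₁ • ξ - (n : ℤ) • ξ₁ ∈ zspanOn (inducedIrrAbove K ⊥ \ inducedIrrAbove K Z) {1}ᶜ := by
      rw [mem_zspanOn_one]
      refine ⟨Submodule.sub_mem _ (Submodule.smul_mem _ _ (zspan_of_mem hξ))
        (Submodule.smul_mem _ _ (zspan_of_mem hξ₁)), ?_⟩
      rw [Pi.sub_apply, Pi.smul_apply, Pi.smul_apply, hn, hn₁, zsmul_eq_mul, zsmul_eq_mul]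
      push_cast
      ring
    have h1 := hfr (n₁ • ξ - (n : ℤ) • ξ₁)
    have h2 := hσα _ hmem
    simp only at h2
    rw [← h2, iso_map_sub hσ (Submodule.smul_mem _ _ (zspan_of_mem hξ))
      (Submodule.smul_mem _ _ (zspan_of_mem hξ₁)), iso_map_zsmul hσ (zspan_of_mem hξ),
      iso_map_zsmul hσ (zspan_of_mem hξ₁), Helper20.classInner_sub_left,
      Helper20.classInner_sub_left, classInner_zsmul_left, classInner_zsmul_left,
      classInner_zsmul_left, classInner_zsmul_left, horth _ hξ _ hη₂, horth _ hξ₁ _ hη₂] at h1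
    rw [genChar_inner_comm hres (genChar_of_irr hξi),
      genChar_inner_comm hres (genChar_of_irr (hirr _ (hXS hξ₁))), hn, hn₁]
    push_cast at h1
    linear_combination -h1
  obtain ⟨k, hk⟩ := sib_stepC L K Z hZ1 hψ ha hξ₁d hprop h67
  obtain ⟨j, hj⟩ := genChar_inner_int (genChar_of_irr (hirr _ (hYS hη₁))) hres
  refine ⟨k - j, ?_⟩
  rw [hfr, Helper20.classInner_sub_left, classInner_zsmul_left, hj,
    genChar_inner_comm (genChar_of_irr (hirr _ (hXS hξ₁))) hres, hk]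
  push_cast
  ring

end


theorem sibley_extend {L : Type*} [Group L] [Fintype L] {G : Type*} [Group G] [Fintype G]
    (K : Subgroup L) [hK : K.Normal] (hsolv : Group.IsSolvable K)
    (τ : (L → ℂ) → (G → ℂ)) (R : (L → ℂ) → Finset (G → ℂ))
    (hS : IsCoherenceSystem (inducedIrrAbove K ⊥) τ R)
    (Z : Subgroup L) [hZ : Z.Normal] (hZK' : Z ≤ ⁅K, K⁆) (hK'K : ⁅K, K⁆ < K)
    (hZc : ∀ z ∈ Z, ∀ k ∈ K, z * k = k * z) (hZcard : 2 * K.index + 1 ≤ Nat.card Z)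
    (hcoh : IsCoherent ((inducedIrrAbove K ⊥ \ inducedIrrAbove K Z) ∪ inducedIrrAbove K ⁅K, K⁆)
      {1}ᶜ τ) : IsCoherent (inducedIrrAbove K ⊥) {1}ᶜ τ := by
  classical
  obtain ⟨d, n, hd, hn, hd0, hn0⟩ := cs_exists_dn hS
  have hZK : Z ≤ K := hZK'.trans hK'K.le
  obtain ⟨η₁, hη₁, hη₁d⟩ := exists_linear_above K hsolv ⁅K, K⁆ hK'K
  have hsubZ : inducedIrrAbove K Z ⊆ inducedIrrAbove K ⊥ := inducedIrrAbove_mono K bot_le
  have hsubY : inducedIrrAbove K ⁅K, K⁆ ⊆ inducedIrrAbove K ⊥ := inducedIrrAbove_mono K bot_le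
  have hsubZ' : indAbove K Z ⊆ indAbove K ⊥ := by
    intro φ hφ
    rw [mem_indAbove] at hφ ⊢
    exact hsubZ hφ
  have s1 := sum_indAbove_sq_div K ⊥ hS.orthogonal d n hd hn
  have s2 := sum_indAbove_sq_div K Z
    (fun χ hχ φ hφ h => hS.orthogonal χ (hsubZ hχ) φ (hsubZ hφ) h) d n
    (fun φ hφ => hd φ (hsubZ hφ)) (fun φ hφ => hn φ (hsubZ hφ))
  have s3 := Finset.sum_sdiff hsubZ' (f := fun φ => ((d φ : ℝ) ^ 2 / (n φ : ℝ)))
  rw [Subgroup.relIndex_bot_left] at s1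
  have hcardK : Nat.card Z * Z.relIndex K = Nat.card K := by
    have := (Z.subgroupOf K).card_mul_index
    rwa [Nat.card_congr (Subgroup.subgroupOfEquivOfLe hZK).toEquiv] at this
  have hN1 : Z.relIndex K ≠ 1 := fun h =>
    absurd ((Subgroup.relIndex_eq_one.1 h).trans hZK') (not_le_of_gt hK'K)
  have hN0 : Z.relIndex K ≠ 0 := Subgroup.index_ne_zero_of_finite
  have hKpos : 0 < K.index := Nat.pos_of_ne_zero Subgroup.index_ne_zero_of_finite
  rw [← coe_indAbove]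
  apply coherent_extend_gen hS d n hd hn
    ((indAbove K ⊥ \ indAbove K Z) ∪ indAbove K ⁅K, K⁆) (indAbove K ⊥)
  · intro φ hφ
    rw [Finset.mem_union, Finset.mem_sdiff, mem_indAbove, mem_indAbove, mem_indAbove] at hφ
    rw [mem_indAbove]
    exact hφ.elim (fun h => h.1) (fun h => hsubY h)
  · rw [coe_indAbove]
  · intro φ hφ
    rw [Finset.mem_union, Finset.mem_sdiff, mem_indAbove, mem_indAbove, mem_indAbove] at hφ ⊢
    rcases hφ with h | h
    · left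
      refine ⟨inducedIrrAbove_conj K h.1, fun h' => h.2 ?_⟩
      have := inducedIrrAbove_conj K h'
      rwa [conjFun_conjFun] at this
    · right; exact inducedIrrAbove_conj K h
  · intro φ hφ
    rw [mem_indAbove] at hφ ⊢
    exact inducedIrrAbove_conj K hφ
  · rw [Finset.coe_union, Finset.coe_sdiff, coe_indAbove, coe_indAbove, coe_indAbove]
    exact hcoh
  · intro S₁ hT hV _
    obtain ⟨χ, hχV, hχ⟩ := Finset.exists_of_ssubset hV
    have hχS : χ ∈ inducedIrrAbove K ⊥ := (mem_indAbove K).1 hχV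
    have hη₁T : η₁ ∈ (indAbove K ⊥ \ indAbove K Z) ∪ indAbove K ⁅K, K⁆ :=
      Finset.mem_union_right _ ((mem_indAbove K).2 hη₁)
    obtain ⟨m, hm1, hm2⟩ := inducedIrrAbove_degree_bound K ⊥ K Z hZK le_rfl
      (fun x hx y hy => by
        rw [Subgroup.mem_bot, hZc x hx y hy]
        group) hχS
    have e1 : d χ = K.index * m := by
      have := hd χ hχS
      rw [hm1] at this
      exact_mod_cast this.symm
    have e2 : d η₁ = K.index := by
      have := hd η₁ (hsubY hη₁)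
      rw [hη₁d] at this
      exact_mod_cast this.symm
    refine ⟨χ, hχV, hχ, η₁, hT hη₁T, by rw [e1, e2]; exact Dvd.intro _ rfl, ?_⟩
    have hmN : m < Z.relIndex K := by
      rw [mul_pow] at hm2
      have h1 : m ^ 2 ≤ Z.relIndex K := Nat.le_of_mul_le_mul_left hm2 (by positivity)
      by_contra hcon
      push Not at hcon
      have h2 : 2 ≤ Z.relIndex K := by omega
      nlinarith
    have h6 : ∑ φ ∈ indAbove K ⊥ \ indAbove K Z, ((d φ : ℝ) ^ 2 / (n φ : ℝ))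
        ≤ ∑ φ ∈ S₁, ((d φ : ℝ) ^ 2 / (n φ : ℝ)) := by
      apply Finset.sum_le_sum_of_subset_of_nonneg (Finset.subset_union_left.trans hT)
      intro i _ _
      positivity
    refine lt_of_lt_of_le ?_ h6
    have h7 : ∑ φ ∈ indAbove K ⊥ \ indAbove K Z, ((d φ : ℝ) ^ 2 / (n φ : ℝ))
        = K.index * ((Nat.card Z : ℝ) - 1) * (Z.relIndex K : ℝ) := by
      have : (Nat.card K : ℝ) = (Nat.card Z : ℝ) * (Z.relIndex K : ℝ) := by exact_mod_cast hcardK.symm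
      rw [s1, s2, this] at s3
      linear_combination s3
    rw [h7, e1, e2]
    have hK' : (0 : ℝ) < (K.index : ℝ) := by exact_mod_cast hKpos
    have hm' : (m : ℝ) + 1 ≤ (Z.relIndex K : ℝ) := by exact_mod_cast hmN
    have hZ' : 2 * (K.index : ℝ) + 1 ≤ (Nat.card Z : ℝ) := by exact_mod_cast hZcard
    have hm0 : (0 : ℝ) ≤ (m : ℝ) := by positivity
    push_cast
    have h8 : 2 * (K.index : ℝ) * ((m : ℝ) + 1) ≤ ((Nat.card Z : ℝ) - 1) * (Z.relIndex K : ℝ) := by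
      apply mul_le_mul (by linarith) hm' (by linarith) (by linarith)
    nlinarith

end Cfsg.Agent.Lib.Helper32
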