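import Mathlib
import Cfsg.Prelude.Def_OddOrderChar
import Cfsg.Agent.Lib.Helper20.CharOrth
import Cfsg.Agent.Lib.Helper19.IndFun2
import Cfsg.Agent.Lib.Helper83.Basic

set_option autoImplicit false

namespace Cfsg.Agent.Lib.Helper32

open Cfsg
open scoped ComplexConjugate

section lin
variable {A : Type*} [Group A] [Fintype A]

theorem lin_inner (f g : A →* ℂˣ) [Decidable (f = g)] :
    classInner (fun a => ((f a : ℂˣ) : ℂ)) (fun a => ((g a : ℂˣ) : ℂ)) = if f = g then 1 else 0 := by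
  classical
  rw [Helper20.classInner_irr (Helper83.isIrr_of_hom f) (Helper83.isIrr_of_hom g)]
  have : ((fun a => ((f a : ℂˣ) : ℂ)) = (fun a => ((g a : ℂˣ) : ℂ))) ↔ f = g := by
    constructor
    · intro h
      ext a
      exact congrFun h a
    · rintro rfl; rfl
  simp only [this]

theorem lin_inner_one_right (f : A →* ℂˣ) [Decidable (f = 1)] :
    classInner (fun a => ((f a : ℂˣ) : ℂ)) (fun _ => 1) = if f = 1 then 1 else 0 := by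
  have := lin_inner f 1
  simpa using this

theorem lin_inner_one_left (f : A →* ℂˣ) [Decidable (f = 1)] :
    classInner (fun _ => 1) (fun a => ((f a : ℂˣ) : ℂ)) = if f = 1 then 1 else 0 := by
  classical
  have := lin_inner 1 f
  simp only [MonoidHom.one_apply, Units.val_one] at this
  rw [this]
  by_cases h : f = 1
  · simp [h]
  · rw [if_neg h, if_neg (Ne.symm h)]

end lin

section
variable {G : Type*} [Group G] {W₁ W₂ : Subgroup G}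

theorem cti_exists_factor (hcomm : ∀ a ∈ W₁, ∀ b ∈ W₂, a * b = b * a) (w : ↥(W₁ ⊔ W₂)) :
    ∃ a b : ↥(W₁ ⊔ W₂), (a : G) ∈ W₁ ∧ (b : G) ∈ W₂ ∧ w = a * b := by
  have hr := MonoidHom.noncommCoprod_range W₁.subtype W₂.subtype (fun a b => hcomm a a.2 b b.2)
  rw [Subgroup.range_subtype, Subgroup.range_subtype] at hr
  have hw : (w : G) ∈ (MonoidHom.noncommCoprod W₁.subtype W₂.subtype
      (fun a b => hcomm a a.2 b b.2)).range := by rw [hr]; exact w.2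
  obtain ⟨⟨a, b⟩, hab⟩ := hw
  refine ⟨⟨a, Subgroup.mem_sup_left a.2⟩, ⟨b, Subgroup.mem_sup_right b.2⟩, a.2, b.2, ?_⟩
  ext
  exact hab.symm

theorem cti_hom_ext {M : Type*} [Monoid M] (hcomm : ∀ a ∈ W₁, ∀ b ∈ W₂, a * b = b * a)
    {f g : ↥(W₁ ⊔ W₂) →* M}
    (h1 : ∀ w : ↥(W₁ ⊔ W₂), (w : G) ∈ W₁ → f w = g w)
    (h2 : ∀ w : ↥(W₁ ⊔ W₂), (w : G) ∈ W₂ → f w = g w) : f = g := by
  ext w
  obtain ⟨a, b, ha, hb, rfl⟩ := cti_exists_factor hcomm w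
  rw [map_mul, map_mul, h1 a ha, h2 b hb]

theorem cti_factor_unique (hcomm : ∀ a ∈ W₁, ∀ b ∈ W₂, a * b = b * a)
    {φ φ' ψ ψ' : ↥(W₁ ⊔ W₂) →* ℂˣ}
    (hφ : ∀ w : ↥(W₁ ⊔ W₂), (w : G) ∈ W₂ → φ w = 1)
    (hφ' : ∀ w : ↥(W₁ ⊔ W₂), (w : G) ∈ W₂ → φ' w = 1)
    (hψ : ∀ w : ↥(W₁ ⊔ W₂), (w : G) ∈ W₁ → ψ w = 1)
    (hψ' : ∀ w : ↥(W₁ ⊔ W₂), (w : G) ∈ W₁ → ψ' w = 1)
    (h : φ * ψ = φ' * ψ') : φ = φ' ∧ ψ = ψ' := by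
  constructor
  · apply cti_hom_ext hcomm
    · intro w hw
      have := congrArg (fun f => f w) h
      simpa [hψ w hw, hψ' w hw] using this
    · intro w hw
      rw [hφ w hw, hφ' w hw]
  · apply cti_hom_ext hcomm
    · intro w hw
      rw [hψ w hw, hψ' w hw]
    · intro w hw
      have := congrArg (fun f => f w) h
      simpa [hφ w hw, hφ' w hw] using this

theorem cti_mul_eq_iff (hcomm : ∀ a ∈ W₁, ∀ b ∈ W₂, a * b = b * a)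
    {φ φ' ψ ψ' : ↥(W₁ ⊔ W₂) →* ℂˣ}
    (hφ : ∀ w : ↥(W₁ ⊔ W₂), (w : G) ∈ W₂ → φ w = 1)
    (hφ' : ∀ w : ↥(W₁ ⊔ W₂), (w : G) ∈ W₂ → φ' w = 1)
    (hψ : ∀ w : ↥(W₁ ⊔ W₂), (w : G) ∈ W₁ → ψ w = 1)
    (hψ' : ∀ w : ↥(W₁ ⊔ W₂), (w : G) ∈ W₁ → ψ' w = 1) :
    φ * ψ = φ' * ψ' ↔ φ = φ' ∧ ψ = ψ' :=
  ⟨cti_factor_unique hcomm hφ hφ' hψ hψ', fun h => by rw [h.1, h.2]⟩

theorem cti_left_eq_mul_iff (hcomm : ∀ a ∈ W₁, ∀ b ∈ W₂, a * b = b * a)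
    {φ φ' ψ' : ↥(W₁ ⊔ W₂) →* ℂˣ}
    (hφ : ∀ w : ↥(W₁ ⊔ W₂), (w : G) ∈ W₂ → φ w = 1)
    (hφ' : ∀ w : ↥(W₁ ⊔ W₂), (w : G) ∈ W₂ → φ' w = 1)
    (hψ' : ∀ w : ↥(W₁ ⊔ W₂), (w : G) ∈ W₁ → ψ' w = 1) :
    φ = φ' * ψ' ↔ φ = φ' ∧ ψ' = 1 := by
  have h := cti_mul_eq_iff hcomm hφ hφ' (ψ := 1) (fun _ _ => rfl) hψ'
  have e : φ * (1 : ↥(W₁ ⊔ W₂) →* ℂˣ) = φ := by ext w; simp
  rw [e] at h
  rw [h]
  constructor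
  · rintro ⟨a, b⟩; exact ⟨a, b.symm⟩
  · rintro ⟨a, b⟩; exact ⟨a, b.symm⟩

theorem cti_right_eq_mul_iff (hcomm : ∀ a ∈ W₁, ∀ b ∈ W₂, a * b = b * a)
    {ψ φ' ψ' : ↥(W₁ ⊔ W₂) →* ℂˣ}
    (hψ : ∀ w : ↥(W₁ ⊔ W₂), (w : G) ∈ W₁ → ψ w = 1)
    (hφ' : ∀ w : ↥(W₁ ⊔ W₂), (w : G) ∈ W₂ → φ' w = 1)
    (hψ' : ∀ w : ↥(W₁ ⊔ W₂), (w : G) ∈ W₁ → ψ' w = 1) :
    ψ = φ' * ψ' ↔ φ' = 1 ∧ ψ = ψ' := by
  have h := cti_mul_eq_iff hcomm (φ := 1) (fun _ _ => rfl) hφ' hψ hψ'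
  have e : (1 : ↥(W₁ ⊔ W₂) →* ℂˣ) * ψ = ψ := by ext w; simp
  rw [e] at h
  rw [h]
  constructor
  · rintro ⟨a, b⟩; exact ⟨a.symm, b⟩
  · rintro ⟨a, b⟩; exact ⟨a.symm, b⟩

theorem cti_left_eq_right_iff (hcomm : ∀ a ∈ W₁, ∀ b ∈ W₂, a * b = b * a)
    {φ ψ : ↥(W₁ ⊔ W₂) →* ℂˣ}
    (hφ : ∀ w : ↥(W₁ ⊔ W₂), (w : G) ∈ W₂ → φ w = 1)
    (hψ : ∀ w : ↥(W₁ ⊔ W₂), (w : G) ∈ W₁ → ψ w = 1) :
    φ = ψ ↔ φ = 1 ∧ ψ = 1 := by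
  constructor
  · intro h
    have : φ = 1 := by
      apply cti_hom_ext hcomm
      · intro w hw; rw [h, hψ w hw]; rfl
      · intro w hw; rw [hφ w hw]; rfl
    exact ⟨this, h ▸ this⟩
  · rintro ⟨a, b⟩; rw [a, b]

theorem cti_mul_eq_one_iff (hcomm : ∀ a ∈ W₁, ∀ b ∈ W₂, a * b = b * a)
    {φ ψ : ↥(W₁ ⊔ W₂) →* ℂˣ}
    (hφ : ∀ w : ↥(W₁ ⊔ W₂), (w : G) ∈ W₂ → φ w = 1)
    (hψ : ∀ w : ↥(W₁ ⊔ W₂), (w : G) ∈ W₁ → ψ w = 1) :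
    φ * ψ = 1 ↔ φ = 1 ∧ ψ = 1 := by
  have h := cti_mul_eq_iff hcomm hφ (φ' := 1) (fun _ _ => rfl) hψ (ψ' := 1) (fun _ _ => rfl)
  have e : (1 : ↥(W₁ ⊔ W₂) →* ℂˣ) * 1 = 1 := by ext w; simp
  rwa [e] at h

theorem cti_alpha_eq (φ ψ : ↥(W₁ ⊔ W₂) →* ℂˣ) :
    (fun w : ↥(W₁ ⊔ W₂) => 1 - (φ w : ℂ) - (ψ w : ℂ) + (φ w : ℂ) * (ψ w : ℂ)) =
      (fun _ => (1 : ℂ)) - (fun w => ((φ w : ℂˣ) : ℂ)) - (fun w => ((ψ w : ℂˣ) : ℂ))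
        + (fun w => (((φ * ψ) w : ℂˣ) : ℂ)) := by
  funext w
  simp

open Classical in
theorem cti_alpha_inner_lin [Fintype ↥(W₁ ⊔ W₂)] (φ ψ ω : ↥(W₁ ⊔ W₂) →* ℂˣ) :
    classInner (fun w : ↥(W₁ ⊔ W₂) => 1 - (φ w : ℂ) - (ψ w : ℂ) + (φ w : ℂ) * (ψ w : ℂ))
      (fun w => ((ω w : ℂˣ) : ℂ)) =
      (if ω = 1 then 1 else 0) - (if φ = ω then 1 else 0) - (if ψ = ω then 1 else 0)
        + (if φ * ψ = ω then 1 else 0) := by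
  rw [cti_alpha_eq, Helper20.classInner_add_left, Helper20.classInner_sub_left,
    Helper20.classInner_sub_left, lin_inner, lin_inner, lin_inner, lin_inner_one_left]

open Classical in
theorem cti_alpha_inner_one [Fintype ↥(W₁ ⊔ W₂)] (hcomm : ∀ a ∈ W₁, ∀ b ∈ W₂, a * b = b * a)
    {φ ψ : ↥(W₁ ⊔ W₂) →* ℂˣ} (h1 : φ ≠ 1) (h2 : ψ ≠ 1)
    (hφ : ∀ w : ↥(W₁ ⊔ W₂), (w : G) ∈ W₂ → φ w = 1)
    (hψ : ∀ w : ↥(W₁ ⊔ W₂), (w : G) ∈ W₁ → ψ w = 1) :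
    classInner (fun w : ↥(W₁ ⊔ W₂) => 1 - (φ w : ℂ) - (ψ w : ℂ) + (φ w : ℂ) * (ψ w : ℂ))
      (fun _ => 1) = 1 := by
  have h := cti_alpha_inner_lin φ ψ 1
  simp only [MonoidHom.one_apply, Units.val_one] at h
  rw [h, if_pos trivial, if_neg h1, if_neg h2, if_neg]
  · ring
  · rw [cti_mul_eq_one_iff hcomm hφ hψ]
    exact fun h => h1 h.1

open Classical in
theorem cti_alpha_inner_mul [Fintype ↥(W₁ ⊔ W₂)] (hcomm : ∀ a ∈ W₁, ∀ b ∈ W₂, a * b = b * a)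
    {φ ψ φ' ψ' : ↥(W₁ ⊔ W₂) →* ℂˣ} (h1' : φ' ≠ 1) (h2' : ψ' ≠ 1)
    (hφ : ∀ w : ↥(W₁ ⊔ W₂), (w : G) ∈ W₂ → φ w = 1)
    (hψ : ∀ w : ↥(W₁ ⊔ W₂), (w : G) ∈ W₁ → ψ w = 1)
    (hφ' : ∀ w : ↥(W₁ ⊔ W₂), (w : G) ∈ W₂ → φ' w = 1)
    (hψ' : ∀ w : ↥(W₁ ⊔ W₂), (w : G) ∈ W₁ → ψ' w = 1) :
    classInner (fun w : ↥(W₁ ⊔ W₂) => 1 - (φ w : ℂ) - (ψ w : ℂ) + (φ w : ℂ) * (ψ w : ℂ))
      (fun w => (((φ' * ψ') w : ℂˣ) : ℂ)) = if φ = φ' ∧ ψ = ψ' then 1 else 0 := by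
  rw [cti_alpha_inner_lin, if_neg, if_neg, if_neg]
  · simp only [cti_mul_eq_iff hcomm hφ hφ' hψ hψ']
    ring
  · rw [cti_right_eq_mul_iff hcomm hψ hφ' hψ']
    exact fun h => h1' h.1
  · rw [cti_left_eq_mul_iff hcomm hφ hφ' hψ']
    exact fun h => h2' h.2
  · rw [cti_mul_eq_one_iff hcomm hφ' hψ']
    exact fun h => h1' h.1

open Classical in
theorem cti_alpha_inner_left [Fintype ↥(W₁ ⊔ W₂)] (hcomm : ∀ a ∈ W₁, ∀ b ∈ W₂, a * b = b * a)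
    {φ ψ φ' : ↥(W₁ ⊔ W₂) →* ℂˣ} (h2 : ψ ≠ 1) (h1' : φ' ≠ 1)
    (hφ : ∀ w : ↥(W₁ ⊔ W₂), (w : G) ∈ W₂ → φ w = 1)
    (hψ : ∀ w : ↥(W₁ ⊔ W₂), (w : G) ∈ W₁ → ψ w = 1)
    (hφ' : ∀ w : ↥(W₁ ⊔ W₂), (w : G) ∈ W₂ → φ' w = 1) :
    classInner (fun w : ↥(W₁ ⊔ W₂) => 1 - (φ w : ℂ) - (ψ w : ℂ) + (φ w : ℂ) * (ψ w : ℂ))
      (fun w => ((φ' w : ℂˣ) : ℂ)) = - if φ = φ' then 1 else 0 := by
  rw [cti_alpha_inner_lin, if_neg h1', if_neg (c := ψ = φ'), if_neg (c := φ * ψ = φ')]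
  · ring
  · intro h
    exact h2 ((cti_left_eq_mul_iff hcomm hφ' hφ hψ).1 h.symm).2
  · intro h
    exact h2 ((cti_left_eq_right_iff hcomm hφ' hψ).1 h.symm).2

open Classical in
theorem cti_alpha_inner_right [Fintype ↥(W₁ ⊔ W₂)] (hcomm : ∀ a ∈ W₁, ∀ b ∈ W₂, a * b = b * a)
    {φ ψ ψ' : ↥(W₁ ⊔ W₂) →* ℂˣ} (h1 : φ ≠ 1) (h2' : ψ' ≠ 1)
    (hφ : ∀ w : ↥(W₁ ⊔ W₂), (w : G) ∈ W₂ → φ w = 1)
    (hψ : ∀ w : ↥(W₁ ⊔ W₂), (w : G) ∈ W₁ → ψ w = 1)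
    (hψ' : ∀ w : ↥(W₁ ⊔ W₂), (w : G) ∈ W₁ → ψ' w = 1) :
    classInner (fun w : ↥(W₁ ⊔ W₂) => 1 - (φ w : ℂ) - (ψ w : ℂ) + (φ w : ℂ) * (ψ w : ℂ))
      (fun w => ((ψ' w : ℂˣ) : ℂ)) = - if ψ = ψ' then 1 else 0 := by
  rw [cti_alpha_inner_lin, if_neg h2', if_neg (c := φ = ψ'), if_neg (c := φ * ψ = ψ')]
  · ring
  · intro h
    exact h1 ((cti_right_eq_mul_iff hcomm hψ' hφ hψ).1 h.symm).1
  · intro h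
    exact h1 ((cti_left_eq_right_iff hcomm hφ hψ').1 h).1

open Classical in
theorem cti_alpha_inner_alpha [Fintype ↥(W₁ ⊔ W₂)] (hcomm : ∀ a ∈ W₁, ∀ b ∈ W₂, a * b = b * a)
    {φ ψ φ' ψ' : ↥(W₁ ⊔ W₂) →* ℂˣ} (h1 : φ ≠ 1) (h2 : ψ ≠ 1) (h1' : φ' ≠ 1) (h2' : ψ' ≠ 1)
    (hφ : ∀ w : ↥(W₁ ⊔ W₂), (w : G) ∈ W₂ → φ w = 1)
    (hψ : ∀ w : ↥(W₁ ⊔ W₂), (w : G) ∈ W₁ → ψ w = 1)
    (hφ' : ∀ w : ↥(W₁ ⊔ W₂), (w : G) ∈ W₂ → φ' w = 1)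
    (hψ' : ∀ w : ↥(W₁ ⊔ W₂), (w : G) ∈ W₁ → ψ' w = 1) :
    classInner (fun w : ↥(W₁ ⊔ W₂) => 1 - (φ w : ℂ) - (ψ w : ℂ) + (φ w : ℂ) * (ψ w : ℂ))
      (fun w : ↥(W₁ ⊔ W₂) => 1 - (φ' w : ℂ) - (ψ' w : ℂ) + (φ' w : ℂ) * (ψ' w : ℂ)) =
      1 + (if φ = φ' then 1 else 0) + (if ψ = ψ' then 1 else 0)
        + (if φ = φ' then 1 else 0) * (if ψ = ψ' then 1 else 0) := by
  rw [cti_alpha_eq φ' ψ', Helper20.classInner_add_right, Helper20.classInner_sub_right,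
    Helper20.classInner_sub_right, cti_alpha_inner_one hcomm h1 h2 hφ hψ,
    cti_alpha_inner_left hcomm h2 h1' hφ hψ hφ', cti_alpha_inner_right hcomm h1 h2' hφ hψ hψ',
    cti_alpha_inner_mul hcomm h1' h2' hφ hψ hφ' hψ']
  by_cases a : φ = φ' <;> by_cases b : ψ = ψ' <;> simp [a, b]

end

end Cfsg.Agent.Lib.Helper32
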