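import Mathlib
import Cfsg.Prelude.Def_OddOrderChar
import Cfsg.Agent.S0150
import Cfsg.Agent.S1386
import Cfsg.Agent.Lib.Helper32.CyclicTI2

set_option autoImplicit false

namespace Cfsg.Agent.Lib.Helper32

open Cfsg
open scoped ComplexConjugate

section
variable {G : Type*} [Group G] {W₁ W₂ : Subgroup G}

/-- the set `W ∖ (W₁ ∪ W₂)` -/
def sncV (W₁ W₂ : Subgroup G) : Set G := (↑(W₁ ⊔ W₂) : Set G) \ (↑W₁ ∪ ↑W₂)

theorem mem_sncV {x : G} : x ∈ sncV W₁ W₂ ↔ x ∈ W₁ ⊔ W₂ ∧ x ∉ W₁ ∧ x ∉ W₂ := by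
  simp [sncV, not_or]

theorem snc_mul_mem_V (hdisj : W₁ ⊓ W₂ = ⊥) {a b : G} (ha : a ∈ W₁) (hb : b ∈ W₂)
    (ha1 : a ≠ 1) (hb1 : b ≠ 1) : a * b ∈ sncV W₁ W₂ := by
  rw [mem_sncV]
  refine ⟨mul_mem (Subgroup.mem_sup_left ha) (Subgroup.mem_sup_right hb), ?_, ?_⟩
  · intro h
    apply hb1
    have : b ∈ W₁ ⊓ W₂ := Subgroup.mem_inf.mpr ⟨by simpa using mul_mem (inv_mem ha) h, hb⟩
    rwa [hdisj, Subgroup.mem_bot] at this
  · intro h
    apply ha1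
    have : a ∈ W₁ ⊓ W₂ := Subgroup.mem_inf.mpr ⟨ha, by simpa using mul_mem h (inv_mem hb)⟩
    rwa [hdisj, Subgroup.mem_bot] at this

theorem snc_V_nonempty (hW : IsSelfNormalizingCyclic W₁ W₂) : (sncV W₁ W₂).Nonempty := by
  obtain ⟨h1, h2, hdisj, -, -, -⟩ := hW
  obtain ⟨x, hx, hx1⟩ : ∃ x ∈ W₁, x ≠ 1 := by
    by_contra hcon
    push Not at hcon
    exact h1 ((Subgroup.eq_bot_iff_forall _).mpr hcon)
  obtain ⟨y, hy, hy1⟩ : ∃ y ∈ W₂, y ≠ 1 := by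
    by_contra hcon
    push Not at hcon
    exact h2 ((Subgroup.eq_bot_iff_forall _).mpr hcon)
  exact ⟨x * y, snc_mul_mem_V hdisj hx hy hx1 hy1⟩

theorem snc_normalizer_V (hW : IsSelfNormalizingCyclic W₁ W₂) :
    Subgroup.normalizer (sncV W₁ W₂) = W₁ ⊔ W₂ :=
  hW.2.2.2.2.2 _ subset_rfl (snc_V_nonempty hW)

theorem pow_card_subgroup_eq_one [Finite G] (H : Subgroup G) {h : G} (hh : h ∈ H) :
    h ^ (Nat.card H) = 1 := by
  have := pow_card_eq_one' (G := H) (x := ⟨h, hh⟩)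
  exact congrArg Subtype.val this

theorem snc_mem_left_iff [Finite G] (hW : IsSelfNormalizingCyclic W₁ W₂) {w : G}
    (hw : w ∈ W₁ ⊔ W₂) : w ∈ W₁ ↔ w ^ Nat.card W₁ = 1 := by
  obtain ⟨-, -, hdisj, hcomm, hcyc, -⟩ := hW
  have hcop := Cfsg.Agent.S1386.coprime_of_cyclic_sup W₁ W₂ hdisj hcomm hcyc
  constructor
  · exact fun h => pow_card_subgroup_eq_one W₁ h
  · intro h
    obtain ⟨a, b, ha, hb, hab⟩ := cti_exists_factor hcomm ⟨w, hw⟩
    have hab' : w = (a : G) * b := congrArg Subtype.val hab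
    have hc : Commute (a : G) (b : G) := hcomm a ha b hb
    rw [hab', hc.mul_pow, pow_card_subgroup_eq_one W₁ ha, one_mul] at h
    have h3 := pow_card_subgroup_eq_one W₂ hb
    have h4 : (b : G) = 1 := by
      have := pow_gcd_eq_one.mpr ⟨h, h3⟩
      rwa [Nat.Coprime.gcd_eq_one hcop, pow_one] at this
    rw [hab', h4, mul_one]
    exact ha

theorem snc_mem_right_iff [Finite G] (hW : IsSelfNormalizingCyclic W₁ W₂) {w : G}
    (hw : w ∈ W₁ ⊔ W₂) : w ∈ W₂ ↔ w ^ Nat.card W₂ = 1 := by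
  obtain ⟨-, -, hdisj, hcomm, hcyc, -⟩ := hW
  have hcop := Cfsg.Agent.S1386.coprime_of_cyclic_sup W₁ W₂ hdisj hcomm hcyc
  constructor
  · exact fun h => pow_card_subgroup_eq_one W₂ h
  · intro h
    obtain ⟨a, b, ha, hb, hab⟩ := cti_exists_factor hcomm ⟨w, hw⟩
    have hab' : w = (a : G) * b := congrArg Subtype.val hab
    have hc : Commute (a : G) (b : G) := hcomm a ha b hb
    rw [hab', hc.mul_pow, pow_card_subgroup_eq_one W₂ hb, mul_one] at h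
    have h3 := pow_card_subgroup_eq_one W₁ ha
    have h4 : (a : G) = 1 := by
      have := pow_gcd_eq_one.mpr ⟨h3, h⟩
      rwa [Nat.Coprime.gcd_eq_one hcop, pow_one] at this
    rw [hab', h4, one_mul]
    exact hb

theorem snc_mem_iff_commute (hW : IsSelfNormalizingCyclic W₁ W₂) {t : G} (ht : t ∈ sncV W₁ W₂)
    (x : G) : x ∈ W₁ ⊔ W₂ ↔ x * t * x⁻¹ = t := by
  have h := hW.2.2.2.2.2 {t} (Set.singleton_subset_iff.mpr ht) (Set.singleton_nonempty _)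
  rw [← h, Subgroup.mem_set_normalizer_iff]
  constructor
  · intro hx
    exact (hx t).1 rfl
  · intro hx y
    simp only [Set.mem_singleton_iff]
    constructor
    · rintro rfl; exact hx
    · intro hy
      have : x * y * x⁻¹ = x * t * x⁻¹ := by rw [hy, hx]
      simpa using this

theorem snc_TI [Finite G] (hW : IsSelfNormalizingCyclic W₁ W₂) {g t : G}
    (ht : t ∈ sncV W₁ W₂) (hs : g * t * g⁻¹ ∈ sncV W₁ W₂) : g ∈ W₁ ⊔ W₂ := by
  have hWW : ∀ x, x ∈ W₁ ⊔ W₂ ↔ g * x * g⁻¹ ∈ W₁ ⊔ W₂ := by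
    intro x
    rw [snc_mem_iff_commute hW ht x, snc_mem_iff_commute hW hs (g * x * g⁻¹)]
    constructor
    · intro h
      calc g * x * g⁻¹ * (g * t * g⁻¹) * (g * x * g⁻¹)⁻¹ = g * (x * t * x⁻¹) * g⁻¹ := by group
        _ = g * t * g⁻¹ := by rw [h]
    · intro h
      have : g * (x * t * x⁻¹) * g⁻¹ = g * t * g⁻¹ := by
        rw [← h]; group
      simpa using this
  have hpow : ∀ (x : G) (k : ℕ), (g * x * g⁻¹) ^ k = 1 ↔ x ^ k = 1 := by
    intro x k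
    rw [conj_pow]
    constructor
    · intro h
      have : g * x ^ k * g⁻¹ = g * 1 * g⁻¹ := by rw [h]; group
      simpa using this
    · intro h; rw [h]; group
  rw [← snc_normalizer_V hW, Subgroup.mem_set_normalizer_iff]
  intro x
  rw [mem_sncV, mem_sncV]
  by_cases hx : x ∈ W₁ ⊔ W₂
  · have hx' := (hWW x).1 hx
    rw [snc_mem_left_iff hW hx, snc_mem_left_iff hW hx', snc_mem_right_iff hW hx,
      snc_mem_right_iff hW hx', hpow, hpow]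
    simp [hx, hx']
  · have hx' : ¬ (g * x * g⁻¹ ∈ W₁ ⊔ W₂) := fun h => hx ((hWW x).2 h)
    simp [hx, hx']

theorem ti_isometry_of_eq [Fintype G] (T : Set G) (N : Subgroup G)
    (hN : Subgroup.normalizer T = N)
    (hTI : ∀ g : G, g ∉ N → ∀ t ∈ T, g * t * g⁻¹ ∈ T → t = 1) (hTN : T ⊆ N)
    [Fintype N] (ψ θ : N → ℂ) (hψ : IsClassFunction N ψ) (hθ : IsClassFunction N θ)
    (hψT : ∀ x : N, (x : G) ∉ T → ψ x = 0) (hθT : ∀ x : N, (x : G) ∉ T → θ x = 0)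
    (hψ1 : ψ 1 = 0) :
    classInner (indFun N ψ) (indFun N θ) = classInner ψ θ := by
  subst hN
  exact Cfsg.Agent.S0150.result T hTI hTN ψ θ hψ hθ hψT hθT hψ1

theorem snc_isClassFunction (hW : IsSelfNormalizingCyclic W₁ W₂) (f : ↥(W₁ ⊔ W₂) → ℂ) :
    IsClassFunction ↥(W₁ ⊔ W₂) f := by
  intro g x
  have hc := hW.2.2.2.2.1
  have := (IsCyclic.commGroup (α := ↥(W₁ ⊔ W₂))).mul_comm x g
  have e : x * g * x⁻¹ = g := by
    rw [this]; group
  rw [e]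

theorem snc_isometry [Fintype G] [Fintype ↥(W₁ ⊔ W₂)] (hW : IsSelfNormalizingCyclic W₁ W₂)
    (ψ θ : ↥(W₁ ⊔ W₂) → ℂ)
    (hψT : ∀ x : ↥(W₁ ⊔ W₂), ((x : G) ∈ W₁ ∨ (x : G) ∈ W₂) → ψ x = 0)
    (hθT : ∀ x : ↥(W₁ ⊔ W₂), ((x : G) ∈ W₁ ∨ (x : G) ∈ W₂) → θ x = 0) :
    classInner (indFun (W₁ ⊔ W₂) ψ) (indFun (W₁ ⊔ W₂) θ) = classInner ψ θ := by
  apply ti_isometry_of_eq (sncV W₁ W₂) (W₁ ⊔ W₂) (snc_normalizer_V hW)
  · intro g hg t ht hs
    exact absurd (snc_TI hW ht hs) hg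
  · intro x hx
    exact (mem_sncV.1 hx).1
  · exact snc_isClassFunction hW ψ
  · exact snc_isClassFunction hW θ
  · intro x hx
    apply hψT
    by_contra hcon
    rw [not_or] at hcon
    exact hx (mem_sncV.2 ⟨x.2, hcon.1, hcon.2⟩)
  · intro x hx
    apply hθT
    by_contra hcon
    rw [not_or] at hcon
    exact hx (mem_sncV.2 ⟨x.2, hcon.1, hcon.2⟩)
  · exact hψT 1 (Or.inl (one_mem _))

end

end Cfsg.Agent.Lib.Helper32
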