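import Cfsg.Agent.Lib.Helper32.GenChar

set_option autoImplicit false
set_option linter.unusedSectionVars false

namespace Cfsg.Agent.Lib.Helper32

open Cfsg Cfsg.Agent.Lib.Helper20
open scoped ComplexConjugate

universe u v

section ZSpan

variable {X : Type u}

/-- `zspanOn` as a submodule -/
def zspanOnSub (S : Set (X → ℂ)) (A : Set X) : Submodule ℤ (X → ℂ) where
  carrier := zspanOn S A
  add_mem' := by
    rintro a b ⟨ha, ha'⟩ ⟨hb, hb'⟩
    exact ⟨(Submodule.span ℤ S).add_mem ha hb, fun x hx => by simp [ha' x hx, hb' x hx]⟩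
  zero_mem' := ⟨(Submodule.span ℤ S).zero_mem, fun _ _ => rfl⟩
  smul_mem' := by
    rintro n a ⟨ha, ha'⟩
    exact ⟨(Submodule.span ℤ S).smul_mem n ha, fun x hx => by simp [ha' x hx]⟩

theorem mem_zspanOnSub {S : Set (X → ℂ)} {A : Set X} {α : X → ℂ} :
    α ∈ zspanOnSub S A ↔ α ∈ zspanOn S A := Iff.rfl

theorem mem_zspan {S : Set (X → ℂ)} {α : X → ℂ} :
    α ∈ zspan S ↔ α ∈ Submodule.span ℤ S := Iff.rfl

theorem zspan_of_mem {S : Set (X → ℂ)} {α : X → ℂ} (h : α ∈ S) : α ∈ zspan S :=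
  Submodule.subset_span h

theorem zspan_mono {S T : Set (X → ℂ)} (h : S ⊆ T) : zspan S ⊆ zspan T :=
  Submodule.span_mono h

theorem zspanOn_mono {S T : Set (X → ℂ)} (h : S ⊆ T) (A : Set X) : zspanOn S A ⊆ zspanOn T A :=
  fun _ ha => ⟨zspan_mono h ha.1, ha.2⟩

theorem zspanOn_subset (S : Set (X → ℂ)) (A : Set X) : zspanOn S A ⊆ zspan S := fun _ h => h.1

theorem mem_zspanOn_one [One X] {S : Set (X → ℂ)} {α : X → ℂ} :
    α ∈ zspanOn S {1}ᶜ ↔ α ∈ zspan S ∧ α 1 = 0 := by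
  constructor
  · rintro ⟨h1, h2⟩
    exact ⟨h1, h2 1 (by simp)⟩
  · rintro ⟨h1, h2⟩
    refine ⟨h1, fun x hx => ?_⟩
    have : x = 1 := by simpa using hx
    rw [this, h2]

end ZSpan

section Inner

variable {G : Type u} [Group G] [Fintype G]

theorem classInner_zsmul_left (n : ℤ) (φ ψ : G → ℂ) :
    classInner (n • φ) ψ = n * classInner φ ψ := by
  rw [← Int.cast_smul_eq_zsmul ℂ n φ, classInner_smul_left]

theorem classInner_zsmul_right (n : ℤ) (φ ψ : G → ℂ) :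
    classInner φ (n • ψ) = n * classInner φ ψ := by
  rw [← Int.cast_smul_eq_zsmul ℂ n ψ, classInner_smul_right]; simp

end Inner

section Iso

variable {L : Type u} [Group L] [Fintype L] {G : Type v} [Group G] [Fintype G]

theorem iso_mono {E E' : Set (L → ℂ)} {τ : (L → ℂ) → (G → ℂ)} (h : IsLinearIsometryOn E τ)
    (hE : E' ⊆ E) : IsLinearIsometryOn E' τ :=
  ⟨fun α ha β hb => h.1 α (hE ha) β (hE hb), fun α ha n => h.2.1 α (hE ha) n,
    fun α ha β hb => h.2.2.1 α (hE ha) β (hE hb), fun α ha => h.2.2.2 α (hE ha)⟩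

variable {M : Submodule ℤ (L → ℂ)} {τ : (L → ℂ) → (G → ℂ)}

theorem iso_map_add (h : IsLinearIsometryOn (M : Set (L → ℂ)) τ) {α β : L → ℂ} (ha : α ∈ M)
    (hb : β ∈ M) : τ (α + β) = τ α + τ β := h.1 α ha β hb

theorem iso_map_zsmul (h : IsLinearIsometryOn (M : Set (L → ℂ)) τ) {α : L → ℂ} (ha : α ∈ M)
    (n : ℤ) : τ (n • α) = n • τ α := h.2.1 α ha n

theorem iso_inner (h : IsLinearIsometryOn (M : Set (L → ℂ)) τ) {α β : L → ℂ} (ha : α ∈ M)
    (hb : β ∈ M) : classInner (τ α) (τ β) = classInner α β := h.2.2.1 α ha β hb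

theorem iso_genChar (h : IsLinearIsometryOn (M : Set (L → ℂ)) τ) {α : L → ℂ} (ha : α ∈ M) :
    IsGeneralizedCharacter G (τ α) := h.2.2.2 α ha

theorem iso_map_zero (h : IsLinearIsometryOn (M : Set (L → ℂ)) τ) : τ 0 = 0 := by
  have := iso_map_zsmul h M.zero_mem 0
  simpa using this

theorem iso_map_neg (h : IsLinearIsometryOn (M : Set (L → ℂ)) τ) {α : L → ℂ} (ha : α ∈ M) :
    τ (-α) = -τ α := by
  have := iso_map_zsmul h ha (-1)
  simpa using this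

theorem iso_map_sub (h : IsLinearIsometryOn (M : Set (L → ℂ)) τ) {α β : L → ℂ} (ha : α ∈ M)
    (hb : β ∈ M) : τ (α - β) = τ α - τ β := by
  rw [sub_eq_add_neg, iso_map_add h ha (M.neg_mem hb), iso_map_neg h hb, sub_eq_add_neg]

theorem iso_map_sum (h : IsLinearIsometryOn (M : Set (L → ℂ)) τ) {ι : Type*} (s : Finset ι)
    (f : ι → L → ℂ) (hf : ∀ i ∈ s, f i ∈ M) : τ (∑ i ∈ s, f i) = ∑ i ∈ s, τ (f i) := by
  classical
  induction s using Finset.induction_on with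
  | empty => simpa using iso_map_zero h
  | insert a s ha ih =>
    have h1 : ∀ i ∈ s, f i ∈ M := fun i hi => hf i (Finset.mem_insert_of_mem hi)
    rw [Finset.sum_insert ha, Finset.sum_insert ha,
      iso_map_add h (hf a (Finset.mem_insert_self a s)) (M.sum_mem h1), ih h1]

end Iso

section Ext

variable {L : Type u} [Group L] [Fintype L] {G : Type v} [Group G] [Fintype G]

/-- pairwise orthogonal finite family of nonzero functions -/
def OrthoSet (S : Set (L → ℂ)) : Prop :=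
  (∀ ξ ∈ S, ∀ φ ∈ S, ξ ≠ φ → classInner ξ φ = 0) ∧ ∀ ξ ∈ S, classInner ξ ξ ≠ 0

theorem OrthoSet.inner_sum {S : Finset (L → ℂ)} (hS : OrthoSet (S : Set (L → ℂ)))
    (c : (L → ℂ) → ℤ) {φ : L → ℂ} (hφ : φ ∈ S) :
    classInner (∑ ξ ∈ S, c ξ • ξ) φ = c φ * classInner φ φ := by
  rw [classInner_sum_left, Finset.sum_eq_single φ]
  · rw [classInner_zsmul_left]
  · intro ξ hξ hne
    rw [classInner_zsmul_left, hS.1 ξ hξ φ hφ hne, mul_zero]
  · intro h; exact absurd hφ h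

/-- the linear extension of a map defined on an orthogonal set -/
noncomputable def extIso (S : Finset (L → ℂ)) (f : (L → ℂ) → (G → ℂ)) : (L → ℂ) → (G → ℂ) :=
  fun α => ∑ ξ ∈ S, (classInner α ξ / classInner ξ ξ) • f ξ

theorem extIso_sum {S : Finset (L → ℂ)} (hS : OrthoSet (S : Set (L → ℂ)))
    (f : (L → ℂ) → (G → ℂ)) (c : (L → ℂ) → ℤ) :
    extIso S f (∑ ξ ∈ S, c ξ • ξ) = ∑ ξ ∈ S, c ξ • f ξ := by
  unfold extIso
  apply Finset.sum_congr rfl
  intro φ hφ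
  rw [hS.inner_sum c hφ, mul_div_assoc, div_self (hS.2 φ hφ), mul_one, Int.cast_smul_eq_zsmul]

theorem extIso_mem {S : Finset (L → ℂ)} (hS : OrthoSet (S : Set (L → ℂ)))
    (f : (L → ℂ) → (G → ℂ)) {φ : L → ℂ} (hφ : φ ∈ S) : extIso S f φ = f φ := by
  unfold extIso
  rw [Finset.sum_eq_single φ]
  · rw [div_self (hS.2 φ hφ), one_smul]
  · intro ξ hξ hne
    rw [hS.1 φ hφ ξ hξ hne.symm, zero_div, zero_smul]
  · intro h; exact absurd hφ h

theorem extIso_add (S : Finset (L → ℂ)) (f : (L → ℂ) → (G → ℂ)) (α β : L → ℂ) :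
    extIso S f (α + β) = extIso S f α + extIso S f β := by
  unfold extIso
  rw [← Finset.sum_add_distrib]
  apply Finset.sum_congr rfl
  intro ξ _
  rw [classInner_add_left, add_div, add_smul]

theorem extIso_zsmul (S : Finset (L → ℂ)) (f : (L → ℂ) → (G → ℂ)) (n : ℤ) (α : L → ℂ) :
    extIso S f (n • α) = n • extIso S f α := by
  unfold extIso
  rw [Finset.smul_sum]
  apply Finset.sum_congr rfl
  intro ξ _
  rw [classInner_zsmul_left, mul_div_assoc, ← Int.cast_smul_eq_zsmul ℂ n, smul_smul]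

theorem exists_coeff_of_mem_zspan {X : Type*} {S : Finset (X → ℂ)} {α : X → ℂ}
    (h : α ∈ zspan (S : Set (X → ℂ))) : ∃ c : (X → ℂ) → ℤ, α = ∑ ξ ∈ S, c ξ • ξ := by
  obtain ⟨c, -, hc⟩ := Submodule.mem_span_finset.1 h
  exact ⟨c, hc.symm⟩

theorem extIso_isometry {S : Finset (L → ℂ)} (hS : OrthoSet (S : Set (L → ℂ)))
    (f : (L → ℂ) → (G → ℂ))
    (hf : ∀ ξ ∈ S, ∀ φ ∈ S, classInner (f ξ) (f φ) = classInner ξ φ)
    (hg : ∀ ξ ∈ S, IsGeneralizedCharacter G (f ξ)) :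
    IsLinearIsometryOn (zspan (S : Set (L → ℂ))) (extIso S f) := by
  refine ⟨fun α _ β _ => extIso_add S f α β, fun α _ n => extIso_zsmul S f n α, ?_, ?_⟩
  · intro α ha β hb
    obtain ⟨c, rfl⟩ := exists_coeff_of_mem_zspan ha
    obtain ⟨d, rfl⟩ := exists_coeff_of_mem_zspan hb
    rw [extIso_sum hS, extIso_sum hS]
    simp only [classInner_sum_left, classInner_sum_right, classInner_zsmul_left,
      classInner_zsmul_right]
    apply Finset.sum_congr rfl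
    intro ξ hξ
    congr 1
    apply Finset.sum_congr rfl
    intro φ hφ
    rw [hf φ hφ ξ hξ]
  · intro α ha
    obtain ⟨c, rfl⟩ := exists_coeff_of_mem_zspan ha
    rw [extIso_sum hS]
    exact genChar_sum _ _ (fun ξ hξ => genChar_zsmul (hg ξ hξ) _)

theorem gen_mem_zspanOn {S : Set (L → ℂ)} (d : (L → ℂ) → ℤ) (hd : ∀ ξ ∈ S, ξ 1 = d ξ)
    {ξ ξ₀ : L → ℂ} (hξ : ξ ∈ S) (hξ₀ : ξ₀ ∈ S) : d ξ₀ • ξ - d ξ • ξ₀ ∈ zspanOn S {1}ᶜ := by
  rw [mem_zspanOn_one]
  refine ⟨(Submodule.span ℤ S).sub_mem ((Submodule.span ℤ S).smul_mem _ (Submodule.subset_span hξ))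
    ((Submodule.span ℤ S).smul_mem _ (Submodule.subset_span hξ₀)), ?_⟩
  simp only [Pi.sub_apply, Pi.smul_apply, hd ξ hξ, hd ξ₀ hξ₀]
  simp only [zsmul_eq_mul]
  ring

theorem agree_of_generators {S T : Set (L → ℂ)} (hST : S ⊆ T) {τ τ₁ : (L → ℂ) → (G → ℂ)}
    (hτ : IsLinearIsometryOn (zspanOn T {1}ᶜ) τ) (hτ₁ : IsLinearIsometryOn (zspan S) τ₁)
    (d : (L → ℂ) → ℤ) (hd : ∀ ξ ∈ S, ξ 1 = d ξ) {ξ₀ : L → ℂ} (hξ₀ : ξ₀ ∈ S) (hd₀ : d ξ₀ ≠ 0)
    (hgen : ∀ ξ ∈ S, τ₁ (d ξ₀ • ξ - d ξ • ξ₀) = τ (d ξ₀ • ξ - d ξ • ξ₀)) :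
    ∀ α ∈ zspanOn S {1}ᶜ, τ₁ α = τ α := by
  intro α hα
  have hα' := mem_zspanOn_one.1 hα
  obtain ⟨c, t, hts, -, hc⟩ := Submodule.mem_span_iff_exists_finset_subset.1 hα'.1
  have hdeg : ∑ a ∈ t, c a * d a = 0 := by
    have h1 := hα'.2
    rw [← hc] at h1
    simp only [Finset.sum_apply, Pi.smul_apply] at h1
    simp only [zsmul_eq_mul] at h1
    have h2 : ∑ a ∈ t, (c a : ℂ) * a 1 = ∑ a ∈ t, ((c a * d a : ℤ) : ℂ) := by
      apply Finset.sum_congr rfl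
      intro a ha
      rw [hd a (hts ha)]; push_cast; ring
    rw [h2] at h1
    exact_mod_cast h1
  have hkey : d ξ₀ • α = ∑ a ∈ t, c a • (d ξ₀ • a - d a • ξ₀) := by
    simp only [smul_sub, Finset.sum_sub_distrib]
    have h1 : ∑ a ∈ t, c a • d a • ξ₀ = 0 := by
      simp only [smul_smul]
      rw [← Finset.sum_smul, hdeg, zero_smul]
    rw [h1, sub_zero, ← hc, Finset.smul_sum]
    apply Finset.sum_congr rfl
    intro a _
    rw [smul_comm]
  have hτ' : IsLinearIsometryOn ((zspanOnSub T {1}ᶜ : Submodule ℤ (L → ℂ)) : Set (L → ℂ)) τ := hτ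
  have hτ₁' : IsLinearIsometryOn ((Submodule.span ℤ S : Submodule ℤ (L → ℂ)) : Set (L → ℂ)) τ₁ :=
    hτ₁
  have hgT : ∀ a ∈ t, d ξ₀ • a - d a • ξ₀ ∈ zspanOnSub T {1}ᶜ := fun a ha =>
    zspanOn_mono hST _ (gen_mem_zspanOn d hd (hts ha) hξ₀)
  have hgS : ∀ a ∈ t, d ξ₀ • a - d a • ξ₀ ∈ Submodule.span ℤ S := fun a ha =>
    (gen_mem_zspanOn d hd (hts ha) hξ₀).1
  have e1 : d ξ₀ • τ α = ∑ a ∈ t, c a • τ (d ξ₀ • a - d a • ξ₀) := by
    rw [← iso_map_zsmul hτ' (zspanOn_mono hST _ hα), hkey,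
      iso_map_sum hτ' t _ (fun a ha => Submodule.smul_mem _ _ (hgT a ha))]
    apply Finset.sum_congr rfl
    intro a ha
    rw [iso_map_zsmul hτ' (hgT a ha)]
  have e2 : d ξ₀ • τ₁ α = ∑ a ∈ t, c a • τ₁ (d ξ₀ • a - d a • ξ₀) := by
    rw [← iso_map_zsmul hτ₁' hα'.1, hkey,
      iso_map_sum hτ₁' t _ (fun a ha => Submodule.smul_mem _ _ (hgS a ha))]
    apply Finset.sum_congr rfl
    intro a ha
    rw [iso_map_zsmul hτ₁' (hgS a ha)]
  have e3 : d ξ₀ • τ₁ α = d ξ₀ • τ α := by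
    rw [e1, e2]
    apply Finset.sum_congr rfl
    intro a ha
    rw [hgen a (hts ha)]
  ext g
  have e4 := congrFun e3 g
  simp only [Pi.smul_apply] at e4
  simp only [zsmul_eq_mul] at e4
  exact mul_left_cancel₀ (by exact_mod_cast hd₀) e4

theorem OrthoSet.finite {S : Set (L → ℂ)} (hS : OrthoSet S) : S.Finite := by
  classical
  have hli : LinearIndependent ℂ (Subtype.val : S → L → ℂ) := by
    rw [linearIndependent_iff']
    intro s c hc χ hχ
    have h1 := congrArg (fun f => classInner f (χ : L → ℂ)) hc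
    simp only [classInner_sum_left, classInner_smul_left, classInner_zero_left] at h1
    rw [Finset.sum_eq_single χ] at h1
    · rcases mul_eq_zero.1 h1 with h | h
      · exact h
      · exact absurd h (hS.2 χ χ.2)
    · intro ψ _ hne
      rw [hS.1 ψ ψ.2 χ χ.2 (fun h => hne (Subtype.ext h)), mul_zero]
    · intro h; exact absurd hχ h
  have : Finite S := LinearIndependent.finite_of_isNoetherian hli
  exact Set.toFinite S

theorem orthoSet_of_irr {S : Set (L → ℂ)} (hS : ∀ ξ ∈ S, IsIrrCharacter L ξ) : OrthoSet S :=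
  ⟨fun ξ hξ φ hφ hne => classInner_irr_ne (hS ξ hξ) (hS φ hφ) hne,
    fun ξ hξ => by rw [classInner_irr_self (hS ξ hξ)]; exact one_ne_zero⟩

end Ext

end Cfsg.Agent.Lib.Helper32
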