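import Mathlib
import Cfsg.Prelude.Def_OddOrderChar
import Cfsg.Prelude.Def_OddOrderLocal
import Cfsg.Agent.Lib.Helper32.IndAbove
import Cfsg.Agent.Lib.Helper32.Isometry
import Cfsg.Agent.Lib.Helper32.CyclicTI3
import Cfsg.Agent.Lib.Helper32.NilStep
import Cfsg.Agent.Lib.Helper19.GramRigid
import Cfsg.Agent.Lib.Helper82.Frob

set_option autoImplicit false

namespace Cfsg.Agent.Lib.Helper32

open Cfsg
open scoped ComplexConjugate commutatorElement

section
variable {G : Type*} [Group G] [Fintype G] (L : Subgroup G) [Fintype L] (K : Subgroup L)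

theorem zsmul_eq_complex_smul {X : Type*} (n : ℤ) (α : X → ℂ) : n • α = (n : ℂ) • α := by
  funext x
  simp

theorem indFun_zsmul (n : ℤ) (α : L → ℂ) : indFun L (n • α) = n • indFun L α := by
  rw [zsmul_eq_complex_smul, Helper19.indFun_smul, ← zsmul_eq_complex_smul]

theorem indFun_zero' : indFun L (0 : L → ℂ) = 0 := by
  have := indFun_zsmul L 0 (0 : L → ℂ)
  simpa using this

/-- functions on `L` that are virtual characters vanishing off `K` and inducing to virtual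
characters of `G` -/
def goodSub : Submodule ℤ (L → ℂ) where
  carrier := {α | IsGeneralizedCharacter L α ∧ (∀ x : L, x ∉ K → α x = 0) ∧
    IsGeneralizedCharacter G (indFun L α)}
  add_mem' := by
    rintro α β ⟨a1, a2, a3⟩ ⟨b1, b2, b3⟩
    refine ⟨genChar_add a1 b1, fun x hx => by rw [Pi.add_apply, a2 x hx, b2 x hx, add_zero], ?_⟩
    rw [Helper19.indFun_add]
    exact genChar_add a3 b3
  zero_mem' := ⟨genChar_zero, fun _ _ => rfl, by rw [indFun_zero']; exact genChar_zero⟩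
  smul_mem' := by
    rintro n α ⟨a1, a2, a3⟩
    refine ⟨genChar_zsmul a1 n, fun x hx => by rw [Pi.smul_apply, a2 x hx, smul_zero], ?_⟩
    rw [indFun_zsmul]
    exact genChar_zsmul a3 n

theorem zspan_le_goodSub [hK : K.Normal] {α : L → ℂ} (hα : α ∈ zspan (inducedIrrAbove K ⊥)) :
    IsGeneralizedCharacter L α ∧ (∀ x : L, x ∉ K → α x = 0) ∧
      IsGeneralizedCharacter G (indFun L α) := by
  have : Submodule.span ℤ (inducedIrrAbove K ⊥) ≤ goodSub L K := by
    rw [Submodule.span_le]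
    rintro φ ⟨θ, h0, _, _, rfl⟩
    have hc := Helper19.isCharacter_indFun K θ (Helper83.IsIrr.isChar h0)
    exact ⟨genChar_of_char hc, fun x hx => indFun_normal_eq_zero K θ hx,
      genChar_of_char (Helper19.isCharacter_indFun L _ hc)⟩
  exact this hα

theorem ind_isometry (H : Subgroup G) [hK : (H.subgroupOf L).Normal] (hHL : H ≤ L)
    (hTI : IsTISubset (H : Set G)) (hN : Subgroup.normalizer (H : Set G) = L) :
    IsLinearIsometryOn (zspanOn (inducedIrrAbove (H.subgroupOf L) ⊥) {1}ᶜ)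
      (fun α : L → ℂ => indFun L α) := by
  refine ⟨fun α _ β _ => Helper19.indFun_add L α β, fun α _ n => indFun_zsmul L n α, ?_, ?_⟩
  · intro α hα β hβ
    rw [mem_zspanOn_one] at hα hβ
    obtain ⟨a1, a2, _⟩ := zspan_le_goodSub L (H.subgroupOf L) hα.1
    obtain ⟨b1, b2, _⟩ := zspan_le_goodSub L (H.subgroupOf L) hβ.1
    exact ti_isometry_of_eq (H : Set G) L hN (fun g hg => hTI g (by rw [hN]; exact hg))
      (fun x hx => hHL hx) α β (genChar_isClassFunction a1) (genChar_isClassFunction b1)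
      (fun x hx => a2 x hx) (fun x hx => b2 x hx) hα.2
  · intro α hα
    exact (zspan_le_goodSub L (H.subgroupOf L) hα.1).2.2

theorem ind_map_one (S : Set (L → ℂ)) : ∀ α ∈ zspanOn S {1}ᶜ, indFun L α 1 = 0 := by
  intro α hα
  rw [mem_zspanOn_one] at hα
  rw [Helper82.indFun_one, hα.2, mul_zero]

end


section grp
variable {𝓛 : Type*} [Group 𝓛] [Finite 𝓛]

theorem frob_centralizer (K W : Subgroup 𝓛) [hK : K.Normal] (hinf : K ⊓ W = ⊥) (hsup : K ⊔ W = ⊤)
    (hfpf : ∀ h ∈ W, h ≠ 1 → ∀ k ∈ K, h * k = k * h → k = 1) :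
    ∀ k ∈ K, k ≠ 1 → ∀ x : 𝓛, x * k = k * x → x ∈ K := by
  have hc : Subgroup.IsComplement' K W := by
    apply Subgroup.isComplement'_of_disjoint_and_mul_eq_univ (disjoint_iff.2 hinf)
    rw [← Subgroup.normal_mul, hsup]
    rfl
  intro k hk hk1 x hx
  by_contra hxK
  obtain ⟨w, hw, hwx⟩ := Helper82.exists_conj_mem_of_not_mem K W hc hfpf hxK
  have h1 : w * x * w⁻¹ ≠ 1 := by
    intro h
    apply hxK
    have : x = w⁻¹ * (w * x * w⁻¹) * w := by group
    rw [this, h]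
    simp
  have h2 := hfpf _ hwx h1 (w * k * w⁻¹) (hK.conj_mem k hk w) (by
    calc w * x * w⁻¹ * (w * k * w⁻¹) = w * (x * k) * w⁻¹ := by group
      _ = w * (k * x) * w⁻¹ := by rw [hx]
      _ = w * k * w⁻¹ * (w * x * w⁻¹) := by group)
  apply hk1
  have : k = w⁻¹ * (w * k * w⁻¹) * w := by group
  rw [this, h2]
  simp

theorem frob_quot (K N : Subgroup 𝓛) [hK : K.Normal] [hN : N.Normal] (hNK : N ≤ K)
    (F2 : ∀ k ∈ K, k ≠ 1 → ∀ x : 𝓛, x * k = k * x → x ∈ K) :
    ∀ k ∈ K, k ∉ N → ∀ x : 𝓛, x * k * x⁻¹ * k⁻¹ ∈ N → x ∈ K := by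
  intro k hk hkN x hx
  by_contra hxK
  have hinj : ∀ g ∈ K, ∀ g' ∈ K, g⁻¹ * (x * g * x⁻¹) = g'⁻¹ * (x * g' * x⁻¹) → g = g' := by
    intro g hg g' hg' h
    by_contra hne
    apply hxK
    apply F2 (g' * g⁻¹) (K.mul_mem hg' (K.inv_mem hg)) (fun h1 => hne (by
      have := mul_inv_eq_one.1 h1
      exact this.symm))
    have e1 : x * g * x⁻¹ = g * (g'⁻¹ * (x * g' * x⁻¹)) := by rw [← h]; group
    calc x * (g' * g⁻¹) = (x * g' * x⁻¹) * (x * g * x⁻¹)⁻¹ * x := by group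
      _ = (x * g' * x⁻¹) * (g * (g'⁻¹ * (x * g' * x⁻¹)))⁻¹ * x := by rw [e1]
      _ = g' * g⁻¹ * x := by group
  let f : N → N := fun n => ⟨(n : 𝓛)⁻¹ * (x * n * x⁻¹), N.mul_mem (N.inv_mem n.2) (hN.conj_mem _ n.2 x)⟩
  have hf : Function.Injective f := by
    intro n n' h
    apply Subtype.ext
    exact hinj _ (hNK n.2) _ (hNK n'.2) (congrArg Subtype.val h)
  have hs := Finite.surjective_of_injective hf
  have hmem : k⁻¹ * (x * k * x⁻¹) ∈ N := by
    have := hN.conj_mem _ hx k⁻¹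
    have e : k⁻¹ * (x * k * x⁻¹ * k⁻¹) * k⁻¹⁻¹ = k⁻¹ * (x * k * x⁻¹) := by group
    rwa [e] at this
  obtain ⟨n, hn⟩ := hs ⟨_, hmem⟩
  have := hinj _ (hNK n.2) _ hk (congrArg Subtype.val hn)
  exact hkN (this ▸ n.2)

theorem nil_inf_center (K : Subgroup 𝓛) [hK : K.Normal] (hnil : Group.IsNilpotent K) :
    ∀ c : ℕ, ∀ N : Subgroup 𝓛, N.Normal → N ≤ K → N ≠ ⊥ → Nat.card N = c →
      ∃ z ∈ N, z ≠ 1 ∧ ∀ k ∈ K, z * k = k * z := by
  intro c
  induction c using Nat.strong_induction_on with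
  | _ c ih =>
    intro N hN hNK hN1 hc
    by_cases h0 : ⁅N, K⁆ = ⊥
    · obtain ⟨z, hz, hz1⟩ := (Subgroup.ne_bot_iff_exists_ne_one).1 hN1 |>.elim
        (fun z hz => (⟨z.1, z.2, fun h => hz (Subtype.ext h)⟩ : ∃ z : 𝓛, z ∈ N ∧ z ≠ 1))
      refine ⟨z, hz, hz1, fun k hk => ?_⟩
      have h1 : ⁅z, k⁆ ∈ ⁅N, K⁆ := Subgroup.commutator_mem_commutator hz hk
      rw [h0, Subgroup.mem_bot, commutatorElement_eq_one_iff_mul_comm] at h1
      exact h1
    · have hle : ⁅N, K⁆ ≤ N := Subgroup.commutator_le_left N K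
      have hne : ⁅N, K⁆ ≠ N := by
        intro h
        apply hN1
        haveI : ((⊥ : Subgroup 𝓛).subgroupOf K).Normal := Subgroup.Normal.subgroupOf inferInstance K
        exact eq_of_commutator_sup_eq ⊥ N K bot_le hNK inferInstance (by rw [sup_bot_eq]; exact h)
      have hcard : Nat.card (⁅N, K⁆ : Subgroup 𝓛) < c := by
        rw [← hc]
        exact Set.ncard_lt_ncard (s := ((⁅N, K⁆ : Subgroup 𝓛) : Set 𝓛)) (t := (N : Set 𝓛))
          (SetLike.coe_ssubset_coe.2 (lt_of_le_of_ne hle hne)) (Set.toFinite _)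
      obtain ⟨z, hz, h⟩ := ih _ hcard ⁅N, K⁆ inferInstance (hle.trans hNK) h0 rfl
      exact ⟨z, hle hz, h⟩

end grp


theorem exists_sylow_eq {G : Type*} [Group G] [Finite G] (H L : Subgroup G)
    [hK : (H.subgroupOf L).Normal]
    (hN : Subgroup.normalizer (H : Set G) = L) {p : ℕ} [hpf : Fact p.Prime] (hp : IsPGroup p H)
    (hcop : Nat.Coprime (H.relIndex L) p) : ∃ P : Sylow p G, (P : Subgroup G) = H := by
  obtain ⟨Q, hQ⟩ := hp.exists_le_sylow
  refine ⟨Q, ?_⟩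
  by_contra hne
  have hlt : H.subgroupOf Q < ⊤ := by
    rw [lt_top_iff_ne_top]
    intro h
    rw [Subgroup.subgroupOf_eq_top] at h
    exact hne (le_antisymm h hQ)
  haveI : Group.IsNilpotent (Q : Subgroup G) := Q.isPGroup'.isNilpotent
  have hnc := normalizerCondition_of_isNilpotent (G := (Q : Subgroup G)) _ hlt
  obtain ⟨_, x, hx, hxH⟩ := SetLike.lt_iff_le_and_exists.1 hnc
  have hxN : (x : G) ∈ Subgroup.normalizer (H : Set G) := by
    rw [Subgroup.mem_normalizer_iff] at hx ⊢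
    intro h
    constructor
    · intro hh
      exact (hx ⟨h, hQ hh⟩).1 hh
    · intro hh
      have hhQ : h ∈ (Q : Subgroup G) := by
        have h1 := (Q : Subgroup G).mul_mem ((Q : Subgroup G).mul_mem ((Q : Subgroup G).inv_mem x.2)
          (hQ hh)) x.2
        have e : (x : G)⁻¹ * ((x : G) * h * (x : G)⁻¹) * (x : G) = h := by group
        rwa [e] at h1
      exact (hx ⟨h, hhQ⟩).2 hh
  rw [hN] at hxN
  obtain ⟨k, hk⟩ := Q.isPGroup' x
  have h1 : (QuotientGroup.mk (⟨(x : G), hxN⟩ : L) : L ⧸ H.subgroupOf L) ^ p ^ k = 1 := by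
    rw [← QuotientGroup.mk_pow]
    have : (⟨(x : G), hxN⟩ : L) ^ p ^ k = 1 := by
      apply Subtype.ext
      have := congrArg Subtype.val hk
      simpa using this
    rw [this]
    rfl
  have h2 := orderOf_dvd_of_pow_eq_one h1
  have h3 : orderOf (QuotientGroup.mk (⟨(x : G), hxN⟩ : L) : L ⧸ H.subgroupOf L) ∣ H.relIndex L :=
    orderOf_dvd_natCard _
  have h4 : orderOf (QuotientGroup.mk (⟨(x : G), hxN⟩ : L) : L ⧸ H.subgroupOf L) = 1 :=
    Nat.eq_one_of_dvd_coprimes (Nat.Coprime.pow_right k hcop) h3 h2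
  rw [orderOf_eq_one_iff, QuotientGroup.eq_one_iff] at h4
  exact hxH h4

end Cfsg.Agent.Lib.Helper32
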