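import Mathlib

set_option autoImplicit false

namespace Cfsg.Agent.Lib.Helper32

/-- Sum of an invariant algebraic-integer valued function over a set on which a finite group acts
freely (wherever the function does not vanish) is divisible by the group order. -/
theorem free_sum {Γ X : Type*} [Group Γ] [Finite Γ] [MulAction Γ X] [Fintype X] (f : X → ℂ)
    (hinv : ∀ (γ : Γ) (x : X), f (γ • x) = f x) (hint : ∀ x, IsIntegral ℤ (f x))
    (hfree : ∀ x, f x ≠ 0 → ∀ γ : Γ, γ • x = x → γ = 1) :
    ∃ A : ℂ, IsIntegral ℤ A ∧ ∑ x, f x = (Nat.card Γ : ℂ) * A := by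
  classical
  haveI : Fintype Γ := Fintype.ofFinite Γ
  let Q := MulAction.orbitRel.Quotient Γ X
  haveI : Fintype Q := Fintype.ofFinite Q
  let mk : X → Q := fun x => Quotient.mk'' x
  refine ⟨∑ q : Q, f q.out, IsIntegral.sum _ (fun q _ => hint _), ?_⟩
  rw [← Finset.sum_fiberwise Finset.univ mk f, Finset.mul_sum]
  apply Finset.sum_congr rfl
  intro q _
  have hq : mk q.out = q := Quotient.out_eq' q
  have hmem : ∀ x, mk x = q ↔ x ∈ MulAction.orbit Γ q.out := by
    intro x
    have h1 : mk x = mk q.out ↔ x ∈ MulAction.orbit Γ q.out := by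
      show (Quotient.mk'' x : Q) = Quotient.mk'' q.out ↔ _
      rw [Quotient.eq'']
      exact MulAction.orbitRel_apply
    rw [hq] at h1
    exact h1
  by_cases h0 : f q.out = 0
  · rw [h0, mul_zero]
    apply Finset.sum_eq_zero
    intro x hx
    obtain ⟨γ, rfl⟩ := (hmem x).1 (Finset.mem_filter.1 hx).2
    rw [hinv, h0]
  · have : ∑ x ∈ Finset.univ.filter (fun x => mk x = q), f x = ∑ γ : Γ, f (γ • q.out) := by
      symm
      apply Finset.sum_bij (fun (γ : Γ) _ => γ • q.out)
      · intro γ _
        exact Finset.mem_filter.2 ⟨Finset.mem_univ _, (hmem _).2 ⟨γ, rfl⟩⟩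
      · intro γ₁ _ γ₂ _ h
        have h1 : (γ₂⁻¹ * γ₁) • q.out = q.out := by
          rw [mul_smul, h, inv_smul_smul]
        have := hfree _ h0 _ h1
        exact (inv_mul_eq_one.1 this).symm
      · intro x hx
        obtain ⟨γ, rfl⟩ := (hmem x).1 (Finset.mem_filter.1 hx).2
        exact ⟨γ, Finset.mem_univ _, rfl⟩
      · intro γ _
        rfl
    rw [this]
    simp only [hinv]
    rw [Finset.sum_const, Finset.card_univ, nsmul_eq_mul, Nat.card_eq_fintype_card]

end Cfsg.Agent.Lib.Helper32
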