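import Mathlib
import Cfsg.Prelude.Def_OddOrderChar
import Cfsg.Prelude.Def_OddOrderLocal
import Cfsg.Agent.S1523

set_option autoImplicit false

namespace Cfsg.Agent.Lib.Helper32

open Cfsg

theorem h67_of {G : Type*} [Group G] [Fintype G] (p : ℕ) [Fact p.Prime] (P : Sylow p G)
    (L : Subgroup G) (hN : Subgroup.normalizer ((P : Subgroup G) : Set G) = L)
    (hTI : IsTISubset ((P : Subgroup G) : Set G)) (hodd : Odd (Nat.card L))
    (Z : Subgroup L) [hZ : Z.Normal] (hZ1 : Z ≠ ⊥) (hZK : Z ≤ (P : Subgroup G).subgroupOf L)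
    (hZc : ∀ z ∈ Z, ∀ k ∈ (P : Subgroup G).subgroupOf L, z * k = k * z)
    (F2 : ∀ k ∈ (P : Subgroup G).subgroupOf L, k ≠ 1 → ∀ x : L, x * k = k * x →
      x ∈ (P : Subgroup G).subgroupOf L) :
    ∀ ψ : G → ℂ, IsIrrCharacter G ψ →
      (∀ z z' : L, z ∈ Z → z' ∈ Z → z ≠ 1 → z' ≠ 1 → ψ z = ψ z') →
      ∀ z : L, z ∈ Z → z ≠ 1 →
        ∃ k : ℤ, ψ 1 - ψ z = (Nat.card ((P : Subgroup G).subgroupOf L) : ℂ) * k := by
  subst hN
  intro ψ hψ hconst z hz hz1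
  have hPL : (P : Subgroup G) ≤ Subgroup.normalizer ((P : Subgroup G) : Set G) :=
    Subgroup.le_normalizer
  have hcent : ∀ z₀ : Subgroup.normalizer ((P : Subgroup G) : Set G), z₀ ∈ Z → z₀ ≠ 1 →
      Subgroup.normalizer ((P : Subgroup G) : Set G) ⊓ Subgroup.centralizer ({(z₀ : G)} : Set G)
        = (P : Subgroup G) := by
    intro z₀ hz₀ hz₀1
    apply le_antisymm
    · intro x hx
      rw [Subgroup.mem_inf] at hx
      obtain ⟨hx1, hx2⟩ := hx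
      rw [Subgroup.mem_centralizer_singleton_iff] at hx2
      have := F2 z₀ (hZK hz₀) hz₀1 ⟨x, hx1⟩ (Subtype.ext hx2)
      exact this
    · intro x hx
      rw [Subgroup.mem_inf]
      refine ⟨hPL hx, ?_⟩
      rw [Subgroup.mem_centralizer_singleton_iff]
      have := hZc z₀ hz₀ ⟨x, hPL hx⟩ hx
      exact (congrArg Subtype.val this).symm
  obtain ⟨n, d, h1, h2, k, hk⟩ := Cfsg.Agent.S1523.result p P hTI hodd
    (Z.map (Subgroup.subtype _))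
    (by
      intro h
      apply hZ1
      rw [Subgroup.map_eq_bot_iff_of_injective _ (Subgroup.subtype_injective _)] at h
      exact h)
    (by
      rintro _ ⟨z₀, hz₀, rfl⟩
      exact hZK hz₀)
    (by
      rintro x hx _ ⟨z₀, hz₀, rfl⟩
      exact ⟨⟨x, hx⟩ * z₀ * ⟨x, hx⟩⁻¹, hZ.conj_mem z₀ hz₀ ⟨x, hx⟩, rfl⟩)
    (by
      rintro _ ⟨z₀, hz₀, rfl⟩ y hy
      exact congrArg Subtype.val (hZc z₀ hz₀ ⟨y, hPL hy⟩ hy))
    (by
      rintro _ ⟨z₀, hz₀, rfl⟩ _ ⟨z₀', hz₀', rfl⟩ h1 h1'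
      have e1 := hcent z₀ hz₀ (fun h => h1 (by rw [h]; rfl))
      have e2 := hcent z₀' hz₀' (fun h => h1' (by rw [h]; rfl))
      simp only [Subgroup.coe_subtype]
      rw [e1, e2])
    ψ hψ
    (by
      rintro _ ⟨z₀, hz₀, rfl⟩ _ ⟨z₀', hz₀', rfl⟩ h1 h1'
      exact hconst z₀ z₀' hz₀ hz₀' (fun h => h1 (by rw [h]; rfl)) (fun h => h1' (by rw [h]; rfl)))
    (z : G) ⟨z, hz, rfl⟩ (fun h => hz1 (Subtype.ext h))
  refine ⟨k, ?_⟩
  rw [h1, h2, Nat.card_congr (Subgroup.subgroupOfEquivOfLe hPL).toEquiv]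
  have : ((d - n : ℤ) : ℂ) = (((Nat.card (P : Subgroup G) : ℤ) * k : ℤ) : ℂ) := by rw [hk]
  push_cast at this
  exact this

end Cfsg.Agent.Lib.Helper32
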