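import Cfsg.Agent.Lib.Helper32.CohExt
import Cfsg.Agent.Lib.Helper32.IndAbove
import Cfsg.Agent.Lib.Helper5.FrobChar2
import Cfsg.Agent.S0198

set_option autoImplicit false
open Cfsg

namespace Cfsg.Agent.Lib.Helper32

open Cfsg.Agent.Lib.Helper20

universe u v

section EqDeg
variable {L : Type u} [Group L] [Fintype L] {G : Type v} [Group G] [Fintype G]

/-- A set of at least two irreducible characters of the same degree is coherent. -/
theorem coherent_of_equal_degree {S T : Set (L → ℂ)} (hirr : ∀ χ ∈ S, IsIrrCharacter L χ)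
    (htwo : ∃ χ ∈ S, ∃ ψ ∈ S, χ ≠ ψ) (hdeg : ∀ φ ∈ S, ∀ ψ ∈ S, φ 1 = ψ 1) (hST : S ⊆ T)
    (τ : (L → ℂ) → (G → ℂ)) (hτ : IsLinearIsometryOn (zspanOn T {1}ᶜ) τ)
    (hτ1 : ∀ α ∈ zspanOn T {1}ᶜ, τ α 1 = 0) : IsCoherent S {1}ᶜ τ := by
  classical
  obtain ⟨χ₀, hχ₀, ψ₀, hψ₀, hne⟩ := htwo
  have hO := orthoSet_of_irr hirr
  have hfin := hO.finite
  set S' : Finset (L → ℂ) := hfin.toFinset with hS'
  have hcoe : (S' : Set (L → ℂ)) = S := hfin.coe_toFinset
  have hmem : ∀ ξ, ξ ∈ S' ↔ ξ ∈ S := fun ξ => hfin.mem_toFinset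
  have hsub : ∀ ξ ∈ S, ξ - χ₀ ∈ zspanOn S {1}ᶜ := by
    intro ξ hξ
    rw [mem_zspanOn_one]
    refine ⟨(Submodule.span ℤ S).sub_mem (Submodule.subset_span hξ) (Submodule.subset_span hχ₀), ?_⟩
    rw [Pi.sub_apply, hdeg ξ hξ χ₀ hχ₀, sub_self]
  have hτ' : IsLinearIsometryOn ((zspanOnSub T {1}ᶜ : Submodule ℤ (L → ℂ)) : Set (L → ℂ)) τ := hτ
  let e : S' ≃ Fin (Fintype.card S') := Fintype.equivFin S'
  let i₀ := e ⟨χ₀, (hmem _).2 hχ₀⟩
  let t : Fin (Fintype.card S') → (G → ℂ) := fun i => τ (((e.symm i : S') : L → ℂ) - χ₀)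
  have hS : ∀ i, ((e.symm i : S') : L → ℂ) ∈ S := fun i => (hmem _).1 (e.symm i).2
  have h0 : t i₀ = 0 := by
    show τ (((e.symm (e _) : S') : L → ℂ) - χ₀) = 0
    rw [Equiv.symm_apply_apply, sub_self]
    exact iso_map_zero hτ'
  have hgram : ∀ i j, i ≠ i₀ → j ≠ i₀ → classInner (t i) (t j) = if i = j then 2 else 1 := by
    intro i j hi hj
    show classInner (τ _) (τ _) = _
    rw [hτ.2.2.1 _ (zspanOn_mono hST _ (hsub _ (hS i))) _ (zspanOn_mono hST _ (hsub _ (hS j)))]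
    have hi' : ((e.symm i : S') : L → ℂ) ≠ χ₀ := by
      intro h
      apply hi
      have : e.symm i = ⟨χ₀, (hmem _).2 hχ₀⟩ := Subtype.ext h
      show i = e ⟨χ₀, (hmem _).2 hχ₀⟩
      rw [← this, Equiv.apply_symm_apply]
    have hj' : ((e.symm j : S') : L → ℂ) ≠ χ₀ := by
      intro h
      apply hj
      have : e.symm j = ⟨χ₀, (hmem _).2 hχ₀⟩ := Subtype.ext h
      show j = e ⟨χ₀, (hmem _).2 hχ₀⟩
      rw [← this, Equiv.apply_symm_apply]
    rw [classInner_sub_left, classInner_sub_right, classInner_sub_right,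
      classInner_irr_ne (hirr _ (hS i)) (hirr _ hχ₀) hi',
      classInner_irr_ne (hirr _ hχ₀) (hirr _ (hS j)) hj'.symm, classInner_irr_self (hirr _ hχ₀)]
    by_cases hij : i = j
    · subst hij
      rw [classInner_irr_self (hirr _ (hS i)), if_pos rfl]; norm_num
    · rw [if_neg hij, classInner_irr_ne (hirr _ (hS i)) (hirr _ (hS j))
        (fun h => hij (e.symm.injective (Subtype.ext h)))]
      norm_num
  obtain ⟨ε, hε, μ, hμ, hinj, ht⟩ := Cfsg.Agent.S0198.result _ i₀ t h0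
    (fun i => hτ.2.2.2 _ (zspanOn_mono hST _ (hsub _ (hS i))))
    (fun i => hτ1 _ (zspanOn_mono hST _ (hsub _ (hS i)))) hgram
  have hεε : ε * (starRingEnd ℂ) ε = 1 := by
    rcases hε with h | h <;> rw [h] <;> simp
  let f : (L → ℂ) → (G → ℂ) := fun ξ => if h : ξ ∈ S' then ε • μ (e ⟨ξ, h⟩) else 0
  have hf : ∀ ξ (h : ξ ∈ S'), f ξ = ε • μ (e ⟨ξ, h⟩) := fun ξ h => dif_pos h
  have hO' : OrthoSet (S' : Set (L → ℂ)) := by rw [hcoe]; exact hO
  have hiso : IsLinearIsometryOn (zspan (S' : Set (L → ℂ))) (extIso S' f) := by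
    apply extIso_isometry hO'
    · intro ξ hξ φ hφ
      rw [hf ξ hξ, hf φ hφ, classInner_smul_left, classInner_smul_right, ← mul_assoc, hεε, one_mul]
      by_cases h : ξ = φ
      · subst h
        rw [classInner_irr_self (hμ _), classInner_irr_self (hirr _ ((hmem _).1 hξ))]
      · rw [classInner_irr_ne (hμ _) (hμ _) (fun h' => h (by
          have := e.injective (hinj h')
          exact congrArg Subtype.val this)),
          classInner_irr_ne (hirr _ ((hmem _).1 hξ)) (hirr _ ((hmem _).1 hφ)) h]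
    · intro ξ hξ
      rw [hf ξ hξ]
      rcases hε with h | h <;> rw [h]
      · rw [one_smul]; exact genChar_of_irr (hμ _)
      · rw [neg_smul, one_smul]; exact genChar_neg (genChar_of_irr (hμ _))
  rw [hcoe] at hiso
  refine ⟨⟨ψ₀ - χ₀, hsub _ hψ₀, sub_ne_zero.2 hne.symm⟩, extIso S' f, hiso, ?_⟩
  obtain ⟨n, hn0, hn⟩ := irr_apply_one (hirr _ hχ₀)
  apply agree_of_generators hST hτ hiso (fun _ => (n : ℤ))
    (fun ξ hξ => by rw [hdeg ξ hξ χ₀ hχ₀, hn]; simp) hχ₀ (by exact_mod_cast hn0.ne')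
  intro ξ hξ
  have hiso' : IsLinearIsometryOn ((Submodule.span ℤ S : Submodule ℤ (L → ℂ)) : Set (L → ℂ))
    (extIso S' f) := hiso
  rw [← smul_sub, iso_map_zsmul hiso' (hsub _ hξ).1,
    iso_map_zsmul hτ' (zspanOn_mono hST _ (hsub _ hξ)),
    iso_map_sub hiso' (Submodule.subset_span hξ) (Submodule.subset_span hχ₀),
    extIso_mem hO' f ((hmem _).2 hξ), extIso_mem hO' f ((hmem _).2 hχ₀), hf _ ((hmem _).2 hξ),
    hf _ ((hmem _).2 hχ₀)]
  congr 1
  have h1 := ht (e ⟨ξ, (hmem _).2 hξ⟩)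
  have h2 : t (e ⟨ξ, (hmem _).2 hξ⟩) = τ (ξ - χ₀) := by
    show τ (((e.symm (e _) : S') : L → ℂ) - χ₀) = _
    rw [Equiv.symm_apply_apply]
  rw [← h2, h1, smul_sub]

end EqDeg

section FrobSet
variable {N : Type u} [Group N] [Fintype N]

theorem frob_set_eq (K : Subgroup N) [hK : K.Normal]
    (hC : ∀ k ∈ K, k ≠ 1 → Subgroup.centralizer ({k} : Set N) ≤ K) :
    inducedIrrAbove K ⊥ = {χ : N → ℂ | IsIrrCharacter N χ ∧ ∃ k ∈ K, χ k ≠ χ 1} := by
  ext χ
  constructor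
  · rintro ⟨θ, h0, h1, _, rfl⟩
    exact ⟨Helper5.indFun_irr_of_frob' hK hC h0 h1, Helper5.indFun_relevant hK hC h0 h1⟩
  · rintro ⟨h0, h1⟩
    obtain ⟨lam, hl, hl1, rfl⟩ := Helper5.exists_eq_indFun_of_frob' hK hC h0 h1
    refine ⟨lam, hl, hl1, ?_, rfl⟩
    intro a ha
    rw [Subgroup.mem_bot] at ha
    have : a = 1 := Subtype.ext ha
    rw [this]

end FrobSet

end Cfsg.Agent.Lib.Helper32
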