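import Cfsg.Agent.Lib.Helper32.Feit4

set_option autoImplicit false
open Cfsg

namespace Cfsg.Agent.Lib.Helper32

open Cfsg.Agent.Lib.Helper20
open scoped commutatorElement

section Grp

theorem not_le_commutator_of_coprime {Q : Type*} [Group Q] [Finite Q] [Group.IsNilpotent Q]
    (P : Subgroup Q) [P.Normal] (hcop : Nat.Coprime (Nat.card P) P.index) (hP : P ≠ ⊥) :
    ¬ P ≤ commutator Q := by
  intro hle
  obtain ⟨H, hH⟩ := Subgroup.exists_right_complement'_of_coprime hcop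
  have h1 : H ⊔ commutator Q = ⊤ := by
    rw [eq_top_iff, ← hH.sup_eq_top]
    exact sup_le (hle.trans le_sup_right) le_sup_left
  have h2 := eq_top_of_sup_commutator H h1
  apply hP
  have := hH.disjoint.eq_bot
  rwa [h2, inf_top_eq] at this

variable {L : Type*} [Group L] [Finite L] (K : Subgroup L) [hK : K.Normal]

theorem exists_sylow_normal (hnil : Group.IsNilpotent K) (p : ℕ) [hp : Fact p.Prime]
    (hpK : p ∣ Nat.card K) :
    ∃ P : Subgroup L, P.Normal ∧ P ≤ K ∧ IsPGroup p P ∧ P ≠ ⊥ ∧ ¬ P ≤ ⁅K, K⁆ := by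
  obtain ⟨P₀⟩ : Nonempty (Sylow p K) := inferInstance
  haveI hn : (P₀ : Subgroup K).Normal :=
    Sylow.normal_of_normalizerCondition Group.normalizerCondition_of_isNilpotent P₀
  haveI hch : (P₀ : Subgroup K).Characteristic := Sylow.characteristic_of_normal P₀ hn
  have hne : (P₀ : Subgroup K) ≠ ⊥ := P₀.ne_bot_of_dvd_card hpK
  refine ⟨(P₀ : Subgroup K).map K.subtype, ConjAct.normal_of_characteristic_of_normal,
    Subgroup.map_subtype_le _, P₀.isPGroup'.map K.subtype, ?_, ?_⟩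
  · intro h
    apply hne
    rwa [Subgroup.map_eq_bot_iff_of_injective _ K.subtype_injective] at h
  · intro h
    rw [← Subgroup.map_subtype_commutator, Subgroup.map_subtype_le_map_subtype] at h
    exact not_le_commutator_of_coprime _ P₀.card_coprime_index hne h

theorem frob_relIndex_ge (F2 : ∀ k ∈ K, k ≠ 1 → ∀ x : L, x * k = k * x → x ∈ K)
    (A B : Subgroup L) [hA : A.Normal] [hB : B.Normal] (hAB : A < B) (hBK : B ≤ K) :
    K.index + 1 ≤ A.relIndex B := by
  have hAK : A ≤ K := hAB.le.trans hBK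
  have hc := frob_dvd_relIndex_sub_one K A B hAK hBK (frob_quot K A hAK F2)
  have hc1 : A.relIndex B ≠ 1 := by
    rw [Ne, Subgroup.relIndex_eq_one]
    exact not_le_of_gt hAB
  have hc0 : A.relIndex B ≠ 0 := Subgroup.index_ne_zero_of_finite
  have := Nat.le_of_dvd (by omega) hc
  omega

end Grp

section Main
variable {L : Type*} [Group L] [Fintype L] {G : Type*} [Group G] [Fintype G]
variable (K : Subgroup L) [hK : K.Normal]

theorem coherent_derived (hirr : ∀ χ ∈ inducedIrrAbove K ⊥, IsIrrCharacter L χ)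
    (τ : (L → ℂ) → (G → ℂ)) (hτ : IsLinearIsometryOn (zspanOn (inducedIrrAbove K ⊥) {1}ᶜ) τ)
    (hτ1 : ∀ α ∈ zspanOn (inducedIrrAbove K ⊥) {1}ᶜ, τ α 1 = 0)
    (hbig : K.index + 1 < (⁅K, K⁆ : Subgroup L).relIndex K) :
    IsCoherent (inducedIrrAbove K ⁅K, K⁆) {1}ᶜ τ := by
  classical
  have hsub : inducedIrrAbove K ⁅K, K⁆ ⊆ inducedIrrAbove K ⊥ := inducedIrrAbove_mono K bot_le
  apply coherent_of_equal_degree (fun χ hχ => hirr χ (hsub hχ)) ?_ ?_ hsub τ hτ hτ1
  · by_contra hcon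
    push Not at hcon
    obtain ⟨d, hd⟩ := exists_deg K hirr
    have hsum := sum_indAbove_sq K hirr d hd ⁅K, K⁆
    have hcard : (indAbove K ⁅K, K⁆).card ≤ 1 := by
      rw [Finset.card_le_one]
      intro a ha b hb
      exact hcon a ((mem_indAbove K).1 ha) b ((mem_indAbove K).1 hb)
    have hdeg : ∀ φ ∈ indAbove K ⁅K, K⁆, d φ ^ 2 = K.index ^ 2 := by
      intro φ hφ
      have h1 := hd φ (hsub ((mem_indAbove K).1 hφ))
      rw [inducedIrrAbove_linear K _ le_rfl ((mem_indAbove K).1 hφ)] at h1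
      have : d φ = K.index := by exact_mod_cast h1.symm
      rw [this]
    rw [Finset.sum_congr rfl hdeg, Finset.sum_const, smul_eq_mul] at hsum
    have hKpos : 0 < K.index := Nat.pos_of_ne_zero Subgroup.index_ne_zero_of_finite
    have h2 : K.index * (⁅K, K⁆ : Subgroup L).relIndex K ≤ K.index * (K.index + 1) := by
      rw [← hsum]
      nlinarith
    have := Nat.le_of_mul_le_mul_left h2 hKpos
    omega
  · intro φ hφ ψ hψ
    rw [inducedIrrAbove_linear K _ le_rfl hφ, inducedIrrAbove_linear K _ le_rfl hψ]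

/-- Feit's coherence theorem for a Frobenius group with (nilpotent) kernel `K`. -/
theorem feit_abstract (hnil : Group.IsNilpotent K) (hK1 : K ≠ ⊥) (hK2 : K ≠ ⊤)
    (hC : ∀ k ∈ K, k ≠ 1 → Subgroup.centralizer ({k} : Set L) ≤ K)
    (he : Nat.card K ≠ K.index + 1) (τ : (L → ℂ) → (G → ℂ))
    (hτ : IsLinearIsometryOn (zspanOn {χ : L → ℂ | IsIrrCharacter L χ ∧ ∃ k ∈ K, χ k ≠ χ 1} {1}ᶜ) τ)
    (hτ1 : ∀ α ∈ zspanOn {χ : L → ℂ | IsIrrCharacter L χ ∧ ∃ k ∈ K, χ k ≠ χ 1} {1}ᶜ, τ α 1 = 0) :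
    IsCoherent {χ : L → ℂ | IsIrrCharacter L χ ∧ ∃ k ∈ K, χ k ≠ χ 1} {1}ᶜ τ ∨
      ∃ p : ℕ, p.Prime ∧ (∃ m : ℕ, Nat.card K = p ^ m) ∧ (¬ ∀ a ∈ K, ∀ b ∈ K, a * b = b * a) ∧
        (⁅K, K⁆ : Subgroup L).relIndex K ≤ 4 * K.index ^ 2 + 1 := by
  by_cases hab : ∀ a ∈ K, ∀ b ∈ K, a * b = b * a
  · rcases frob_abelian_case K hC hab hK1 τ hτ hτ1 with h | h
    · exact absurd h.2.1 he
    · exact Or.inl h
  have hodd : ¬ 2 ∣ K.index := fun h => hab (frob_abelian_of_even K hC h)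
  have he1 : K.index ≠ 1 := by rwa [Ne, Subgroup.index_eq_one]
  have he0 : K.index ≠ 0 := Subgroup.index_ne_zero_of_finite
  have he3 : 3 ≤ K.index := by omega
  rw [← frob_set_eq K hC] at hτ hτ1 ⊢
  have hirr : ∀ χ ∈ inducedIrrAbove K ⊥, IsIrrCharacter L χ := by
    intro χ hχ
    rw [frob_set_eq K hC] at hχ
    exact hχ.1
  have F2 : ∀ k ∈ K, k ≠ 1 → ∀ x : L, x * k = k * x → x ∈ K := by
    intro k hk hk1 x hx
    apply hC k hk hk1
    rw [Subgroup.mem_centralizer_singleton_iff]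
    exact hx
  have hstep : ∀ M : Subgroup L, M.Normal → M ≤ K → ⁅K, K⁆ ⊔ M = K → K = M := by
    intro M hM hMK h
    haveI : (M.subgroupOf K).Normal := hM.subgroupOf K
    exact eq_of_commutator_sup_eq M K K hMK le_rfl inferInstance h
  have hK'le : ⁅K, K⁆ ≤ K := Subgroup.commutator_le_left K K
  have hK'lt : ⁅K, K⁆ < K := by
    refine lt_of_le_of_ne hK'le ?_
    intro h
    exact hK1 (hstep ⊥ inferInstance bot_le (by rw [sup_bot_eq]; exact h))
  by_cases hpp : ∃ p m : ℕ, p.Prime ∧ Nat.card K = p ^ m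
  · obtain ⟨p, m, hp, hm⟩ := hpp
    by_cases hle : (⁅K, K⁆ : Subgroup L).relIndex K ≤ 4 * K.index ^ 2 + 1
    · exact Or.inr ⟨p, hp, ⟨m, hm⟩, hab, hle⟩
    · left
      push Not at hle
      apply coh_descent_bot K hnil hirr τ hτ hτ1 ⁅K, K⁆ hK'lt hle
      apply coherent_derived K hirr τ hτ hτ1
      nlinarith
  · left
    have hcard1 : Nat.card K ≠ 1 := by
      rw [Ne, Subgroup.card_eq_one]
      exact hK1
    obtain ⟨p, hp, hpK⟩ := Nat.exists_prime_and_dvd hcard1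
    obtain ⟨q, hq, hqK, hqp⟩ : ∃ q : ℕ, q.Prime ∧ q ∣ Nat.card K ∧ q ≠ p := by
      by_contra hcon
      push Not at hcon
      exact hpp ⟨p, _, hp, Nat.eq_prime_pow_of_unique_prime_dvd Nat.card_pos.ne'
        (fun {d} hd hdK => hcon d hd hdK)⟩
    haveI := Fact.mk hp
    haveI := Fact.mk hq
    obtain ⟨P, hPn, hPK, hPp, hP1, hPnot⟩ := exists_sylow_normal K hnil p hpK
    obtain ⟨Q, hQn, hQK, hQq, hQ1, -⟩ := exists_sylow_normal K hnil q hqK
    have hPlt : ⁅K, K⁆ ⊔ P < K := by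
      refine lt_of_le_of_ne (sup_le hK'le hPK) ?_
      intro h
      have hKP := hstep P hPn hPK h
      apply hpp
      obtain ⟨m, hm⟩ := (IsPGroup.iff_card).1 hPp
      exact ⟨p, m, hp, by rw [hKP]; exact hm⟩
    -- stage 1
    have h1 : IsCoherent (inducedIrrAbove K ⁅K, K⁆) {1}ᶜ τ := by
      apply coherent_derived K hirr τ hτ hτ1
      have hmul := Subgroup.relIndex_mul_relIndex ⁅K, K⁆ (⁅K, K⁆ ⊔ P) K le_sup_left hPlt.le
      have ha := frob_relIndex_ge K F2 ⁅K, K⁆ (⁅K, K⁆ ⊔ P)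
        (lt_of_le_of_ne le_sup_left (fun h => hPnot (by rw [h]; exact le_sup_right))) hPlt.le
      have hb := frob_relIndex_ge K F2 (⁅K, K⁆ ⊔ P) K hPlt le_rfl
      rw [← hmul]
      nlinarith
    -- stage 2
    have h2 : IsCoherent (inducedIrrAbove K ⁅P, K⁆) {1}ᶜ τ :=
      coh_descent_frob K hnil F2 he3 hirr τ hτ hτ1 P ⁅K, K⁆ hPK
        (Subgroup.commutator_mono hPK le_rfl) hPnot hPlt h1
    -- stage 3
    have hZK : K ⊓ Subgroup.centralizer (K : Set L) ≤ K := inf_le_left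
    have hZc : ⁅K ⊓ Subgroup.centralizer (K : Set L), K⁆ = ⊥ := by
      rw [Subgroup.commutator_eq_bot_iff_le_centralizer]
      exact inf_le_right
    have hZP : ¬ K ⊓ Subgroup.centralizer (K : Set L) ≤ P := by
      intro hle
      obtain ⟨z, hz, hz1, hzc⟩ := nil_inf_center K hnil _ Q hQn hQK hQ1 rfl
      have hzZ : z ∈ K ⊓ Subgroup.centralizer (K : Set L) := by
        refine Subgroup.mem_inf.2 ⟨hQK hz, ?_⟩
        rw [Subgroup.mem_centralizer_iff]
        intro k hk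
        exact (hzc k hk).symm
      have hdisj := IsPGroup.disjoint_of_ne p q hqp.symm P Q hPp hQq
      have : z ∈ P ⊓ Q := ⟨hle hzZ, hz⟩
      rw [hdisj.eq_bot, Subgroup.mem_bot] at this
      exact hz1 this
    have hZlt : ⁅P, K⁆ ⊔ (K ⊓ Subgroup.centralizer (K : Set L)) < K := by
      refine lt_of_le_of_ne (sup_le ((Subgroup.commutator_le_left P K).trans hPK) hZK) ?_
      intro h
      have h' : ⁅K, K⁆ ⊔ (K ⊓ Subgroup.centralizer (K : Set L)) = K := by
        apply le_antisymm (sup_le hK'le hZK)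
        conv_lhs => rw [← h]
        exact sup_le_sup_right (Subgroup.commutator_mono hPK le_rfl) _
      have hKZ := hstep _ inferInstance hZK h'
      apply hab
      intro a ha b hb
      rw [hKZ] at ha
      have := (Subgroup.mem_inf.1 ha).2
      rw [Subgroup.mem_centralizer_iff] at this
      exact (this b hb).symm
    have h3 := coh_descent_frob K hnil F2 he3 hirr τ hτ hτ1
      (K ⊓ Subgroup.centralizer (K : Set L)) ⁅P, K⁆ hZK (by rw [hZc]; exact bot_le)
      (fun h => hZP (h.trans (Subgroup.commutator_le_left P K))) hZlt h2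
    rwa [hZc] at h3

end Main

end Cfsg.Agent.Lib.Helper32
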