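import Cfsg.Agent.Lib.Helper32.Feit2
import Cfsg.Agent.Lib.Helper73.Disconn2
import Cfsg.Agent.S0042

set_option autoImplicit false
open Cfsg

namespace Cfsg.Agent.Lib.Helper32

/-- Thompson's theorem in the centraliser form of the Frobenius hypothesis. -/
theorem frob_kernel_nilpotent {N : Type*} [Group N] [Finite N] (K : Subgroup N) [hK : K.Normal]
    (hK1 : K ≠ ⊥) (hK2 : K ≠ ⊤)
    (hC : ∀ k ∈ K, k ≠ 1 → Subgroup.centralizer ({k} : Set N) ≤ K) : Group.IsNilpotent K := by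
  obtain ⟨W, hinf, hsup, hfpf⟩ := frob_exists_complement K hC
  have hW1 : W ≠ ⊥ := by
    rintro rfl
    apply hK2
    rwa [sup_bot_eq] at hsup
  obtain ⟨hF, hker⟩ := Helper73.frob_of_fpf K W
    (fun x hx hx' => by
      have : x ∈ K ⊓ W := ⟨hx, hx'⟩
      rwa [hinf, Subgroup.mem_bot] at this)
    (fun g => by
      have : g ∈ K ⊔ W := by rw [hsup]; trivial
      obtain ⟨k, hk, w, hw, rfl⟩ := Subgroup.mem_sup_of_normal_left.1 this
      exact ⟨k, hk, w, hw, rfl⟩)
    hW1 hK1 (fun h hh k hk h1 hc => hfpf h hh h1 k hk hc)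
  obtain ⟨N', hN', _, hnil⟩ := Cfsg.Agent.S0042.result W hF
  have : N' = K := SetLike.coe_injective (hN'.trans hker)
  rwa [this] at hnil

end Cfsg.Agent.Lib.Helper32
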