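import Cfsg.Agent.Lib.Helper32.Isometry
import Cfsg.Agent.Lib.Helper32.SignedIrr

set_option autoImplicit false
set_option linter.unusedSectionVars false

namespace Cfsg.Agent.Lib.Helper32

open Cfsg Cfsg.Agent.Lib.Helper20
open scoped ComplexConjugate

universe u v

variable {L : Type u} [Group L] [Fintype L] {G : Type v} [Group G] [Fintype G]

theorem iso_signedIrr {S : Set (L → ℂ)} (hirr : ∀ χ ∈ S, IsIrrCharacter L χ)
    {τ₁ : (L → ℂ) → (G → ℂ)} (hτ₁ : IsLinearIsometryOn (zspan S) τ₁) {χ : L → ℂ} (hχ : χ ∈ S) :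
    SignedIrr G (τ₁ χ) :=
  genChar_norm_one (hτ₁.2.2.2 χ (zspan_of_mem hχ))
    (by rw [hτ₁.2.2.1 χ (zspan_of_mem hχ) χ (zspan_of_mem hχ), classInner_irr_self (hirr χ hχ)])

theorem iso_inner_irr {S : Set (L → ℂ)} (hirr : ∀ χ ∈ S, IsIrrCharacter L χ)
    {τ₁ : (L → ℂ) → (G → ℂ)} (hτ₁ : IsLinearIsometryOn (zspan S) τ₁) {χ ψ : L → ℂ} (hχ : χ ∈ S)
    (hψ : ψ ∈ S) (hne : χ ≠ ψ) : classInner (τ₁ χ) (τ₁ ψ) = 0 := by
  rw [hτ₁.2.2.1 χ (zspan_of_mem hχ) ψ (zspan_of_mem hψ), classInner_irr_ne (hirr χ hχ) (hirr ψ hψ) hne]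

theorem iso_injOn {S : Set (L → ℂ)} (hirr : ∀ χ ∈ S, IsIrrCharacter L χ)
    {τ₁ : (L → ℂ) → (G → ℂ)} (hτ₁ : IsLinearIsometryOn (zspan S) τ₁) {χ ψ : L → ℂ} (hχ : χ ∈ S)
    (hψ : ψ ∈ S) (h : τ₁ χ = τ₁ ψ) : χ = ψ := by
  by_contra hne
  have h1 := iso_inner_irr hirr hτ₁ hχ hψ hne
  rw [h, (iso_signedIrr hirr hτ₁ hψ).inner_self] at h1
  exact one_ne_zero h1

theorem iso_degree_prop {S : Set (L → ℂ)} (hirr : ∀ χ ∈ S, IsIrrCharacter L χ)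
    {τ₁ : (L → ℂ) → (G → ℂ)} (hτ₁ : IsLinearIsometryOn (zspan S) τ₁)
    (h0 : ∀ α ∈ zspan S, α 1 = 0 → τ₁ α 1 = 0) {χ ψ : L → ℂ} (hχ : χ ∈ S) (hψ : ψ ∈ S) :
    ψ 1 * τ₁ χ 1 = χ 1 * τ₁ ψ 1 := by
  obtain ⟨n, -, hn⟩ := irr_apply_one (hirr χ hχ)
  obtain ⟨m, -, hm⟩ := irr_apply_one (hirr ψ hψ)
  have hτ₁' : IsLinearIsometryOn ((Submodule.span ℤ S : Submodule ℤ (L → ℂ)) : Set (L → ℂ)) τ₁ :=
    hτ₁
  have hχ' : χ ∈ Submodule.span ℤ S := Submodule.subset_span hχ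
  have hψ' : ψ ∈ Submodule.span ℤ S := Submodule.subset_span hψ
  have h1 : ((m : ℤ) • χ - (n : ℤ) • ψ) ∈ Submodule.span ℤ S :=
    Submodule.sub_mem _ (Submodule.smul_mem _ _ hχ') (Submodule.smul_mem _ _ hψ')
  have h2 : ((m : ℤ) • χ - (n : ℤ) • ψ) 1 = 0 := by
    simp only [Pi.sub_apply, Pi.smul_apply, hn, hm]
    simp only [zsmul_eq_mul]
    push_cast; ring
  have h3 := h0 _ h1 h2
  rw [iso_map_sub hτ₁' (Submodule.smul_mem _ _ hχ') (Submodule.smul_mem _ _ hψ'),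
    iso_map_zsmul hτ₁' hχ', iso_map_zsmul hτ₁' hψ'] at h3
  simp only [Pi.sub_apply, Pi.smul_apply] at h3
  simp only [zsmul_eq_mul] at h3
  rw [hn, hm]
  push_cast at h3
  linear_combination h3

theorem exists_uniform_sign {S : Set (L → ℂ)} (hirr : ∀ χ ∈ S, IsIrrCharacter L χ)
    {τ₁ : (L → ℂ) → (G → ℂ)} (hτ₁ : IsLinearIsometryOn (zspan S) τ₁)
    (h0 : ∀ α ∈ zspan S, α 1 = 0 → τ₁ α 1 = 0) :
    ∃ ε : ℂ, (ε = 1 ∨ ε = -1) ∧ ∀ χ ∈ S, IsIrrCharacter G (ε • τ₁ χ) := by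
  by_cases hne : S.Nonempty
  swap
  · exact ⟨1, Or.inl rfl, fun χ hχ => absurd ⟨χ, hχ⟩ hne⟩
  obtain ⟨χ₀, hχ₀⟩ := hne
  obtain ⟨n₀, hn₀, hn₀'⟩ := irr_apply_one (hirr χ₀ hχ₀)
  rcases iso_signedIrr hirr hτ₁ hχ₀ with h | h
  · refine ⟨1, Or.inl rfl, fun χ hχ => ?_⟩
    rw [one_smul]
    rcases iso_signedIrr hirr hτ₁ hχ with h' | h'
    · exact h'
    · exfalso
      obtain ⟨n, hn, hn'⟩ := irr_apply_one (hirr χ hχ)
      obtain ⟨k, hk, hk'⟩ := irr_apply_one h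
      obtain ⟨l, hl, hl'⟩ := irr_apply_one h'
      have := iso_degree_prop hirr hτ₁ h0 hχ hχ₀
      simp only [Pi.neg_apply] at hl'
      rw [hn', hn₀', hk', neg_eq_iff_eq_neg.1 hl'] at this
      have h2 : (n₀ : ℤ) * (-l) = n * k := by exact_mod_cast this
      have h3 : (0 : ℤ) < n₀ * l := by positivity
      have h4 : (0 : ℤ) < n * k := by positivity
      nlinarith
  · refine ⟨-1, Or.inr rfl, fun χ hχ => ?_⟩
    rw [neg_one_smul]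
    rcases iso_signedIrr hirr hτ₁ hχ with h' | h'
    · exfalso
      obtain ⟨n, hn, hn'⟩ := irr_apply_one (hirr χ hχ)
      obtain ⟨k, hk, hk'⟩ := irr_apply_one h
      obtain ⟨l, hl, hl'⟩ := irr_apply_one h'
      have := iso_degree_prop hirr hτ₁ h0 hχ hχ₀
      simp only [Pi.neg_apply] at hk'
      rw [hn', hn₀', hl', neg_eq_iff_eq_neg.1 hk'] at this
      have h2 : (n₀ : ℤ) * l = n * (-k) := by exact_mod_cast this
      have h3 : (0 : ℤ) < n₀ * l := by positivity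
      have h4 : (0 : ℤ) < n * k := by positivity
      nlinarith
    · exact h'

end Cfsg.Agent.Lib.Helper32
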