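import Mathlib
import Cfsg.Prelude.Def_OddOrderChar
import Cfsg.Agent.Lib.Helper32.CyclicTI2

set_option autoImplicit false

namespace Cfsg.Agent.Lib.Helper32

open Cfsg
open scoped ComplexConjugate

section ann
variable {A : Type*} [Group A] [Finite A]

theorem exists_hom_ne_one_of_not_mem (hA : ∀ a b : A, a * b = b * a) (K : Subgroup A) {x : A}
    (hx : x ∉ K) : ∃ φ : A →* ℂˣ, (∀ k ∈ K, φ k = 1) ∧ φ x ≠ 1 := by
  letI : CommGroup A := { (inferInstance : Group A) with mul_comm := hA }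
  have hne : (QuotientGroup.mk x : A ⧸ K) ≠ 1 := by
    intro h
    exact hx ((QuotientGroup.eq_one_iff x).1 h)
  haveI : NeZero (Monoid.exponent (A ⧸ K)) := ⟨Monoid.exponent_ne_zero_of_finite⟩
  obtain ⟨l, hl⟩ := CommGroup.exists_apply_ne_one_of_hasEnoughRootsOfUnity (A ⧸ K) ℂ hne
  refine ⟨l.comp (QuotientGroup.mk' K), ?_, hl⟩
  intro k hk
  have : (QuotientGroup.mk' K) k = 1 := (QuotientGroup.eq_one_iff k).2 hk
  rw [MonoidHom.comp_apply, this, map_one]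

theorem card_hom_units_of_comm (hA : ∀ a b : A, a * b = b * a) :
    Nat.card (A →* ℂˣ) = Nat.card A := by
  letI : CommGroup A := { (inferInstance : Group A) with mul_comm := hA }
  haveI : NeZero (Monoid.exponent A) := ⟨Monoid.exponent_ne_zero_of_finite⟩
  exact CommGroup.card_monoidHom_of_hasEnoughRootsOfUnity A ℂ

open Classical in
theorem annSum_of_mem [Fintype (A →* ℂˣ)] (K : Subgroup A) {x : A} (hx : x ∈ K) :
    ∑ φ ∈ Finset.univ.filter (fun φ : A →* ℂˣ => ∀ k ∈ K, φ k = 1), ((φ x : ℂˣ) : ℂ) =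
      ((Finset.univ.filter (fun φ : A →* ℂˣ => ∀ k ∈ K, φ k = 1)).card : ℂ) := by
  rw [Finset.sum_congr rfl (g := fun _ => (1 : ℂ))]
  · simp
  · intro φ hφ
    rw [(Finset.mem_filter.1 hφ).2 x hx]; simp

open Classical in
theorem annSum_of_not_mem [Fintype (A →* ℂˣ)] (hA : ∀ a b : A, a * b = b * a) (K : Subgroup A)
    {x : A} (hx : x ∉ K) :
    ∑ φ ∈ Finset.univ.filter (fun φ : A →* ℂˣ => ∀ k ∈ K, φ k = 1), ((φ x : ℂˣ) : ℂ) = 0 := by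
  obtain ⟨φ₁, h1, h2⟩ := exists_hom_ne_one_of_not_mem hA K hx
  have key : ∑ φ ∈ Finset.univ.filter (fun φ : A →* ℂˣ => ∀ k ∈ K, φ k = 1), ((φ x : ℂˣ) : ℂ)
      = ((φ₁ x : ℂˣ) : ℂ) *
        ∑ φ ∈ Finset.univ.filter (fun φ : A →* ℂˣ => ∀ k ∈ K, φ k = 1), ((φ x : ℂˣ) : ℂ) := by
    rw [Finset.mul_sum]
    symm
    apply Finset.sum_equiv (Equiv.mulLeft φ₁)
    · intro φ
      simp only [Finset.mem_filter, Finset.mem_univ, true_and, Equiv.coe_mulLeft,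
        MonoidHom.mul_apply]
      constructor
      · intro h k hk; rw [h1 k hk, h k hk, one_mul]
      · intro h k hk
        have := h k hk
        rwa [h1 k hk, one_mul] at this
    · intro φ _
      simp
  have h3 : ((φ₁ x : ℂˣ) : ℂ) ≠ 1 := by
    intro h
    exact h2 (Units.ext h)
  have h4 : (1 - ((φ₁ x : ℂˣ) : ℂ)) *
      ∑ φ ∈ Finset.univ.filter (fun φ : A →* ℂˣ => ∀ k ∈ K, φ k = 1), ((φ x : ℂˣ) : ℂ) = 0 := by
    rw [sub_mul, one_mul, ← key, sub_self]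
  rcases mul_eq_zero.1 h4 with h | h
  · exact absurd (sub_eq_zero.1 h).symm h3
  · exact h

open Classical in
theorem annCard_ne_zero [Fintype (A →* ℂˣ)] (K : Subgroup A) :
    ((Finset.univ.filter (fun φ : A →* ℂˣ => ∀ k ∈ K, φ k = 1)).card : ℂ) ≠ 0 := by
  have : (1 : A →* ℂˣ) ∈ Finset.univ.filter (fun φ : A →* ℂˣ => ∀ k ∈ K, φ k = 1) := by
    simp
  exact_mod_cast (Finset.card_pos.2 ⟨1, this⟩).ne'

open Classical in
theorem ann_delta [Fintype (A →* ℂˣ)] (hA : ∀ a b : A, a * b = b * a) (K₁ K₂ : Subgroup A)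
    (hd : K₁ ⊓ K₂ = ⊥) {w₀ : A} (h1 : w₀ ∉ K₁) (h2 : w₀ ∉ K₂) (x : A) :
    ∑ φ ∈ Finset.univ.filter (fun φ : A →* ℂˣ => ∀ k ∈ K₂, φ k = 1),
      ∑ ψ ∈ Finset.univ.filter (fun ψ : A →* ℂˣ => ∀ k ∈ K₁, ψ k = 1),
        ((φ w₀⁻¹ : ℂˣ) : ℂ) * ((ψ w₀⁻¹ : ℂˣ) : ℂ) *
          (1 - (φ x : ℂ) - (ψ x : ℂ) + (φ x : ℂ) * (ψ x : ℂ)) =
      if x = w₀ then
        ((Finset.univ.filter (fun φ : A →* ℂˣ => ∀ k ∈ K₂, φ k = 1)).card : ℂ) *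
          ((Finset.univ.filter (fun ψ : A →* ℂˣ => ∀ k ∈ K₁, ψ k = 1)).card : ℂ)
      else 0 := by
  have e : ∀ φ ψ : A →* ℂˣ, ((φ w₀⁻¹ : ℂˣ) : ℂ) * ((ψ w₀⁻¹ : ℂˣ) : ℂ) *
          (1 - (φ x : ℂ) - (ψ x : ℂ) + (φ x : ℂ) * (ψ x : ℂ)) =
      (((φ w₀⁻¹ : ℂˣ) : ℂ) - ((φ (w₀⁻¹ * x) : ℂˣ) : ℂ)) *
        (((ψ w₀⁻¹ : ℂˣ) : ℂ) - ((ψ (w₀⁻¹ * x) : ℂˣ) : ℂ)) := by
    intro φ ψ
    rw [map_mul, map_mul, Units.val_mul, Units.val_mul]
    ring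
  simp only [e]
  rw [← Finset.sum_mul_sum, Finset.sum_sub_distrib, Finset.sum_sub_distrib,
    annSum_of_not_mem hA K₂ (x := w₀⁻¹) (fun h => h2 (by simpa using h)),
    annSum_of_not_mem hA K₁ (x := w₀⁻¹) (fun h => h1 (by simpa using h))]
  by_cases hx : x = w₀
  · subst hx
    rw [if_pos rfl, inv_mul_cancel, annSum_of_mem K₂ (one_mem _), annSum_of_mem K₁ (one_mem _)]
    ring
  · rw [if_neg hx]
    by_cases hk : w₀⁻¹ * x ∈ K₂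
    · have hk1 : w₀⁻¹ * x ∉ K₁ := by
        intro hk1
        have : w₀⁻¹ * x ∈ K₁ ⊓ K₂ := ⟨hk1, hk⟩
        rw [hd, Subgroup.mem_bot] at this
        exact hx (inv_mul_eq_one.1 this).symm
      rw [annSum_of_not_mem hA K₁ hk1]; ring
    · rw [annSum_of_not_mem hA K₂ hk]; ring

theorem ann_vanish [Fintype A] (hA : ∀ a b : A, a * b = b * a) (K₁ K₂ : Subgroup A)
    (hd : K₁ ⊓ K₂ = ⊥) {w₀ : A} (h1 : w₀ ∉ K₁) (h2 : w₀ ∉ K₂) (f : A → ℂ)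
    (hz : ∀ φ ψ : A →* ℂˣ, (∀ k ∈ K₂, φ k = 1) → (∀ k ∈ K₁, ψ k = 1) →
      classInner (fun x : A => 1 - (φ x : ℂ) - (ψ x : ℂ) + (φ x : ℂ) * (ψ x : ℂ)) f = 0) :
    f w₀ = 0 := by
  classical
  haveI : Fintype (A →* ℂˣ) := Fintype.ofFinite _
  have hdelta := ann_delta hA K₁ K₂ hd h1 h2
  have h1 : classInner (fun x : A =>
      ∑ φ ∈ Finset.univ.filter (fun φ : A →* ℂˣ => ∀ k ∈ K₂, φ k = 1),
      ∑ ψ ∈ Finset.univ.filter (fun ψ : A →* ℂˣ => ∀ k ∈ K₁, ψ k = 1),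
        ((φ w₀⁻¹ : ℂˣ) : ℂ) * ((ψ w₀⁻¹ : ℂˣ) : ℂ) *
          (1 - (φ x : ℂ) - (ψ x : ℂ) + (φ x : ℂ) * (ψ x : ℂ))) f = 0 := by
    have e : (fun x : A =>
      ∑ φ ∈ Finset.univ.filter (fun φ : A →* ℂˣ => ∀ k ∈ K₂, φ k = 1),
      ∑ ψ ∈ Finset.univ.filter (fun ψ : A →* ℂˣ => ∀ k ∈ K₁, ψ k = 1),
        ((φ w₀⁻¹ : ℂˣ) : ℂ) * ((ψ w₀⁻¹ : ℂˣ) : ℂ) *
          (1 - (φ x : ℂ) - (ψ x : ℂ) + (φ x : ℂ) * (ψ x : ℂ))) =
      ∑ φ ∈ Finset.univ.filter (fun φ : A →* ℂˣ => ∀ k ∈ K₂, φ k = 1),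
      ∑ ψ ∈ Finset.univ.filter (fun ψ : A →* ℂˣ => ∀ k ∈ K₁, ψ k = 1),
        (((φ w₀⁻¹ : ℂˣ) : ℂ) * ((ψ w₀⁻¹ : ℂˣ) : ℂ)) •
          (fun x : A => 1 - (φ x : ℂ) - (ψ x : ℂ) + (φ x : ℂ) * (ψ x : ℂ)) := by
      funext x
      simp only [Finset.sum_apply, Pi.smul_apply, smul_eq_mul]
    rw [e, Helper20.classInner_sum_left]
    apply Finset.sum_eq_zero
    intro φ hφ
    rw [Helper20.classInner_sum_left]
    apply Finset.sum_eq_zero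
    intro ψ hψ
    rw [Helper20.classInner_smul_left,
      hz φ ψ (Finset.mem_filter.1 hφ).2 (Finset.mem_filter.1 hψ).2, mul_zero]
  have hfun := funext hdelta
  have h1' := h1
  unfold classInner at h1'
  have hsum : ∀ x : A, (∑ φ ∈ Finset.univ.filter (fun φ : A →* ℂˣ => ∀ k ∈ K₂, φ k = 1),
      ∑ ψ ∈ Finset.univ.filter (fun ψ : A →* ℂˣ => ∀ k ∈ K₁, ψ k = 1),
        ((φ w₀⁻¹ : ℂˣ) : ℂ) * ((ψ w₀⁻¹ : ℂˣ) : ℂ) *
          (1 - (φ x : ℂ) - (ψ x : ℂ) + (φ x : ℂ) * (ψ x : ℂ))) * conj (f x) =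
      (if x = w₀ then
        ((Finset.univ.filter (fun φ : A →* ℂˣ => ∀ k ∈ K₂, φ k = 1)).card : ℂ) *
          ((Finset.univ.filter (fun ψ : A →* ℂˣ => ∀ k ∈ K₁, ψ k = 1)).card : ℂ)
      else 0) * conj (f x) := by
    intro x
    congr 1
    convert hdelta x
  rw [Finset.sum_congr rfl (fun x _ => hsum x), Finset.sum_eq_single w₀] at h1'
  · rw [if_pos rfl] at h1'
    have hc1 := annCard_ne_zero (A := A) K₁
    have hc2 := annCard_ne_zero (A := A) K₂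
    have hW0 : ((Nat.card A : ℂ))⁻¹ ≠ 0 := by
      apply inv_ne_zero
      exact_mod_cast Nat.card_pos.ne'
    have h2 := (mul_eq_zero.1 h1').resolve_left hW0
    have h3 := (mul_eq_zero.1 h2).resolve_left ?_
    · simpa using h3
    · apply mul_ne_zero
      · convert hc2
      · convert hc1
  · intro b _ hb
    rw [if_neg hb, zero_mul]
  · intro h
    exact absurd (Finset.mem_univ _) h

end ann

end Cfsg.Agent.Lib.Helper32
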