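import Cfsg.Prelude.Def_OddOrderChar
import Mathlib.GroupTheory.Complement
import Mathlib.Algebra.Group.Subgroup.Pointwise
import Mathlib.Data.Nat.ChineseRemainder

set_option autoImplicit false

namespace Cfsg.Agent.Lib.Helper32

open Cfsg
open scoped Pointwise

variable {G : Type*} [Group G]

theorem pow_card_sub {K : Subgroup G} {x : G} (hx : x ∈ K) :
    x ^ Nat.card K = 1 := by
  have := pow_card_eq_one' (G := K) (x := ⟨x, hx⟩)
  have h2 := congrArg Subtype.val this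
  rwa [Subgroup.coe_pow, Subgroup.coe_one] at h2

theorem pow_trick (a u : G) (m n k : ℕ) (hau : Commute a u)
    (ham : a ^ m = 1) (hun : u ^ n = 1) (hk1 : k ≡ 1 [MOD m]) (hk0 : k ≡ 0 [MOD n]) :
    (a * u) ^ k = a := by
  rw [hau.mul_pow]
  have h1 : a ^ k = a ^ 1 :=
    pow_eq_pow_iff_modEq.2 (hk1.of_dvd (orderOf_dvd_of_pow_eq_one ham))
  have h2 : u ^ k = u ^ 0 :=
    pow_eq_pow_iff_modEq.2 (hk0.of_dvd (orderOf_dvd_of_pow_eq_one hun))
  rw [h1, h2]; simp

theorem eq_one_of_pow_coprime {x : G} {m n : ℕ} (hm : x ^ m = 1) (hn : x ^ n = 1)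
    (h : Nat.Coprime m n) : x = 1 := by
  have h1 := orderOf_dvd_of_pow_eq_one hm
  have h2 := orderOf_dvd_of_pow_eq_one hn
  have := Nat.dvd_gcd h1 h2
  rw [h] at this
  exact orderOf_eq_one_iff.1 (Nat.dvd_one.1 this)

section Dade

variable {A : Set G} {L : Subgroup G} {H : G → Subgroup G}

theorem dade_mem_CL (hD : DadeHypothesis A L H) {a : G} (ha : a ∈ A) :
    a ∈ L ⊓ Subgroup.centralizer ({a} : Set G) :=
  ⟨hD.subset ha, Subgroup.mem_centralizer_singleton_iff.2 rfl⟩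

theorem dade_commute (hD : DadeHypothesis A L H) {a u : G} (ha : a ∈ A) (hu : u ∈ H a) :
    Commute a u :=
  (Subgroup.mem_centralizer_singleton_iff.1 (hD.le_centralizer a ha hu)).symm

theorem dade_C_le_normalizer (hD : DadeHypothesis A L H) {a : G} (ha : a ∈ A) :
    Subgroup.centralizer ({a} : Set G) ≤ Subgroup.normalizer (H a : Set G) := by
  intro c hc
  rw [Subgroup.mem_normalizer_iff]
  intro u
  constructor
  · exact hD.conj_mem_H a ha c hc u
  · intro h
    have := hD.conj_mem_H a ha c⁻¹ (Subgroup.inv_mem _ hc) _ h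
    simpa [mul_assoc] using this

theorem dade_decomp (hD : DadeHypothesis A L H) {a c : G} (ha : a ∈ A)
    (hc : c ∈ Subgroup.centralizer ({a} : Set G)) :
    ∃ h ∈ H a, ∃ l ∈ L ⊓ Subgroup.centralizer ({a} : Set G), c = h * l := by
  have h1 := Subgroup.coe_mul_of_right_le_normalizer_left (H a)
    (L ⊓ Subgroup.centralizer ({a} : Set G)) (inf_le_right.trans (dade_C_le_normalizer hD ha))
  rw [hD.sup_eq a ha] at h1
  have h2 : c ∈ ((H a : Set G) * ((L ⊓ Subgroup.centralizer ({a} : Set G) : Subgroup G) : Set G)) := by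
    rw [← h1]; exact hc
  obtain ⟨h, hh, l, hl, e⟩ := h2
  exact ⟨h, hh, l, hl, e.symm⟩

theorem dade_decomp' (hD : DadeHypothesis A L H) {a c : G} (ha : a ∈ A)
    (hc : c ∈ Subgroup.centralizer ({a} : Set G)) :
    ∃ l ∈ L ⊓ Subgroup.centralizer ({a} : Set G), ∃ h ∈ H a, c = l * h := by
  obtain ⟨h, hh, l, hl, e⟩ := dade_decomp hD ha (Subgroup.inv_mem _ hc)
  refine ⟨l⁻¹, Subgroup.inv_mem _ hl, h⁻¹, Subgroup.inv_mem _ hh, ?_⟩
  rw [← mul_inv_rev, ← e, inv_inv]

theorem dade_mem_H_of_pow (hD : DadeHypothesis A L H) {b w : G} (hb : b ∈ A)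
    (hw : w ∈ Subgroup.centralizer ({b} : Set G)) {n : ℕ} (hn : w ^ n = 1)
    (hcop : Nat.Coprime n (Nat.card ↥(L ⊓ Subgroup.centralizer ({b} : Set G)))) :
    w ∈ H b := by
  obtain ⟨h, hh, l, hl, rfl⟩ := dade_decomp hD hb hw
  have key : ∀ k : ℕ, ∃ h' ∈ H b, (h * l) ^ k = h' * l ^ k := by
    intro k
    induction k with
    | zero => exact ⟨1, (H b).one_mem, by simp⟩
    | succ k ih =>
      obtain ⟨h', hh', e⟩ := ih
      refine ⟨h' * (l ^ k * h * (l ^ k)⁻¹), (H b).mul_mem hh'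
        (hD.conj_mem_H b hb _ (Subgroup.pow_mem _ hl.2 k) h hh), ?_⟩
      rw [pow_succ, e, pow_succ]; group
  obtain ⟨h', hh', e⟩ := key n
  rw [hn] at e
  have hl1 : l ^ n = h'⁻¹ := (inv_eq_of_mul_eq_one_right e.symm).symm
  have hl2 : l ^ n ∈ H b ⊓ (L ⊓ Subgroup.centralizer ({b} : Set G)) :=
    ⟨hl1 ▸ (H b).inv_mem hh', Subgroup.pow_mem _ hl n⟩
  rw [hD.inf_eq_bot b hb, Subgroup.mem_bot] at hl2
  have hl3 : l = 1 := eq_one_of_pow_coprime hl2 (pow_card_sub hl) hcop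
  rw [hl3, mul_one]; exact hh

theorem dade_conj_mem (hD : DadeHypothesis A L H) {a x u : G} (ha : a ∈ A) (hx : x ∈ L)
    (hu : u ∈ H a) : x * u * x⁻¹ ∈ H (x * a * x⁻¹) := by
  have hb := hD.conj_mem x hx a ha
  apply dade_mem_H_of_pow hD hb (n := Nat.card (H a))
  · rw [Subgroup.mem_centralizer_singleton_iff]
    have := (dade_commute hD ha hu).eq
    calc x * u * x⁻¹ * (x * a * x⁻¹) = x * (u * a) * x⁻¹ := by group
      _ = x * (a * u) * x⁻¹ := by rw [this]
      _ = x * a * x⁻¹ * (x * u * x⁻¹) := by group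
  · rw [conj_pow, pow_card_sub hu]; simp
  · exact hD.coprime a ha _ hb

theorem dade_H_conj (hD : DadeHypothesis A L H) {a x : G} (ha : a ∈ A) (hx : x ∈ L) :
    H (x * a * x⁻¹) = (H a).map (MulAut.conj x).toMonoidHom := by
  have hb := hD.conj_mem x hx a ha
  apply le_antisymm
  · intro v hv
    have h1 := dade_conj_mem hD hb (L.inv_mem hx) hv
    have h2 : x⁻¹ * (x * a * x⁻¹) * x⁻¹⁻¹ = a := by group
    rw [h2] at h1
    refine ⟨_, h1, ?_⟩
    simp [mul_assoc]
  · rintro _ ⟨u, hu, rfl⟩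
    exact dade_conj_mem hD ha hx hu

theorem dade_card_H_conj (hD : DadeHypothesis A L H) {a x : G} (ha : a ∈ A) (hx : x ∈ L) :
    Nat.card (H (x * a * x⁻¹)) = Nat.card (H a) := by
  rw [dade_H_conj hD ha hx]
  exact Subgroup.card_map_of_injective (MulAut.conj x).injective

theorem dade_key [Finite G] (hD : DadeHypothesis A L H) {a b : G} (ha : a ∈ A) (hb : b ∈ A)
    {u v g : G} (hu : u ∈ H a) (hv : v ∈ H b) (h : g * (a * u) * g⁻¹ = b * v) :
    g * a * g⁻¹ = b := by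
  set m := Nat.card ↥(L ⊓ Subgroup.centralizer ({a} : Set G)) *
    Nat.card ↥(L ⊓ Subgroup.centralizer ({b} : Set G)) with hm
  set n := Nat.card (H a) * Nat.card (H b) with hn
  have hcop : Nat.Coprime m n := by
    rw [hm, hn]
    apply Nat.Coprime.mul_left <;> apply Nat.Coprime.mul_right
    · exact (hD.coprime a ha a ha).symm
    · exact (hD.coprime b hb a ha).symm
    · exact (hD.coprime a ha b hb).symm
    · exact (hD.coprime b hb b hb).symm
  obtain ⟨k, hk1, hk0⟩ := Nat.chineseRemainder hcop 1 0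
  have ham : a ^ m = 1 := by
    rw [hm, pow_mul, pow_card_sub (dade_mem_CL hD ha), one_pow]
  have hbm : b ^ m = 1 := by
    rw [hm, mul_comm, pow_mul, pow_card_sub (dade_mem_CL hD hb), one_pow]
  have hun : u ^ n = 1 := by
    rw [hn, pow_mul, pow_card_sub hu, one_pow]
  have hvn : v ^ n = 1 := by
    rw [hn, mul_comm, pow_mul, pow_card_sub hv, one_pow]
  have e1 := pow_trick a u m n k (dade_commute hD ha hu) ham hun hk1 hk0
  have e2 := pow_trick b v m n k (dade_commute hD hb hv) hbm hvn hk1 hk0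
  calc g * a * g⁻¹ = g * (a * u) ^ k * g⁻¹ := by rw [e1]
    _ = (g * (a * u) * g⁻¹) ^ k := (conj_pow).symm
    _ = b := by rw [h, e2]

end Dade

end Cfsg.Agent.Lib.Helper32
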