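import Cfsg.Agent.Lib.Helper32.Feit1
import Cfsg.Agent.Lib.Helper32.FrobQuot
import Cfsg.Agent.Lib.Helper32.Sib4
import Cfsg.Agent.Lib.Helper82.Invol
import Cfsg.Agent.S1524

set_option autoImplicit false
open Cfsg

namespace Cfsg.Agent.Lib.Helper32

open Cfsg.Agent.Lib.Helper20

section Grp
variable {N : Type*} [Group N] [Finite N] (K : Subgroup N) [hK : K.Normal]

theorem frob_index_dvd (hC : ∀ k ∈ K, k ≠ 1 → Subgroup.centralizer ({k} : Set N) ≤ K) :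
    K.index ∣ Nat.card K - 1 := by
  apply index_dvd_card_sub_one K K
  intro y hy hy1 g hg
  apply hC y hy hy1
  rw [Subgroup.mem_centralizer_singleton_iff]
  calc g * y = (g * y * g⁻¹) * g := by group
    _ = y * g := by rw [hg]

theorem frob_coprime (hC : ∀ k ∈ K, k ≠ 1 → Subgroup.centralizer ({k} : Set N) ≤ K) :
    Nat.Coprime (Nat.card K) K.index := by
  obtain ⟨c, hc⟩ := frob_index_dvd K hC
  have hpos : 0 < Nat.card K := Nat.card_pos
  have h1 : Nat.card K = K.index * c + 1 := by omega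
  rw [h1]
  simp

theorem frob_exists_complement
    (hC : ∀ k ∈ K, k ≠ 1 → Subgroup.centralizer ({k} : Set N) ≤ K) :
    ∃ W : Subgroup N, K ⊓ W = ⊥ ∧ K ⊔ W = ⊤ ∧
      ∀ w ∈ W, w ≠ 1 → ∀ k ∈ K, w * k = k * w → k = 1 := by
  obtain ⟨W, hW⟩ := Subgroup.exists_right_complement'_of_coprime (frob_coprime K hC)
  have hinf : K ⊓ W = ⊥ := hW.disjoint.eq_bot
  refine ⟨W, hinf, hW.sup_eq_top, ?_⟩
  intro w hw hw1 k hk hc
  by_contra hk1
  apply hw1
  have h1 : w ∈ K := by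
    apply hC k hk hk1
    rw [Subgroup.mem_centralizer_singleton_iff]
    exact hc
  have : w ∈ K ⊓ W := ⟨h1, hw⟩
  rwa [hinf, Subgroup.mem_bot] at this

theorem frob_abelian_of_even
    (hC : ∀ k ∈ K, k ≠ 1 → Subgroup.centralizer ({k} : Set N) ≤ K) (h2 : 2 ∣ K.index) :
    ∀ a ∈ K, ∀ b ∈ K, a * b = b * a := by
  have hcop := frob_coprime K hC
  have hN : 2 ∣ Nat.card N := by
    rw [← K.card_mul_index]
    exact Dvd.dvd.mul_left h2 _
  haveI : Fact (Nat.Prime 2) := ⟨Nat.prime_two⟩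
  obtain ⟨t, ht⟩ := exists_prime_orderOf_dvd_card' 2 hN
  have htt : t * t = 1 := by
    rw [← pow_two, ← ht]
    exact pow_orderOf_eq_one t
  have htK : t ∉ K := by
    intro h
    have h3 : orderOf t ∣ Nat.card K := by
      have := orderOf_dvd_natCard (⟨t, h⟩ : K)
      rwa [← Subgroup.orderOf_coe] at this
    rw [ht] at h3
    have := Nat.dvd_gcd h3 h2
    rw [hcop] at this
    omega
  refine (Helper82.inverts_of_fixedPointFree t htt K (fun r hr => hK.conj_mem r hr t) ?_).2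
  intro r hr hc
  by_contra hr1
  apply htK
  apply hC r hr hr1
  rw [Subgroup.mem_centralizer_singleton_iff]
  exact hc

end Grp

section Ab
variable {N : Type*} [Group N] [Fintype N] {G : Type*} [Group G] [Fintype G]

theorem frob_abelian_case (K : Subgroup N) [hK : K.Normal]
    (hC : ∀ k ∈ K, k ≠ 1 → Subgroup.centralizer ({k} : Set N) ≤ K)
    (hab : ∀ a ∈ K, ∀ b ∈ K, a * b = b * a) (hK1 : K ≠ ⊥)
    (τ : (N → ℂ) → (G → ℂ))
    (hτ : IsLinearIsometryOn (zspanOn {χ : N → ℂ | IsIrrCharacter N χ ∧ ∃ k ∈ K, χ k ≠ χ 1} {1}ᶜ) τ)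
    (hτ1 : ∀ α ∈ zspanOn {χ : N → ℂ | IsIrrCharacter N χ ∧ ∃ k ∈ K, χ k ≠ χ 1} {1}ᶜ, τ α 1 = 0) :
    (Nat.card {χ : N → ℂ // IsIrrCharacter N χ ∧ ∃ k ∈ K, χ k ≠ χ 1} = 1 ∧
      Nat.card K = K.index + 1 ∧ ∃ p : ℕ, p.Prime ∧ ∀ a ∈ K, a ^ p = 1) ∨
    IsCoherent {χ : N → ℂ | IsIrrCharacter N χ ∧ ∃ k ∈ K, χ k ≠ χ 1} {1}ᶜ τ := by
  classical
  by_cases htwo : ∃ χ ∈ {χ : N → ℂ | IsIrrCharacter N χ ∧ ∃ k ∈ K, χ k ≠ χ 1},
      ∃ ψ ∈ {χ : N → ℂ | IsIrrCharacter N χ ∧ ∃ k ∈ K, χ k ≠ χ 1}, χ ≠ ψ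
  · right
    apply coherent_of_equal_degree (fun χ hχ => hχ.1) htwo ?_ subset_rfl τ hτ hτ1
    intro φ hφ ψ hψ
    rw [(Helper5.frob_degree_and_vanish hK hab hC hφ.1 hφ.2).1,
      (Helper5.frob_degree_and_vanish hK hab hC hψ.1 hψ.2).1]
  · left
    push Not at htwo
    have hcard := Helper5.frob_card_relevant hK hab hC
    have e : {χ : IrrCharacter N // ∃ k ∈ K, (χ : N → ℂ) k ≠ (χ : N → ℂ) 1} ≃
        {χ : N → ℂ // IsIrrCharacter N χ ∧ ∃ k ∈ K, χ k ≠ χ 1} :=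
      ⟨fun χ => ⟨χ.1.1, χ.1.2, χ.2⟩, fun χ => ⟨⟨χ.1, χ.2.1⟩, χ.2.2⟩, fun _ => rfl, fun _ => rfl⟩
    rw [Nat.card_congr e] at hcard
    have hle : Nat.card {χ : N → ℂ // IsIrrCharacter N χ ∧ ∃ k ∈ K, χ k ≠ χ 1} ≤ 1 := by
      haveI : Subsingleton {χ : N → ℂ // IsIrrCharacter N χ ∧ ∃ k ∈ K, χ k ≠ χ 1} :=
        ⟨fun a b => Subtype.ext (htwo a.1 a.2 b.1 b.2)⟩
      exact Finite.card_le_one_iff_subsingleton.2 inferInstance
    have hK2 : 1 < Nat.card K := by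
      rw [Finite.one_lt_card_iff_nontrivial]
      exact (Subgroup.nontrivial_iff_ne_bot K).2 hK1
    have h1 : Nat.card {χ : N → ℂ // IsIrrCharacter N χ ∧ ∃ k ∈ K, χ k ≠ χ 1} = 1 := by
      rcases Nat.le_one_iff_eq_zero_or_eq_one.1 hle with h | h
      · rw [h] at hcard; omega
      · exact h
    rw [h1, one_mul] at hcard
    exact ⟨h1, hcard.symm, Helper5.frob_exponent hK hab hC hcard.symm⟩

end Ab

section TI
variable {G : Type*} [Group G] [Fintype G] (K L : Subgroup G) [Fintype L]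

theorem ti_centralizer (hC : ∀ k ∈ K, k ≠ 1 → Subgroup.centralizer ({k} : Set G) ≤ K) :
    ∀ k ∈ K.subgroupOf L, k ≠ 1 → Subgroup.centralizer ({k} : Set L) ≤ K.subgroupOf L := by
  intro k hk hk1 x hx
  rw [Subgroup.mem_centralizer_singleton_iff] at hx
  apply hC k hk (fun h => hk1 (Subtype.ext h))
  rw [Subgroup.mem_centralizer_singleton_iff]
  exact congrArg Subtype.val hx

theorem ti_set_eq [hn : (K.subgroupOf L).Normal]
    (hC : ∀ k ∈ K, k ≠ 1 → Subgroup.centralizer ({k} : Set G) ≤ K) :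
    inducedIrrAbove (K.subgroupOf L) ⊥ =
      {χ : L → ℂ | IsIrrCharacter L χ ∧ ∃ k : L, (k : G) ∈ K ∧ χ k ≠ χ 1} := by
  rw [frob_set_eq _ (ti_centralizer K L hC)]
  rfl

/-- the odd case: Sibley's theorem -/
theorem ti_odd_case (hN : Subgroup.normalizer (K : Set G) = L) (hodd : Odd (Nat.card L))
    (hK1 : K ≠ ⊥) (hlt : K < L) (hnil : Group.IsNilpotent K) (hTI : IsTISubset (K : Set G))
    (hC : ∀ k ∈ K, k ≠ 1 → Subgroup.centralizer ({k} : Set G) ≤ K) :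
    IsCoherent (inducedIrrAbove (K.subgroupOf L) ⊥) {1}ᶜ (fun α : L → ℂ => indFun L α) := by
  have hHn : ∀ x ∈ L, ∀ h ∈ K, x * h * x⁻¹ ∈ K := by
    intro x hx h hh
    rw [← hN] at hx
    exact (Subgroup.mem_normalizer_iff.1 hx h).1 hh
  haveI hKn : (K.subgroupOf L).Normal := ⟨fun k hk x => hHn x x.2 k hk⟩
  obtain ⟨W, hinf, hsup, hfpf⟩ := frob_exists_complement (K.subgroupOf L) (ti_centralizer K L hC)
  have hWL : W.map L.subtype ≤ L := Subgroup.map_subtype_le W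
  have hmemW : ∀ x : L, (x : G) ∈ W.map L.subtype ↔ x ∈ W := by
    intro x
    constructor
    · rintro ⟨y, hy, hxy⟩
      have : y = x := Subtype.ext hxy
      exact this ▸ hy
    · intro h
      exact ⟨x, h, rfl⟩
  apply Cfsg.Agent.S1524.result K L (W.map L.subtype) hodd hlt.le hWL hK1 ?_ hnil hHn ?_ ?_ ?_ hTI hN
  · intro h
    have hW : W = ⊥ := by
      rw [eq_bot_iff]
      intro x hx
      have : (x : G) ∈ W.map L.subtype := (hmemW x).2 hx
      rw [h, Subgroup.mem_bot] at this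
      rw [Subgroup.mem_bot]
      exact Subtype.ext this
    rw [hW, sup_bot_eq, Subgroup.subgroupOf_eq_top] at hsup
    exact absurd hsup (not_le_of_gt hlt)
  · rw [eq_bot_iff]
    rintro x ⟨hx1, hx2⟩
    have hxL : x ∈ L := hlt.le hx1
    have : (⟨x, hxL⟩ : L) ∈ K.subgroupOf L ⊓ W := ⟨hx1, (hmemW ⟨x, hxL⟩).1 hx2⟩
    rw [hinf, Subgroup.mem_bot] at this
    rw [Subgroup.mem_bot]
    exact congrArg Subtype.val this
  · apply le_antisymm (sup_le hlt.le hWL)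
    intro x hx
    have h1 : (⟨x, hx⟩ : L) ∈ K.subgroupOf L ⊔ W := by rw [hsup]; trivial
    have h2 : (K.subgroupOf L ⊔ W).map L.subtype ≤ K ⊔ W.map L.subtype := by
      rw [Subgroup.map_sup]
      apply sup_le_sup_right
      rw [Subgroup.subgroupOf_map_subtype]
      exact inf_le_left
    exact h2 ⟨_, h1, rfl⟩
  · intro w hw hw1 h hh hc
    have hwL : w ∈ L := hWL hw
    have := hfpf ⟨w, hwL⟩ ((hmemW _).1 hw) (fun e => hw1 (congrArg Subtype.val e))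
      ⟨h, hlt.le hh⟩ hh (Subtype.ext hc)
    exact congrArg Subtype.val this

end TI

end Cfsg.Agent.Lib.Helper32
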