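import Cfsg.Agent.Lib.Helper32.Feit2
import Cfsg.Agent.Lib.Helper32.CohExt2
import Cfsg.Agent.Lib.Helper32.NilStep
import Cfsg.Agent.S1530

set_option autoImplicit false
open Cfsg

namespace Cfsg.Agent.Lib.Helper32

open Cfsg.Agent.Lib.Helper20
open scoped commutatorElement

section Ext
variable {L : Type*} [Group L] [Fintype L] {G : Type*} [Group G] [Fintype G]

/-- Extending coherence one irreducible character at a time (criterion of S1530). -/
theorem coherent_extend_irr {S : Set (L → ℂ)} (hirr : ∀ χ ∈ S, IsIrrCharacter L χ)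
    (τ : (L → ℂ) → (G → ℂ)) (hτ : IsLinearIsometryOn (zspanOn S {1}ᶜ) τ)
    (hτ1 : ∀ α ∈ zspanOn S {1}ᶜ, τ α 1 = 0) (d : (L → ℂ) → ℕ) (hd : ∀ φ ∈ S, φ 1 = (d φ : ℂ))
    (T V : Finset (L → ℂ)) (hTV : T ⊆ V) (hV : ↑V ⊆ S)
    (hcoh : IsCoherent (↑T : Set (L → ℂ)) {1}ᶜ τ)
    (hstep : ∀ S₁ : Finset (L → ℂ), T ⊆ S₁ → S₁ ⊂ V →
      ∃ χ ∈ V, χ ∉ S₁ ∧ ∃ ψ ∈ S₁, d ψ ∣ d χ ∧ 2 * d ψ * d χ < ∑ ξ ∈ S₁, d ξ ^ 2) :
    IsCoherent (↑V : Set (L → ℂ)) {1}ᶜ τ := by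
  classical
  let P : Finset (Finset (L → ℂ)) := V.powerset.filter (fun S₁ => T ⊆ S₁ ∧
    IsCoherent (↑S₁ : Set (L → ℂ)) {1}ᶜ τ)
  have hP : P.Nonempty := ⟨T, by
    simp only [P, Finset.mem_filter, Finset.mem_powerset]
    exact ⟨hTV, subset_rfl, hcoh⟩⟩
  obtain ⟨S₁, hS₁, hmax⟩ := Finset.exists_max_image P Finset.card hP
  simp only [P, Finset.mem_filter, Finset.mem_powerset] at hS₁
  obtain ⟨h1, h2, h4⟩ := hS₁
  by_cases heq : S₁ = V
  · rw [← heq]; exact h4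
  · exfalso
    obtain ⟨χ, hχV, hχ, ψ, hψ, hdvd, hlt⟩ := hstep S₁ h2 (Finset.ssubset_iff_subset_ne.2 ⟨h1, heq⟩)
    have hins : (↑(insert χ S₁) : Set (L → ℂ)) ⊆ S := by
      intro x hx
      rw [Finset.mem_coe, Finset.mem_insert] at hx
      rcases hx with rfl | hx
      · exact hV hχV
      · exact hV (h1 hx)
    have hnew := Cfsg.Agent.S1530.main S₁ χ (fun ξ hξ => hirr ξ (hV (h1 hξ))) (hirr χ (hV hχV)) hχ d
      (fun ξ hξ => hd ξ (hins hξ)) τ (iso_mono hτ (zspanOn_mono hins _))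
      (fun α hα => hτ1 α (zspanOn_mono hins _ hα)) h4 ψ hψ hdvd hlt
    have hmem : insert χ S₁ ∈ P := by
      simp only [P, Finset.mem_filter, Finset.mem_powerset]
      refine ⟨?_, h2.trans (Finset.subset_insert _ _), hnew⟩
      intro x hx
      rw [Finset.mem_insert] at hx
      rcases hx with rfl | hx
      · exact hχV
      · exact h1 hx
    have hle := hmax _ hmem
    rw [Finset.card_insert_of_notMem hχ] at hle
    omega

variable (K : Subgroup L) [hK : K.Normal]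

theorem exists_deg (hirr : ∀ χ ∈ inducedIrrAbove K ⊥, IsIrrCharacter L χ) :
    ∃ d : (L → ℂ) → ℕ, ∀ φ ∈ inducedIrrAbove K ⊥, φ 1 = (d φ : ℂ) := by
  have h1 : ∀ φ ∈ inducedIrrAbove K ⊥, ∃ k : ℕ, φ 1 = k := fun φ hφ => by
    obtain ⟨n, _, hn⟩ := irr_apply_one (hirr φ hφ)
    exact ⟨n, hn⟩
  choose! d hd using h1
  exact ⟨d, hd⟩

theorem sum_indAbove_sq (hirr : ∀ χ ∈ inducedIrrAbove K ⊥, IsIrrCharacter L χ)
    (d : (L → ℂ) → ℕ) (hd : ∀ φ ∈ inducedIrrAbove K ⊥, φ 1 = (d φ : ℂ))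
    (A : Subgroup L) [hA : A.Normal] :
    ∑ φ ∈ indAbove K A, d φ ^ 2 + K.index = K.index * A.relIndex K := by
  have hsubA : inducedIrrAbove K A ⊆ inducedIrrAbove K ⊥ := inducedIrrAbove_mono K bot_le
  have hsum := sum_indAbove_sq_div K A
    (fun χ hχ φ hφ h => classInner_irr_ne (hirr χ (hsubA hχ)) (hirr φ (hsubA hφ)) h) d (fun _ => 1)
    (fun φ hφ => hd φ (hsubA hφ))
    (fun φ hφ => by rw [classInner_irr_self (hirr φ (hsubA hφ))]; simp)
  simp only [Nat.cast_one, div_one] at hsum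
  have : ((∑ φ ∈ indAbove K A, d φ ^ 2 + K.index : ℕ) : ℝ) = ((K.index * A.relIndex K : ℕ) : ℝ) := by
    push_cast
    rw [hsum]
    ring
  exact_mod_cast this

/-- Irreducible version of Peterfalvi (6.3). -/
theorem coh63_irr (hsolv : Group.IsSolvable K)
    (hirr : ∀ χ ∈ inducedIrrAbove K ⊥, IsIrrCharacter L χ)
    (τ : (L → ℂ) → (G → ℂ)) (hτ : IsLinearIsometryOn (zspanOn (inducedIrrAbove K ⊥) {1}ᶜ) τ)
    (hτ1 : ∀ α ∈ zspanOn (inducedIrrAbove K ⊥) {1}ᶜ, τ α 1 = 0)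
    (A B C D : Subgroup L) [A.Normal] [B.Normal] [C.Normal] [D.Normal] (hAK : A < K) (hBA : B ≤ A)
    (hDC : D ≤ C) (hCK : C ≤ K)
    (hcent : ∀ x ∈ D, ∀ y ∈ C, x * y * x⁻¹ * y⁻¹ ∈ B)
    (hA : IsCoherent (inducedIrrAbove K A) {1}ᶜ τ)
    (hlt : 4 * C.index ^ 2 * D.relIndex C < (A.relIndex K - 1) ^ 2) :
    IsCoherent (inducedIrrAbove K B) {1}ᶜ τ := by
  classical
  obtain ⟨d, hd⟩ := exists_deg K hirr
  have hsubA : inducedIrrAbove K A ⊆ inducedIrrAbove K ⊥ := inducedIrrAbove_mono K bot_le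
  have hsubB : inducedIrrAbove K B ⊆ inducedIrrAbove K ⊥ := inducedIrrAbove_mono K bot_le
  have hAB : inducedIrrAbove K A ⊆ inducedIrrAbove K B := inducedIrrAbove_mono K hBA
  obtain ⟨χ₁, hχ₁, hχ₁d⟩ := exists_linear_above K hsolv A hAK
  have hsum := sum_indAbove_sq K hirr d hd A
  rw [← coe_indAbove]
  apply coherent_extend_irr hirr τ hτ hτ1 d hd (indAbove K A) (indAbove K B)
  · intro φ hφ
    rw [mem_indAbove] at hφ ⊢
    exact hAB hφ
  · rw [coe_indAbove]; exact hsubB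
  · rw [coe_indAbove]; exact hA
  · intro S₁ hT hV
    obtain ⟨χ, hχV, hχ⟩ := Finset.exists_of_ssubset hV
    have hχB : χ ∈ inducedIrrAbove K B := (mem_indAbove K).1 hχV
    refine ⟨χ, hχV, hχ, χ₁, hT ((mem_indAbove K).2 hχ₁), ?_, ?_⟩
    all_goals
      obtain ⟨m, hm1, hm2⟩ := inducedIrrAbove_degree_bound K B C D hDC hCK hcent hχB
      have e1 : d χ = K.index * m := by
        have := hd χ (hsubB hχB)
        rw [hm1] at this
        exact_mod_cast this.symm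
      have e2 : d χ₁ = K.index := by
        have := hd χ₁ (hsubA hχ₁)
        rw [hχ₁d] at this
        exact_mod_cast this.symm
    · rw [e1, e2]; exact Dvd.intro _ rfl
    · have h1 : (2 * (K.index * m)) ^ 2 < (A.relIndex K - 1) ^ 2 := by
        calc (2 * (K.index * m)) ^ 2 = 4 * (K.index * m) ^ 2 := by ring
          _ ≤ 4 * (C.index ^ 2 * D.relIndex C) := Nat.mul_le_mul_left _ hm2
          _ = 4 * C.index ^ 2 * D.relIndex C := by ring
          _ < _ := hlt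
      have h2 : 2 * (K.index * m) < A.relIndex K - 1 := lt_of_pow_lt_pow_left₀ 2 (Nat.zero_le _) h1
      have hKpos : 0 < K.index := Nat.pos_of_ne_zero Subgroup.index_ne_zero_of_finite
      have h6 : ∑ φ ∈ indAbove K A, d φ ^ 2 ≤ ∑ φ ∈ S₁, d φ ^ 2 :=
        Finset.sum_le_sum_of_subset hT
      refine lt_of_lt_of_le ?_ h6
      rw [e1, e2]
      have h7 : 2 * (K.index * m) + 2 ≤ A.relIndex K := by omega
      nlinarith

end Ext

end Cfsg.Agent.Lib.Helper32
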