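import Cfsg.Agent.Lib.Helper32.Feit3
import Cfsg.Agent.Lib.Helper32.Sib4
import Cfsg.Agent.Lib.Helper32.FrobQuot

set_option autoImplicit false
open Cfsg

namespace Cfsg.Agent.Lib.Helper32

open Cfsg.Agent.Lib.Helper20
open scoped commutatorElement

section Descent
variable {L : Type*} [Group L] [Fintype L] {G : Type*} [Group G] [Fintype G]
variable (K : Subgroup L) [hK : K.Normal]

theorem comm_sup_mem (A X B : Subgroup L) [hA : A.Normal] [hB : B.Normal]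
    (h1 : ⁅A, K⁆ ≤ B) (h2 : ⁅X, K⁆ ≤ B) :
    ∀ x ∈ A ⊔ X, ∀ y ∈ K, x * y * x⁻¹ * y⁻¹ ∈ B := by
  intro x hx y hy
  obtain ⟨a, ha, x', hx', rfl⟩ := Subgroup.mem_sup_of_normal_left.1 hx
  have e : a * x' * y * (a * x')⁻¹ * y⁻¹ = a * ⁅x', y⁆ * a⁻¹ * ⁅a, y⁆ := by
    rw [commutatorElement_def, commutatorElement_def]
    group
  rw [e]
  exact B.mul_mem (hB.conj_mem _ (h2 (Subgroup.commutator_mem_commutator hx' hy)) a)
    (h1 (Subgroup.commutator_mem_commutator ha hy))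

/-- Descent along the lower central series relative to `X`. -/
theorem coh_descent (hnil : Group.IsNilpotent K)
    (hirr : ∀ χ ∈ inducedIrrAbove K ⊥, IsIrrCharacter L χ)
    (τ : (L → ℂ) → (G → ℂ)) (hτ : IsLinearIsometryOn (zspanOn (inducedIrrAbove K ⊥) {1}ᶜ) τ)
    (hτ1 : ∀ α ∈ zspanOn (inducedIrrAbove K ⊥) {1}ᶜ, τ α 1 = 0)
    (X A₀ : Subgroup L) [hX : X.Normal] [hA₀ : A₀.Normal] (hXK : X ≤ K) (hXA : ⁅X, K⁆ ≤ A₀)
    (hA₀K : A₀ < K)
    (hnum : ∀ A : Subgroup L, A.Normal → ⁅X, K⁆ ≤ A → A ≤ A₀ →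
      4 * K.index ^ 2 * (A ⊔ X).relIndex K < (A.relIndex K - 1) ^ 2)
    (hcoh : IsCoherent (inducedIrrAbove K A₀) {1}ᶜ τ) :
    IsCoherent (inducedIrrAbove K ⁅X, K⁆) {1}ᶜ τ := by
  have hsolv : Group.IsSolvable K := inferInstance
  have key : ∀ n : ℕ, ∀ A : Subgroup L, A.Normal → ⁅X, K⁆ ≤ A → A ≤ A₀ → Nat.card A = n →
      IsCoherent (inducedIrrAbove K A) {1}ᶜ τ → IsCoherent (inducedIrrAbove K ⁅X, K⁆) {1}ᶜ τ := by
    intro n
    induction n using Nat.strong_induction_on with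
    | _ n ih =>
      intro A hA hXA' hAA₀ hn hc
      by_cases heq : A = ⁅X, K⁆
      · rw [← heq]; exact hc
      · have hBn : (⁅A, K⁆ ⊔ ⁅X, K⁆).Normal := inferInstance
        have hBA : ⁅A, K⁆ ⊔ ⁅X, K⁆ ≤ A := sup_le (Subgroup.commutator_le_left A K) hXA'
        have hne : ⁅A, K⁆ ⊔ ⁅X, K⁆ ≠ A := by
          intro h
          apply heq
          haveI : ((⁅X, K⁆ : Subgroup L).subgroupOf K).Normal :=
            Subgroup.Normal.subgroupOf inferInstance K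
          exact eq_of_commutator_sup_eq ⁅X, K⁆ A K hXA' (hAA₀.trans hA₀K.le) inferInstance h
        have hcard : Nat.card (⁅A, K⁆ ⊔ ⁅X, K⁆ : Subgroup L) < n := by
          rw [← hn]
          exact Set.ncard_lt_ncard (s := ((⁅A, K⁆ ⊔ ⁅X, K⁆ : Subgroup L) : Set L)) (t := (A : Set L))
            (SetLike.coe_ssubset_coe.2 (lt_of_le_of_ne hBA hne)) (Set.toFinite _)
        apply ih _ hcard (⁅A, K⁆ ⊔ ⁅X, K⁆) hBn le_sup_right (hBA.trans hAA₀) rfl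
        exact coh63_irr K hsolv hirr τ hτ hτ1 A (⁅A, K⁆ ⊔ ⁅X, K⁆) K (A ⊔ X)
          (lt_of_le_of_lt hAA₀ hA₀K) hBA (sup_le (hAA₀.trans hA₀K.le) hXK) le_rfl
          (comm_sup_mem K A X _ le_sup_left le_sup_right) hc (hnum A hA hXA' hAA₀)
  exact key _ A₀ hA₀ hXA le_rfl rfl hcoh

theorem coh_descent_bot (hnil : Group.IsNilpotent K)
    (hirr : ∀ χ ∈ inducedIrrAbove K ⊥, IsIrrCharacter L χ)
    (τ : (L → ℂ) → (G → ℂ)) (hτ : IsLinearIsometryOn (zspanOn (inducedIrrAbove K ⊥) {1}ᶜ) τ)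
    (hτ1 : ∀ α ∈ zspanOn (inducedIrrAbove K ⊥) {1}ᶜ, τ α 1 = 0)
    (A₀ : Subgroup L) [hA₀ : A₀.Normal] (hA₀K : A₀ < K)
    (hbig : 4 * K.index ^ 2 + 1 < A₀.relIndex K)
    (hcoh : IsCoherent (inducedIrrAbove K A₀) {1}ᶜ τ) :
    IsCoherent (inducedIrrAbove K ⊥) {1}ᶜ τ := by
  have h := coh_descent K hnil hirr τ hτ hτ1 ⊥ A₀ bot_le
    (by rw [Subgroup.commutator_bot_left]; exact bot_le) hA₀K ?_ hcoh
  · rwa [Subgroup.commutator_bot_left] at h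
  · intro A hA _ hAA₀
    rw [sup_bot_eq]
    have h1 : A₀.relIndex K ≤ A.relIndex K :=
      Nat.le_of_dvd (Nat.pos_of_ne_zero Subgroup.index_ne_zero_of_finite)
        (Subgroup.relIndex_dvd_of_le_left K hAA₀)
    obtain ⟨b, hb⟩ : ∃ b, A.relIndex K = b + (4 * K.index ^ 2 + 2) := ⟨_, (Nat.sub_add_cancel (by omega)).symm⟩
    rw [hb]
    have : b + (4 * K.index ^ 2 + 2) - 1 = b + 4 * K.index ^ 2 + 1 := by omega
    rw [this]
    nlinarith [Nat.zero_le b, Nat.zero_le (K.index ^ 2)]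

theorem coh_descent_frob (hnil : Group.IsNilpotent K)
    (F2 : ∀ k ∈ K, k ≠ 1 → ∀ x : L, x * k = k * x → x ∈ K) (he : 3 ≤ K.index)
    (hirr : ∀ χ ∈ inducedIrrAbove K ⊥, IsIrrCharacter L χ)
    (τ : (L → ℂ) → (G → ℂ)) (hτ : IsLinearIsometryOn (zspanOn (inducedIrrAbove K ⊥) {1}ᶜ) τ)
    (hτ1 : ∀ α ∈ zspanOn (inducedIrrAbove K ⊥) {1}ᶜ, τ α 1 = 0)
    (X A₀ : Subgroup L) [hX : X.Normal] [hA₀ : A₀.Normal] (hXK : X ≤ K) (hXA : ⁅X, K⁆ ≤ A₀)
    (hnot : ¬ X ≤ A₀) (hlt : A₀ ⊔ X < K)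
    (hcoh : IsCoherent (inducedIrrAbove K A₀) {1}ᶜ τ) :
    IsCoherent (inducedIrrAbove K ⁅X, K⁆) {1}ᶜ τ := by
  have hA₀K : A₀ < K := lt_of_le_of_lt le_sup_left hlt
  apply coh_descent K hnil hirr τ hτ hτ1 X A₀ hXK hXA hA₀K ?_ hcoh
  intro A hA _ hAA₀
  have hAK : A ≤ K := hAA₀.trans hA₀K.le
  have hAXK : A ⊔ X ≤ K := sup_le hAK hXK
  have hmul := Subgroup.relIndex_mul_relIndex A (A ⊔ X) K le_sup_left hAXK
  have hc := frob_dvd_relIndex_sub_one K A (A ⊔ X) hAK hAXK (frob_quot K A hAK F2)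
  have hh := frob_dvd_relIndex_sub_one K (A ⊔ X) K hAXK le_rfl (frob_quot K (A ⊔ X) hAXK F2)
  have hc1 : A.relIndex (A ⊔ X) ≠ 1 := by
    rw [Ne, Subgroup.relIndex_eq_one]
    intro h
    exact hnot ((le_sup_right.trans h).trans hAA₀)
  have hh1 : (A ⊔ X).relIndex K ≠ 1 := by
    rw [Ne, Subgroup.relIndex_eq_one]
    intro h
    exact absurd (h.trans (sup_le_sup_right hAA₀ X)) (not_le_of_gt hlt)
  have hc0 : A.relIndex (A ⊔ X) ≠ 0 := Subgroup.index_ne_zero_of_finite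
  have hh0 : (A ⊔ X).relIndex K ≠ 0 := Subgroup.index_ne_zero_of_finite
  rw [← hmul]
  generalize A.relIndex (A ⊔ X) = c at *
  generalize (A ⊔ X).relIndex K = h at *
  generalize K.index = e at *
  have hc2 : e + 1 ≤ c := by
    have := Nat.le_of_dvd (by omega) hc
    omega
  have hh2 : e + 1 ≤ h := by
    have := Nat.le_of_dvd (by omega) hh
    omega
  obtain ⟨c', rfl⟩ : ∃ c', c = c' + (e + 1) := ⟨_, (Nat.sub_add_cancel hc2).symm⟩
  have h4 : 4 ≤ h := by omega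
  have h5 : h * e + 1 ≤ (c' + (e + 1)) * h - 1 := by
    have : (c' + (e + 1)) * h = c' * h + h * e + h := by ring
    rw [this]
    have := Nat.zero_le (c' * h)
    omega
  calc 4 * e ^ 2 * h ≤ h * e ^ 2 * h := by
        apply Nat.mul_le_mul_right
        apply Nat.mul_le_mul_right
        exact h4
    _ = (h * e) ^ 2 := by ring
    _ < (h * e + 1) ^ 2 := by nlinarith
    _ ≤ _ := Nat.pow_le_pow_left h5 2

end Descent

end Cfsg.Agent.Lib.Helper32
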