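import Mathlib

set_option autoImplicit false

namespace Cfsg.Agent.Lib.Helper32

section
variable {G : Type*} [Group G]

theorem relIndex_two_mul_mem_iff {N E : Subgroup G} (hN : N.relIndex E = 2) {x y : G}
    (hx : x ∈ E) (hy : y ∈ E) : x * y ∈ N ↔ (x ∈ N ↔ y ∈ N) :=
  Subgroup.mul_mem_iff_of_index_two (H := N.subgroupOf E) hN (a := ⟨x, hx⟩) (b := ⟨y, hy⟩)

theorem relIndex_two_conj_mem_iff {N E : Subgroup G} (hN : N.relIndex E = 2) {x y : G}
    (hx : x ∈ E) (hy : y ∈ E) : x * y * x⁻¹ ∈ N ↔ y ∈ N := by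
  rw [relIndex_two_mul_mem_iff hN (E.mul_mem hx hy) (E.inv_mem hx),
    relIndex_two_mul_mem_iff hN hx hy, inv_mem_iff]
  tauto

theorem relIndex_two_exists_not_mem {N E : Subgroup G} (hN : N.relIndex E = 2) :
    ∃ x ∈ E, x ∉ N := by
  by_contra hcon
  push Not at hcon
  have : E ≤ N := hcon
  rw [Subgroup.relIndex_eq_one.2 this] at hN
  omega

theorem relIndex_eq_two_of_xor {N E : Subgroup G} (a : G) (ha : a ∈ E)
    (h : ∀ b ∈ E, Xor (b * a ∈ N) (b ∈ N)) : N.relIndex E = 2 := by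
  rw [Subgroup.relIndex, Subgroup.index_eq_two_iff]
  exact ⟨⟨a, ha⟩, fun b => h b.1 b.2⟩

/-- an index two subgroup can be chosen invariant under an involutory automorphism -/
theorem exists_invariant_relIndex_two (E N : Subgroup G) (s : G) (hs2 : s * s = 1)
    (hsE : ∀ x ∈ E, s * x * s⁻¹ ∈ E) (hNE : N ≤ E) (hN : N.relIndex E = 2) :
    ∃ N' : Subgroup G, N' ≤ E ∧ N'.relIndex E = 2 ∧ ∀ x ∈ N', s * x * s⁻¹ ∈ N' := by
  classical
  by_cases hinv : ∀ x ∈ E, (x ∈ N ↔ s * x * s⁻¹ ∈ N)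
  · exact ⟨N, hNE, hN, fun x hx => (hinv x (hNE hx)).1 hx⟩
  push Not at hinv
  obtain ⟨a, haE, ha⟩ := hinv
  have hss : ∀ x, s * (s * x * s⁻¹) * s⁻¹ = x := by
    intro x
    have h1 : s⁻¹ = s := inv_eq_of_mul_eq_one_left hs2
    rw [h1]
    calc s * (s * x * s) * s = (s * s) * x * (s * s) := by group
      _ = x := by rw [hs2, one_mul, mul_one]
  have hmulc : ∀ x y, s * (x * y) * s⁻¹ = (s * x * s⁻¹) * (s * y * s⁻¹) := by
    intro x y; group
  let N' : Subgroup G :=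
    { carrier := {x | x ∈ E ∧ (x ∈ N ↔ s * x * s⁻¹ ∈ N)}
      one_mem' := ⟨E.one_mem, by simp [N.one_mem]⟩
      mul_mem' := by
        rintro x y ⟨hx, hx'⟩ ⟨hy, hy'⟩
        refine ⟨E.mul_mem hx hy, ?_⟩
        rw [hmulc, relIndex_two_mul_mem_iff hN hx hy,
          relIndex_two_mul_mem_iff hN (hsE x hx) (hsE y hy), hx', hy']
      inv_mem' := by
        rintro x ⟨hx, hx'⟩
        refine ⟨E.inv_mem hx, ?_⟩
        have : s * x⁻¹ * s⁻¹ = (s * x * s⁻¹)⁻¹ := by group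
        rw [this, inv_mem_iff, inv_mem_iff, hx'] }
  have hmem : ∀ x, x ∈ N' ↔ (x ∈ E ∧ (x ∈ N ↔ s * x * s⁻¹ ∈ N)) := fun x => Iff.rfl
  refine ⟨N', fun x hx => hx.1, ?_, ?_⟩
  · apply relIndex_eq_two_of_xor a haE
    intro b hb
    rw [hmem, hmem, hmulc, relIndex_two_mul_mem_iff hN hb haE,
      relIndex_two_mul_mem_iff hN (hsE b hb) (hsE a haE)]
    have h1 : b * a ∈ E := E.mul_mem hb haE
    simp only [h1, hb, true_and]
    unfold Xor
    tauto
  · rintro x ⟨hx, hx'⟩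
    refine ⟨hsE x hx, ?_⟩
    rw [hss, ← hx']

end

end Cfsg.Agent.Lib.Helper32
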