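import Cfsg.Agent.Lib.Helper32.Sh3A
import Cfsg.Agent.Lib.Helper41.Sharp3TR2
import Cfsg.Agent.Lib.Helper69.Zass
import Cfsg.Agent.S0728
import Cfsg.Agent.S0738

set_option autoImplicit false
open Cfsg

namespace Cfsg.Agent.Lib.Helper32

open MulAction

/-- In a sharply triply transitive group of even degree, a two point stabiliser has a subgroup
of index two normalised by any involution swapping the two points. -/
theorem sharp3_exists_N {G Ω : Type*} [Group G] [Finite G] [MulAction G Ω] [Fintype Ω]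
    (h3 : ∀ a b c a' b' c' : Ω, a ≠ b → a ≠ c → b ≠ c → a' ≠ b' → a' ≠ c' → b' ≠ c' →
      ∃ g : G, g • a = a' ∧ g • b = b' ∧ g • c = c')
    (hs : ∀ g : G, ∀ a b c : Ω, a ≠ b → a ≠ c → b ≠ c → g • a = a → g • b = b → g • c = c → g = 1)
    (heven : Even (Fintype.card Ω)) (h4 : 4 ≤ Fintype.card Ω)
    {a b : Ω} (hab : a ≠ b) (s : G) (hsa : s • a = b) (hsb : s • b = a) (hs2 : s * s = 1) :
    ∃ N : Subgroup G, N ≤ stabilizer G a ⊓ stabilizer G b ∧
      N.relIndex (stabilizer G a ⊓ stabilizer G b) = 2 ∧ ∀ n ∈ N, s * n * s⁻¹ ∈ N := by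
  classical
  -- a point outside any three given points
  have hfour : ∀ x y z : Ω, ∃ w : Ω, w ≠ x ∧ w ≠ y ∧ w ≠ z := by
    intro x y z
    by_contra hcon
    push Not at hcon
    have h1 : (Finset.univ : Finset Ω) ⊆ {x, y, z} := by
      intro w _
      by_cases hx : w = x
      · simp [hx]
      by_cases hy : w = y
      · simp [hy]
      simp [hcon w hx hy]
    have h2 := Finset.card_le_card h1
    have h3' : ({x, y, z} : Finset Ω).card ≤ 3 := Finset.card_le_three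
    rw [Finset.card_univ] at h2
    omega
  obtain ⟨c, hca, hcb, -⟩ := hfour a b a
  obtain ⟨d, hda, hdb, hdc⟩ := hfour a b c
  obtain ⟨g0, hg0a, hg0b, hg0c⟩ := h3 a b c a b d hab hca.symm hcb.symm hab hda.symm hdb.symm
  have hg01 : g0 ≠ 1 := by
    rintro rfl
    rw [one_smul] at hg0c
    exact hdc hg0c.symm
  have h2 : ∀ a b c d : Ω, a ≠ b → c ≠ d → ∃ g : G, g • a = c ∧ g • b = d := by
    intro a b c d hab hcd
    obtain ⟨x, hxa, hxb, -⟩ := hfour a b a
    obtain ⟨y, hyc, hyd, -⟩ := hfour c d c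
    obtain ⟨g, h1, h2, -⟩ := h3 a b x c d y hab hxa.symm hxb.symm hcd hyc.symm hyd.symm
    exact ⟨g, h1, h2⟩
  obtain ⟨K, hKa, hKn, hKfree, hKtrans⟩ := Helper69.Zass.exists_kernel h2
    (fun g a b c hab hbc hac => hs g a b c hab hac hbc) a b c hab hcb.symm hca.symm g0 hg01
    hg0a hg0b
  obtain ⟨E, hE⟩ : ∃ E : Subgroup G, E = stabilizer G a ⊓ stabilizer G b := ⟨_, rfl⟩
  have hEmem : ∀ x, x ∈ E ↔ (x • a = a ∧ x • b = b) := by
    intro x
    rw [hE, Subgroup.mem_inf, mem_stabilizer_iff, mem_stabilizer_iff]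
  rw [← hE]
  have huniq : ∀ y : Ω, y ≠ a → ∀ u ∈ K, ∀ v ∈ K, u • y = v • y → u = v := by
    intro y hy u hu v hv huv
    by_contra hne
    have h1 : v⁻¹ * u ≠ 1 := by
      intro h
      exact hne (eq_of_inv_mul_eq_one h).symm
    apply hKfree _ (K.mul_mem (K.inv_mem hv) hu) h1 y hy
    rw [mul_smul, huv, inv_smul_smul]
  have hKne : ∀ u ∈ K, ∀ y : Ω, y ≠ a → u • y ≠ a := by
    intro u hu y hy h
    apply hy
    have : u • y = u • a := by rw [h, hKa u hu]
    exact smul_left_cancel _ this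
  have hnorm : ∀ x ∈ E, ∀ u ∈ K, x * u * x⁻¹ ∈ K := fun x hx u hu =>
    hKn x ((hEmem x).1 hx).1 u hu
  have hsemi : ∀ x ∈ E, ∀ u ∈ K, u ≠ 1 → x * u * x⁻¹ = u → x = 1 := by
    intro x hx u hu hu1 hxu
    obtain ⟨hxa, hxb⟩ := (hEmem x).1 hx
    apply hs x a b (u • b) hab (hKne u hu b hab.symm).symm (hKfree u hu hu1 b hab.symm).symm hxa hxb
    have : x * u = u * x := by
      calc x * u = (x * u * x⁻¹) * x := by group
        _ = u * x := by rw [hxu]
    rw [← mul_smul, this, mul_smul, hxb]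
  have hreg : ∀ u ∈ K, ∀ v ∈ K, u ≠ 1 → v ≠ 1 → ∃! x : E, (x : G) * u * (x : G)⁻¹ = v := by
    intro u hu v hv hu1 hv1
    obtain ⟨x, hxa, hxb, hxu⟩ := h3 a b (u • b) a b (v • b) hab (hKne u hu b hab.symm).symm
      (hKfree u hu hu1 b hab.symm).symm hab (hKne v hv b hab.symm).symm
      (hKfree v hv hv1 b hab.symm).symm
    have hxE : x ∈ E := (hEmem x).2 ⟨hxa, hxb⟩
    refine ⟨⟨x, hxE⟩, ?_, ?_⟩
    · apply huniq b hab.symm _ (hnorm x hxE u hu) v hv
      have : x⁻¹ • b = b := by rw [inv_smul_eq_iff, hxb]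
      rw [mul_smul, mul_smul, this, hxu]
    · rintro ⟨y, hy⟩ hyv
      apply Subtype.ext
      have h5 : x * u * x⁻¹ = v := by
        apply huniq b hab.symm _ (hnorm x hxE u hu) v hv
        have : x⁻¹ • b = b := by rw [inv_smul_eq_iff, hxb]
        rw [mul_smul, mul_smul, this, hxu]
      have h6 : x⁻¹ * y = 1 := by
        apply hsemi _ (E.mul_mem (E.inv_mem hxE) hy) u hu hu1
        have hyv' : y * u * y⁻¹ = v := hyv
        calc x⁻¹ * y * u * (x⁻¹ * y)⁻¹ = x⁻¹ * (y * u * y⁻¹) * x := by group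
          _ = x⁻¹ * (x * u * x⁻¹) * x := by rw [hyv', h5]
          _ = u := by group
      exact (eq_of_inv_mul_eq_one h6).symm
  have hcardK : Nat.card K + 1 = Fintype.card Ω := by
    have hbij : Function.Bijective (fun k : K => (⟨(k : G) • b, hKne k k.2 b hab.symm⟩ :
        {x : Ω // x ≠ a})) := by
      constructor
      · intro u v huv
        exact Subtype.ext (huniq b hab.symm u u.2 v v.2 (congrArg Subtype.val huv))
      · rintro ⟨z, hz⟩
        obtain ⟨k, hk, hkz⟩ := hKtrans b z hab.symm hz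
        exact ⟨⟨k, hk⟩, Subtype.ext hkz⟩
    rw [Nat.card_congr (Equiv.ofBijective _ hbij), Nat.card_eq_fintype_card,
      Fintype.card_subtype_compl]
    simp
    omega
  have hK1 : K ≠ ⊥ := by
    intro h
    rw [h, Subgroup.card_bot] at hcardK
    omega
  obtain ⟨u₁, hu₁, hu₁1⟩ : ∃ u ∈ K, u ≠ 1 := by
    by_contra hcon
    push Not at hcon
    exact hK1 ((Subgroup.eq_bot_iff_forall _).2 hcon)
  have hcardE : Nat.card E = Nat.card K - 1 := by
    have hbij : Function.Bijective (fun x : E => (⟨⟨(x : G) * u₁ * (x : G)⁻¹, hnorm x x.2 u₁ hu₁⟩, by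
        intro h
        apply hu₁1
        have h1 : (x : G) * u₁ * (x : G)⁻¹ = 1 := congrArg Subtype.val h
        calc u₁ = (x : G)⁻¹ * ((x : G) * u₁ * (x : G)⁻¹) * (x : G) := by group
          _ = 1 := by rw [h1]; group⟩ : {v : K // v ≠ 1})) := by
      constructor
      · intro x y hxy
        have h1 : (x : G) * u₁ * (x : G)⁻¹ = (y : G) * u₁ * (y : G)⁻¹ :=
          congrArg (fun z => ((z : {v : K // v ≠ 1}) : K).1) hxy
        have hne : (y : G) * u₁ * (y : G)⁻¹ ≠ 1 := by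
          intro h
          apply hu₁1
          calc u₁ = (y : G)⁻¹ * ((y : G) * u₁ * (y : G)⁻¹) * (y : G) := by group
            _ = 1 := by rw [h]; group
        exact (hreg u₁ hu₁ _ (hnorm y y.2 u₁ hu₁) hu₁1 hne).unique h1 rfl
      · rintro ⟨⟨v, hv⟩, hv1⟩
        obtain ⟨x, hx, -⟩ := hreg u₁ hu₁ v hv hu₁1 (fun h => hv1 (Subtype.ext h))
        exact ⟨x, Subtype.ext (Subtype.ext hx)⟩
    haveI := Fintype.ofFinite K
    rw [Nat.card_congr (Equiv.ofBijective _ hbij), Nat.card_eq_fintype_card,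
      Nat.card_eq_fintype_card, Fintype.card_subtype_compl]
    simp
  obtain ⟨hcomm, p, f, hp, hexp, hKpf⟩ := Cfsg.Agent.S0738.abstract_main K E hnorm hsemi
    (by rw [hcardE]; omega) hK1
  haveI : Fact p.Prime := ⟨hp⟩
  have hp2 : p ≠ 2 := by
    rintro rfl
    have hodd : ¬ 2 ∣ Nat.card K := by
      obtain ⟨r, hr⟩ := heven
      omega
    apply hodd
    rw [hKpf]
    apply dvd_pow_self
    rintro rfl
    rw [pow_zero] at hKpf
    omega
  have hHc : ∀ u ∈ K, ∀ v ∈ K, u * v = v * u := by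
    intro u hu v hv
    have := hcomm.is_comm.comm ⟨u, hu⟩ ⟨v, hv⟩
    exact congrArg Subtype.val this
  obtain ⟨N₀, hN₀E, hN₀⟩ := Cfsg.Agent.Lib.Helper41.Sharp3.exists_relIndex_two_of_regular_conj K E p hp2 hK1 hHc hexp hnorm hreg
    (by
      intro α hα β hβ hα1 hα3 hβ1 hβ3
      obtain ⟨h1, h2'⟩ := (hEmem α).1 hα
      obtain ⟨h3', h4'⟩ := (hEmem β).1 hβ
      exact Cfsg.Agent.S0728.eq_or_eq_inv h3 hs hab hca hcb α β hα1 hα3 h1 h2' hβ1 hβ3 h3' h4')
  have hsinv : s⁻¹ = s := inv_eq_of_mul_eq_one_left hs2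
  exact exists_invariant_relIndex_two E N₀ s hs2
    (by
      intro x hx
      obtain ⟨h1, h2'⟩ := (hEmem x).1 hx
      rw [hEmem, hsinv]
      constructor
      · rw [mul_smul, mul_smul, hsa, h2', hsb]
      · rw [mul_smul, mul_smul, hsb, h1, hsa]) hN₀E hN₀

end Cfsg.Agent.Lib.Helper32
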