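import Cfsg.Agent.Lib.Helper32.Zas7
import Cfsg.Agent.Lib.Helper69.Zass
import Cfsg.Agent.S0339

set_option autoImplicit false
open Cfsg

namespace Cfsg.Agent.Lib.Helper32

open Cfsg.Agent.Lib

universe u v

theorem commutator_index_congr {A B : Type*} [Group A] [Group B] (φ : A ≃* B) :
    (commutator A).index = (commutator B).index := by
  rw [Subgroup.index_eq_card, Subgroup.index_eq_card]
  exact Nat.card_congr (MulEquiv.abelianizationCongr φ).toEquiv

theorem zass_main_aux {Ω : Type v} [Fintype Ω] (n : ℕ) :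
    ∀ (G : Type u) [Group G] [Finite G] [MulAction G Ω] (_ : Cfsg.IsZassenhausGroup G Ω)
      (_ : Nat.card G = n) {a b : Ω} (_ : a ≠ b) (h e : ℕ)
      (_ : Fintype.card Ω = h + 1)
      (_ : Nat.card ↥(MulAction.stabilizer G a ⊓ MulAction.stabilizer G b : Subgroup G) = e)
      (_ : Odd e) (H : Subgroup G) (_ : H ≤ MulAction.stabilizer G a)
      (_ : Nat.card H + 1 = Fintype.card Ω)
      (_ : ∀ u ∈ H, u ≠ 1 → ∀ c : Ω, u • c = c → c = a),
      h - 1 ≤ 2 * e ∨ (IsPGroup 2 H ∧ (∃ u v : H, u * v ≠ v * u) ∧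
        (commutator H).index ≤ 4 * e ^ 2 + 1) := by
  induction n using Nat.strong_induction_on with
  | _ n ih =>
  intro G _ _ _ hZ hn a b hab h e hh he hodd H hHa hHcard hHfix
  by_cases hs : IsSimpleGroup G
  · exact zass_main_simple hZ hab h e hh he hodd H hHa hHcard hHfix
  obtain ⟨M, hMn, hM1, hM2⟩ : ∃ M : Subgroup G, M.Normal ∧ M ≠ ⊥ ∧ M ≠ ⊤ := by
    by_contra hcon
    push Not at hcon
    apply hs
    haveI : Nontrivial G := by
      obtain ⟨g, hg, _⟩ := hZ.2.2.2.1
      exact ⟨⟨g, 1, hg⟩⟩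
    refine ⟨fun M hM => ?_⟩
    by_cases hb : M = ⊥
    · exact Or.inl hb
    · exact Or.inr (hcon M hM hb)
  haveI := hMn
  have hZM : Cfsg.IsZassenhausGroup M Ω := Cfsg.Agent.S0339.result hZ M hM1
  have hlt : Nat.card M < n := by
    rw [← hn]
    have h1 : Nat.card M ≤ Nat.card G := Subgroup.card_le_card_group M
    rcases h1.lt_or_eq with h2 | h2
    · exact h2
    · exact absurd (Subgroup.eq_top_of_card_eq M h2) hM2
  obtain ⟨-, hN⟩ := Cfsg.Agent.S0878.result hZ a H hHa hHcard hHfix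
  have heM1 := Cfsg.Agent.S0884.one_lt_e hZM hab
  have hle : (MulAction.stabilizer M a ⊓ MulAction.stabilizer M b : Subgroup M).map M.subtype ≤
      (MulAction.stabilizer G a ⊓ MulAction.stabilizer G b : Subgroup G) := by
    rintro _ ⟨x, hx, rfl⟩
    exact Subgroup.mem_inf.2 ⟨(Subgroup.mem_inf.1 hx).1, (Subgroup.mem_inf.1 hx).2⟩
  have hdvd : Nat.card (MulAction.stabilizer M a ⊓ MulAction.stabilizer M b : Subgroup M) ∣ e := by
    rw [← he, ← Subgroup.card_map_of_injective M.subtype_injective]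
    exact Subgroup.card_dvd_of_le hle
  have hoddM : Odd (Nat.card (MulAction.stabilizer M a ⊓ MulAction.stabilizer M b : Subgroup M)) :=
    Odd.of_dvd_nat hodd hdvd
  have hleM : Nat.card (MulAction.stabilizer M a ⊓ MulAction.stabilizer M b : Subgroup M) ≤ e :=
    Nat.le_of_dvd hodd.pos hdvd
  have hHM : H ≤ M := by
    obtain ⟨x, hx, hx1⟩ : ∃ x ∈ (MulAction.stabilizer M a ⊓ MulAction.stabilizer M b : Subgroup M),
        x ≠ 1 := by
      rw [Subgroup.one_lt_card_iff_ne_bot] at heM1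
      exact (Subgroup.ne_bot_iff_exists_ne_one).1 heM1 |>.elim fun y hy =>
        ⟨y.1, y.2, fun h => hy (Subtype.ext h)⟩
    apply Helper69.Zass.kernel_le hZ.2.2.1 M H (fun k _ n hn => hMn.conj_mem n hn k) a b hab
      (fun k hk => hHa hk) ?_ ?_ x.1 x.2 (fun h => hx1 (Subtype.ext h))
      (Subgroup.mem_inf.1 hx).1 (Subgroup.mem_inf.1 hx).2
    · intro f hf k hk
      have hf' : f ∈ Subgroup.normalizer (H : Set G) := by rw [hN]; exact hf
      exact (Subgroup.mem_normalizer_iff.1 hf' k).1 hk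
    · intro k hk hk1 x hx hkx
      exact hx (hHfix k hk hk1 x hkx)
  have φ : H.subgroupOf M ≃* H := Subgroup.subgroupOfEquivOfLe hHM
  rcases ih _ hlt M hZM rfl hab h _ hh rfl hoddM (H.subgroupOf M)
    (fun x hx => hHa hx) (by rw [Nat.card_congr φ.toEquiv]; exact hHcard)
    (fun u hu hu1 c hc => hHfix u.1 hu (fun h => hu1 (Subtype.ext h)) c hc) with h1 | ⟨h1, ⟨u, v, huv⟩, h3⟩
  · left
    omega
  · right
    refine ⟨h1.of_equiv φ, ⟨φ u, φ v, ?_⟩, ?_⟩
    · intro hc
      apply huv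
      apply φ.injective
      rw [map_mul, map_mul, hc]
    · rw [← commutator_index_congr φ]
      have : (Nat.card (MulAction.stabilizer M a ⊓ MulAction.stabilizer M b : Subgroup M)) ^ 2
          ≤ e ^ 2 := Nat.pow_le_pow_left hleM 2
      omega

end Cfsg.Agent.Lib.Helper32
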