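import Cfsg.Agent.Lib.Helper32.Feit5
import Cfsg.Agent.Lib.Helper32.Coherence
import Cfsg.Agent.Lib.Helper5.Coherent
import Cfsg.Agent.Lib.Helper19.IndChar

set_option autoImplicit false
open Cfsg

namespace Cfsg.Agent.Lib.Helper32

open Cfsg.Agent.Lib.Helper20
open scoped ComplexConjugate

section Basic
variable {G : Type*} [Group G] [Fintype G]

/-- the degree of a character dominates multiplicity times degree of a constituent -/
theorem char_degree_ge {Θ φ : G → ℂ} (hΘ : IsCharacter G Θ) (hφ : IsIrrCharacter G φ)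
    {n D dφ : ℕ} (hn : classInner Θ φ = n) (hD : Θ 1 = D) (hdφ : φ 1 = dφ) : n * dφ ≤ D := by
  have hcl : IsClassFunction G (Θ - (n : ℂ) • φ) :=
    isClassFunction_sub (isClassFunction_of_isCharacter hΘ)
      (isClassFunction_smul _ (isClassFunction_of_isCharacter (isCharacter_of_isIrrCharacter hφ)))
  have hch : IsCharacter G (Θ - (n : ℂ) • φ) := by
    apply Helper19.isCharacter_of_classInner_nat hcl
    intro χ hχ
    rw [classInner_sub_left, classInner_smul_left]
    by_cases h : φ = χ
    · subst h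
      rw [hn, classInner_irr_self hφ]
      exact ⟨0, by simp⟩
    · rw [classInner_irr_ne hφ hχ h, mul_zero, sub_zero]
      exact isCharacter_classInner_nat hΘ hχ
  obtain ⟨m, hm⟩ := isCharacter_apply_one hch
  rw [Pi.sub_apply, Pi.smul_apply, hD, hdφ, smul_eq_mul] at hm
  have : (D : ℂ) = ((m + n * dφ : ℕ) : ℂ) := by
    push_cast
    rw [← hm]
    ring
  have h2 : D = m + n * dφ := by exact_mod_cast this
  omega

variable (H L : Subgroup G) [Fintype L]

/-- value of an induced class function on a TI-subgroup -/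
theorem indFun_ti_apply (hTI : ∀ g : G, g ∉ L → ∀ u ∈ H, g * u * g⁻¹ ∈ H → u = 1)
    (α : L → ℂ) (hα : IsClassFunction L α) (hsupp : ∀ x : L, (x : G) ∉ H → α x = 0)
    (u : L) (hu : (u : G) ∈ H) (hu1 : u ≠ 1) : indFun L α (u : G) = α u := by
  classical
  rw [Helper19.indFun_apply]
  have key : ∀ x : G, extendByZero L α (x⁻¹ * u * x) = if x ∈ L then α u else 0 := by
    intro x
    split_ifs with hx
    · have e1 : x⁻¹ * u * x = (((⟨x, hx⟩ : L)⁻¹ * u * (⟨x, hx⟩ : L)⁻¹⁻¹ : L) : G) := by simp
      rw [e1, Helper19.extendByZero_coe]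
      exact hα u (⟨x, hx⟩ : L)⁻¹
    · by_cases hm : x⁻¹ * u * x ∈ L
      · rw [Helper19.extendByZero_of_mem _ _ hm]
        apply hsupp
        intro hH
        apply hu1
        have hx' : x⁻¹ ∉ L := fun h => hx (by simpa using L.inv_mem h)
        have := hTI x⁻¹ hx' u hu (by simpa using hH)
        exact Subtype.ext this
      · exact Helper19.extendByZero_of_not_mem _ _ hm
  simp_rw [key]
  rw [Finset.sum_ite, Finset.sum_const_zero, add_zero, Finset.sum_const, nsmul_eq_mul]
  have hc : (Finset.univ.filter (fun x : G => x ∈ L)).card = Nat.card L := by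
    rw [Nat.card_eq_fintype_card, Fintype.card_subtype]
  rw [hc, ← mul_assoc, inv_mul_cancel₀ (Helper19.card_ne_zero_complex L), one_mul]

/-- two functions agreeing on `H` minus the identity have almost the same inner product with a
function supported on `H` -/
theorem classInner_of_agree (ξ g₁ g₂ : L → ℂ) (hsupp : ∀ x : L, (x : G) ∉ H → ξ x = 0)
    (hag : ∀ x : L, (x : G) ∈ H → x ≠ 1 → g₁ x = g₂ x) :
    classInner ξ g₁ = classInner ξ g₂ + (Nat.card L : ℂ)⁻¹ * (ξ 1 * conj (g₁ 1 - g₂ 1)) := by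
  classical
  unfold classInner
  rw [← mul_add]
  congr 1
  have key : ∀ x : L, ξ x * conj (g₁ x) = ξ x * conj (g₂ x) +
      (if x = 1 then ξ 1 * conj (g₁ 1 - g₂ 1) else 0) := by
    intro x
    split_ifs with h1
    · subst h1
      rw [map_sub]
      ring
    · rw [add_zero]
      by_cases hx : (x : G) ∈ H
      · rw [hag x hx h1]
      · rw [hsupp x hx, zero_mul, zero_mul]
  simp_rw [key]
  rw [Finset.sum_add_distrib, Finset.sum_ite_eq' Finset.univ (1 : L), if_pos (Finset.mem_univ _)]

theorem norm_indFun_ti (hTI : ∀ g : G, g ∉ L → ∀ u ∈ H, g * u * g⁻¹ ∈ H → u = 1)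
    (ξ : L → ℂ) (hξ : IsIrrCharacter L ξ) (hsupp : ∀ x : L, (x : G) ∉ H → ξ x = 0) :
    classInner (indFun L ξ) (indFun L ξ) =
      1 + (Nat.card L : ℂ)⁻¹ * (ξ 1 * conj ((L.index : ℂ) * ξ 1 - ξ 1)) := by
  have hcl := isClassFunction_of_isCharacter (isCharacter_of_isIrrCharacter hξ)
  rw [Helper19.frobenius_reciprocity L ξ _ (Helper19.indFun_isClassFunction L ξ),
    classInner_of_agree H L ξ (fun x : L => indFun L ξ x) ξ hsupp
      (fun x hx hx1 => indFun_ti_apply H L hTI ξ hcl hsupp x hx hx1),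
    classInner_irr_self hξ]
  simp only [OneMemClass.coe_one]
  rw [Helper82.indFun_one]

/-- inner product of a non-principal irreducible character supported on `H` with a function
constant on `H` minus the identity -/
theorem classInner_const_on (ξ : L → ℂ) (hξ : IsIrrCharacter L ξ) (hξ1 : ξ ≠ fun _ => 1)
    (hsupp : ∀ x : L, (x : G) ∉ H → ξ x = 0) (f : L → ℂ) (κ : ℂ)
    (hf : ∀ x : L, (x : G) ∈ H → x ≠ 1 → f x = κ) :
    classInner ξ f = (Nat.card L : ℂ)⁻¹ * (ξ 1 * conj (f 1 - κ)) := by
  rw [classInner_of_agree H L ξ f (fun _ => κ) hsupp hf]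
  have h0 : classInner ξ (fun _ : L => κ) = 0 := by
    have e : (fun _ : L => κ) = κ • (fun _ : L => (1 : ℂ)) := by
      funext x
      simp
    rw [e, classInner_smul_right, classInner_irr_ne hξ Helper83.isIrr_trivial hξ1, mul_zero]
  rw [h0, zero_add]

end Basic

end Cfsg.Agent.Lib.Helper32
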