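import Cfsg.Agent.Lib.Helper32.Zas1

set_option autoImplicit false
open Cfsg

namespace Cfsg.Agent.Lib.Helper32

open Cfsg.Agent.Lib.Helper20
open scoped ComplexConjugate

section X0
variable {G : Type*} [Group G] [Fintype G] {L : Subgroup G} [Fintype L]

theorem x0_prop {S : Set (L → ℂ)} (hirr : ∀ ξ ∈ S, IsIrrCharacter L ξ)
    {τ₁ : (L → ℂ) → (G → ℂ)} (hτ₁ : IsLinearIsometryOn (zspan S) τ₁)
    (hext : ∀ α ∈ zspanOn S ({1}ᶜ : Set L), τ₁ α = indFun L α)
    {χ : G → ℂ} (hχ : IsClassFunction G χ) {ξ ξ' : L → ℂ} (hξ : ξ ∈ S) (hξ' : ξ' ∈ S) :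
    ξ' 1 * classInner (τ₁ ξ) χ - ξ 1 * classInner (τ₁ ξ') χ =
      ξ' 1 * classInner ξ (fun x : L => χ x) - ξ 1 * classInner ξ' (fun x : L => χ x) := by
  obtain ⟨n, -, hn⟩ := irr_apply_one (hirr ξ hξ)
  obtain ⟨m, -, hm⟩ := irr_apply_one (hirr ξ' hξ')
  have h := Helper5.star_reciprocity hτ₁ hext hξ hξ' (dχ := (n : ℤ)) (dξ := (m : ℤ))
    (by rw [hn]; simp) (by rw [hm]; simp) hχ
  rw [hn, hm]
  simpa using h

variable (K : Subgroup L) [hK : K.Normal]

/-- A character of `G` orthogonal to the images of all of `S` restricts to `K` as a multiple of the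
trivial character plus a multiple of the regular character. -/
theorem x0_restrict (hirr : ∀ ξ ∈ inducedIrrAbove K ⊥, IsIrrCharacter L ξ)
    {τ₁ : (L → ℂ) → (G → ℂ)} (hτ₁ : IsLinearIsometryOn (zspan (inducedIrrAbove K ⊥)) τ₁)
    (hext : ∀ α ∈ zspanOn (inducedIrrAbove K ⊥) ({1}ᶜ : Set L), τ₁ α = indFun L α)
    {χ : G → ℂ} (hχ : IsCharacter G χ) (h0 : ∀ ξ ∈ inducedIrrAbove K ⊥, classInner (τ₁ ξ) χ = 0)
    {ξ₁ : L → ℂ} (hξ₁ : ξ₁ ∈ inducedIrrAbove K ⊥) (hdeg : ξ₁ 1 = (K.index : ℂ)) {a : ℕ}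
    (ha : classInner ξ₁ (fun x : L => χ x) = a) :
    ∃ c' : ℕ, ∀ u : K, χ ((u : L) : G) =
      c' + a * ∑ θ ∈ irrAbove K ⊥, (θ : K → ℂ) 1 * (θ : K → ℂ) u := by
  classical
  haveI := Helper20.finite_irrCharacter (G := K)
  haveI := Fintype.ofFinite (IrrCharacter K)
  have hχL : IsCharacter L (fun x : L => χ x) := isCharacter_restrict hχ L
  have hχK : IsCharacter K (fun u : K => χ ((u : L) : G)) := isCharacter_restrict hχL K
  have hclG := isClassFunction_of_isCharacter hχ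
  have hclL := isClassFunction_of_isCharacter hχL
  have hclK := isClassFunction_of_isCharacter hχK
  obtain ⟨c', hc'⟩ := isCharacter_classInner_nat hχK (Helper83.isIrr_trivial (G := K))
  refine ⟨c', fun u => ?_⟩
  have hidx : (K.index : ℂ) ≠ 0 := by
    exact_mod_cast (Subgroup.index_ne_zero_of_finite (H := K))
  have hcoef : ∀ θ ∈ irrAbove K ⊥, classInner (fun u : K => χ ((u : L) : G)) (θ : K → ℂ) =
      a * (θ : K → ℂ) 1 := by
    intro θ hθ
    rw [mem_irrAbove] at hθ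
    have hmem : indFun K (θ : K → ℂ) ∈ inducedIrrAbove K ⊥ := ⟨θ, θ.2, hθ.1, hθ.2, rfl⟩
    have h1 := x0_prop hirr hτ₁ hext hclG hmem hξ₁
    rw [h0 _ hmem, h0 _ hξ₁, mul_zero, mul_zero, sub_zero, ha, hdeg, Helper82.indFun_one,
      Helper19.frobenius_reciprocity K _ _ hclL] at h1
    have h2 : classInner (θ : K → ℂ) (fun u : K => χ ((u : L) : G)) = (θ : K → ℂ) 1 * a := by
      have h3 := sub_eq_zero.1 h1.symm
      apply mul_left_cancel₀ hidx
      rw [h3]
      ring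
    obtain ⟨n, -, hn⟩ := irr_apply_one θ.2
    rw [← classInner_conj_symm, h2, hn]
    simp [mul_comm]
  have hexp := congrFun (eq_sum_classInner_smul hclK) u
  have huniv : (Finset.univ : Finset (IrrCharacter K)) =
      insert (⟨fun _ => 1, Helper83.isIrr_trivial⟩ : IrrCharacter K) (irrAbove K ⊥) := by
    ext θ
    simp only [Finset.mem_univ, Finset.mem_insert, mem_irrAbove, true_iff]
    by_cases h1 : (θ : K → ℂ) = fun _ => 1
    · left; exact Subtype.ext h1
    · right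
      refine ⟨h1, fun x hx => ?_⟩
      rw [Subgroup.mem_bot] at hx
      have : x = 1 := Subtype.ext hx
      rw [this]
  rw [huniv, Finset.sum_insert (by rw [mem_irrAbove]; exact fun h => h.1 rfl)] at hexp
  rw [hexp]
  simp only [Pi.add_apply, Pi.smul_apply, Finset.sum_apply, smul_eq_mul]
  rw [hc', mul_one, Finset.mul_sum]
  congr 1
  apply Finset.sum_congr rfl
  intro θ hθ
  rw [hcoef θ hθ]
  ring

end X0

end Cfsg.Agent.Lib.Helper32
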