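import Cfsg.Agent.Lib.Helper32.Zas2

set_option autoImplicit false
open Cfsg

namespace Cfsg.Agent.Lib.Helper32

open Cfsg.Agent.Lib.Helper20
open scoped ComplexConjugate

section Count
variable {G : Type*} [Group G] [Fintype G] (H : Subgroup G) {L : Subgroup G} [Fintype L]

/-- A class function constant on `H` minus the identity lies in the span of the characters
orthogonal to the images of `S`, together with one more function. -/
theorem const_mem_span (Sf : Finset (L → ℂ)) (hirr : ∀ ξ ∈ Sf, IsIrrCharacter L ξ)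
    (hne1 : ∀ ξ ∈ Sf, ξ ≠ fun _ => 1) (hsupp : ∀ ξ ∈ Sf, ∀ x : L, (x : G) ∉ H → ξ x = 0)
    {τ₁ : (L → ℂ) → (G → ℂ)} (hτ₁ : IsLinearIsometryOn (zspan (↑Sf : Set (L → ℂ))) τ₁)
    (hext : ∀ α ∈ zspanOn (↑Sf : Set (L → ℂ)) ({1}ᶜ : Set L), τ₁ α = indFun L α)
    {ξ₁ : L → ℂ} (hξ₁ : ξ₁ ∈ Sf)
    [Fintype {χ : IrrCharacter G // ∀ ξ ∈ Sf, classInner (τ₁ ξ) (χ : G → ℂ) = 0}]
    (f : G → ℂ) (hf : IsClassFunction G f) (κ : ℂ) (hκ : ∀ u ∈ H, u ≠ 1 → f u = κ) :
    f = (classInner f (τ₁ ξ₁) / ξ₁ 1) • (∑ ξ ∈ Sf, (ξ 1) • τ₁ ξ) +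
      ∑ χ : {χ : IrrCharacter G // ∀ ξ ∈ Sf, classInner (τ₁ ξ) (χ : G → ℂ) = 0},
        classInner f ((χ : IrrCharacter G) : G → ℂ) • ((χ : IrrCharacter G) : G → ℂ) := by
  classical
  have hirr' : ∀ ξ ∈ (↑Sf : Set (L → ℂ)), IsIrrCharacter L ξ := fun ξ hξ => hirr ξ hξ
  have hsig : ∀ ξ ∈ Sf, SignedIrr G (τ₁ ξ) := fun ξ hξ => iso_signedIrr hirr' hτ₁ hξ
  have hclτ : ∀ ξ ∈ Sf, IsClassFunction G (τ₁ ξ) := fun ξ hξ =>
    genChar_isClassFunction (hsig ξ hξ).genChar
  have hreal : ∀ ξ ∈ Sf, conj (ξ 1) = ξ 1 := by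
    intro ξ hξ
    obtain ⟨n, -, hn⟩ := irr_apply_one (hirr ξ hξ)
    rw [hn]; simp
  have hd1 : ξ₁ 1 ≠ 0 := by
    obtain ⟨n, hn0, hn⟩ := irr_apply_one (hirr ξ₁ hξ₁)
    rw [hn]; exact_mod_cast hn0.ne'
  -- proportionality
  have hprop : ∀ ξ ∈ Sf, classInner f (τ₁ ξ) = (classInner f (τ₁ ξ₁) / ξ₁ 1) * ξ 1 := by
    intro ξ hξ
    have h1 := x0_prop hirr' hτ₁ hext hf (ξ := ξ) (ξ' := ξ₁) hξ hξ₁
    rw [classInner_const_on H L ξ (hirr ξ hξ) (hne1 ξ hξ) (hsupp ξ hξ) (fun x : L => f x) κ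
        (fun x hx hx1 => hκ x hx (fun h => hx1 (Subtype.ext h))),
      classInner_const_on H L ξ₁ (hirr ξ₁ hξ₁) (hne1 ξ₁ hξ₁) (hsupp ξ₁ hξ₁) (fun x : L => f x) κ
        (fun x hx hx1 => hκ x hx (fun h => hx1 (Subtype.ext h)))] at h1
    have h2 : ξ₁ 1 * classInner (τ₁ ξ) f = ξ 1 * classInner (τ₁ ξ₁) f := by
      rw [← sub_eq_zero, h1]; ring
    have h3 := congrArg conj h2
    rw [map_mul, map_mul, classInner_conj_symm, classInner_conj_symm, hreal ξ hξ,
      hreal ξ₁ hξ₁] at h3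
    field_simp
    rw [mul_comm, h3, mul_comm]
  rw [← sub_eq_zero]
  apply eq_zero_of_orthogonal
  · apply isClassFunction_sub hf
    apply isClassFunction_add
    · apply isClassFunction_smul
      apply isClassFunction_sum
      intro ξ hξ
      exact isClassFunction_smul _ (hclτ ξ hξ)
    · apply isClassFunction_sum
      intro χ _
      exact isClassFunction_smul _
        (isClassFunction_of_isCharacter (isCharacter_of_isIrrCharacter χ.1.2))
  · intro φ hφ
    rw [classInner_sub_left, classInner_add_left, classInner_smul_left, classInner_sum_left,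
      classInner_sum_left]
    simp only [classInner_smul_left]
    by_cases hX : ∀ ξ ∈ Sf, classInner (τ₁ ξ) φ = 0
    · rw [Finset.sum_eq_zero (fun ξ hξ => by rw [hX ξ hξ, mul_zero]), mul_zero, zero_add,
        Finset.sum_eq_single (⟨⟨φ, hφ⟩, hX⟩ :
          {χ : IrrCharacter G // ∀ ξ ∈ Sf, classInner (τ₁ ξ) (χ : G → ℂ) = 0})]
      · rw [classInner_irr_self hφ, mul_one, sub_self]
      · intro χ _ hne
        rw [classInner_irr_ne χ.1.2 hφ (fun h => hne (Subtype.ext (Subtype.ext h))), mul_zero]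
      · intro h; exact absurd (Finset.mem_univ _) h
    · push Not at hX
      obtain ⟨ξ₀, hξ₀, hne⟩ := hX
      rcases (hsig ξ₀ hξ₀).cases (Or.inl hφ : SignedIrr G φ) with h | ⟨s, hs, hsφ⟩
      · exact absurd h hne
      have hs2 : (s : ℂ) * s = 1 := by
        rcases hs with rfl | rfl <;> norm_num
      have hφeq : φ = (s : ℂ) • τ₁ ξ₀ := by
        rw [hsφ, smul_smul, hs2, one_smul]
      have hsc : conj (s : ℂ) = s := Complex.conj_ofReal s
      have e1 : ∑ ξ ∈ Sf, ξ 1 * classInner (τ₁ ξ) φ = ξ₀ 1 * s := by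
        rw [Finset.sum_eq_single ξ₀]
        · rw [hφeq, classInner_smul_right, (hsig ξ₀ hξ₀).inner_self, hsc, mul_one]
        · intro ξ hξ hne'
          rw [hφeq, classInner_smul_right, iso_inner_irr hirr' hτ₁ hξ hξ₀ hne', mul_zero, mul_zero]
        · intro h; exact absurd hξ₀ h
      have e2 : ∑ χ : {χ : IrrCharacter G // ∀ ξ ∈ Sf, classInner (τ₁ ξ) (χ : G → ℂ) = 0},
          classInner f ((χ : IrrCharacter G) : G → ℂ) * classInner ((χ : IrrCharacter G) : G → ℂ) φ
          = 0 := by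
        apply Finset.sum_eq_zero
        intro χ _
        rw [classInner_irr_ne χ.1.2 hφ, mul_zero]
        intro h
        apply hne
        rw [← h]
        exact χ.2 ξ₀ hξ₀
      rw [e1, e2, add_zero]
      conv_lhs => lhs; rw [hφeq]
      rw [classInner_smul_right, hsc, hprop ξ₀ hξ₀]
      ring

/-- there are at least `c + 1` irreducible characters orthogonal to the images of `S`, where `c` is
the number of classes not meeting `H` -/
theorem card_x0_ge (Sf : Finset (L → ℂ)) (hirr : ∀ ξ ∈ Sf, IsIrrCharacter L ξ)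
    (hne1 : ∀ ξ ∈ Sf, ξ ≠ fun _ => 1) (hsupp : ∀ ξ ∈ Sf, ∀ x : L, (x : G) ∉ H → ξ x = 0)
    {τ₁ : (L → ℂ) → (G → ℂ)} (hτ₁ : IsLinearIsometryOn (zspan (↑Sf : Set (L → ℂ))) τ₁)
    (hext : ∀ α ∈ zspanOn (↑Sf : Set (L → ℂ)) ({1}ᶜ : Set L), τ₁ α = indFun L α)
    {ξ₁ : L → ℂ} (hξ₁ : ξ₁ ∈ Sf) {u₀ : G} (hu₀ : u₀ ∈ H) (hu₀1 : u₀ ≠ 1) :
    Nat.card {C : ConjClasses G // ∀ g : G, ConjClasses.mk g = C → g ∉ H} + 1 ≤
      Nat.card {χ : IrrCharacter G // ∀ ξ ∈ Sf, classInner (τ₁ ξ) (χ : G → ℂ) = 0} := by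
  classical
  haveI := finite_irrCharacter (G := G)
  haveI := Fintype.ofFinite (IrrCharacter G)
  haveI := Fintype.ofFinite {χ : IrrCharacter G // ∀ ξ ∈ Sf, classInner (τ₁ ξ) (χ : G → ℂ) = 0}
  haveI := Fintype.ofFinite {C : ConjClasses G // ∀ g : G, ConjClasses.mk g = C → g ∉ H}
  let v : Option (Option {C : ConjClasses G // ∀ g : G, ConjClasses.mk g = C → g ∉ H}) → (G → ℂ) :=
    fun i => match i with
      | none => fun _ => 1
      | some none => fun g => if g = 1 then 1 else 0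
      | some (some C) => fun g => if ConjClasses.mk g = C.1 then 1 else 0
  have hv : ∀ i, IsClassFunction G (v i) ∧ ∃ κ : ℂ, ∀ u ∈ H, u ≠ 1 → v i u = κ := by
    intro i
    match i with
    | none => exact ⟨fun _ _ => rfl, 1, fun _ _ _ => rfl⟩
    | some none =>
      refine ⟨fun g x => ?_, 0, fun u _ hu1 => if_neg hu1⟩
      show (if x * g * x⁻¹ = 1 then (1 : ℂ) else 0) = if g = 1 then 1 else 0
      have : x * g * x⁻¹ = 1 ↔ g = 1 := by
        constructor
        · intro h
          have : g = x⁻¹ * (x * g * x⁻¹) * x := by group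
          rw [this, h]; group
        · rintro rfl; group
      simp only [this]
    | some (some C) =>
      refine ⟨fun g x => ?_, 0, fun u hu _ => if_neg (fun h => C.2 u h hu)⟩
      show (if ConjClasses.mk (x * g * x⁻¹) = C.1 then (1 : ℂ) else 0) =
        if ConjClasses.mk g = C.1 then 1 else 0
      have : ConjClasses.mk (x * g * x⁻¹) = ConjClasses.mk g := by
        rw [ConjClasses.mk_eq_mk_iff_isConj]
        exact (isConj_iff.2 ⟨x, rfl⟩).symm
      rw [this]
  have hli : LinearIndependent ℂ v := by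
    rw [Fintype.linearIndependent_iff]
    intro c hc
    rw [Fintype.sum_option, Fintype.sum_option] at hc
    have h1 := congrFun hc u₀
    simp only [Pi.add_apply, Pi.smul_apply, Finset.sum_apply, smul_eq_mul, Pi.zero_apply] at h1
    have z1 : v (some none) u₀ = 0 := if_neg hu₀1
    have z2 : ∀ C, v (some (some C)) u₀ = 0 := fun C => if_neg (fun h => C.2 u₀ h hu₀)
    have z3 : v none u₀ = 1 := rfl
    rw [z1, z3, Finset.sum_eq_zero (fun C _ => by rw [z2 C, mul_zero])] at h1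
    have c0 : c none = 0 := by simpa using h1
    have h2 := congrFun hc 1
    simp only [Pi.add_apply, Pi.smul_apply, Finset.sum_apply, smul_eq_mul, Pi.zero_apply] at h2
    have y1 : v (some none) 1 = 1 := if_pos rfl
    have y2 : ∀ C, v (some (some C)) 1 = 0 := fun C => if_neg (fun h => C.2 1 h H.one_mem)
    rw [y1, c0, Finset.sum_eq_zero (fun C _ => by rw [y2 C, mul_zero])] at h2
    have c1 : c (some none) = 0 := by simpa using h2
    intro i
    match i with
    | none => exact c0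
    | some none => exact c1
    | some (some C) =>
      obtain ⟨g₀, hg₀⟩ := ConjClasses.mk_surjective C.1
      have h3 := congrFun hc g₀
      simp only [Pi.add_apply, Pi.smul_apply, Finset.sum_apply, smul_eq_mul, Pi.zero_apply] at h3
      rw [c0, c1, zero_mul, zero_mul, zero_add, zero_add, Finset.sum_eq_single C] at h3
      · have : v (some (some C)) g₀ = 1 := if_pos hg₀
        rw [this, mul_one] at h3
        exact h3
      · intro C' _ hne
        have : v (some (some C')) g₀ = 0 := if_neg (fun h => hne (Subtype.ext (h.symm.trans hg₀)))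
        rw [this, mul_zero]
      · intro h; exact absurd (Finset.mem_univ _) h
  let w : Finset (G → ℂ) := insert (∑ ξ ∈ Sf, (ξ 1) • τ₁ ξ)
    (Finset.univ.image (fun χ : {χ : IrrCharacter G // ∀ ξ ∈ Sf, classInner (τ₁ ξ) (χ : G → ℂ) = 0}
      => ((χ : IrrCharacter G) : G → ℂ)))
  have hspan : Set.range v ≤ Submodule.span ℂ (↑w : Set (G → ℂ)) := by
    rintro _ ⟨i, rfl⟩
    obtain ⟨hcl, κ, hκ⟩ := hv i
    rw [const_mem_span H Sf hirr hne1 hsupp hτ₁ hext hξ₁ (v i) hcl κ hκ]
    apply Submodule.add_mem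
    · apply Submodule.smul_mem
      apply Submodule.subset_span
      exact Finset.mem_coe.2 (Finset.mem_insert_self _ _)
    · apply Submodule.sum_mem
      intro χ _
      apply Submodule.smul_mem
      apply Submodule.subset_span
      exact Finset.mem_coe.2 (Finset.mem_insert_of_mem (Finset.mem_image_of_mem _ (Finset.mem_univ _)))
  have hle := linearIndependent_le_span_aux' v hli (↑w : Set (G → ℂ)) hspan
  rw [Fintype.card_option, Fintype.card_option] at hle
  have hcw : Fintype.card (↑(↑w : Set (G → ℂ))) = w.card := by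
    simp
  rw [hcw] at hle
  have hw : w.card ≤ Fintype.card
      {χ : IrrCharacter G // ∀ ξ ∈ Sf, classInner (τ₁ ξ) (χ : G → ℂ) = 0} + 1 := by
    refine (Finset.card_insert_le _ _).trans ?_
    apply Nat.add_le_add_right
    exact Finset.card_image_le.trans (by rw [Finset.card_univ])
  rw [Nat.card_eq_fintype_card, Nat.card_eq_fintype_card]
  omega

end Count

end Cfsg.Agent.Lib.Helper32
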