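import Mathlib

set_option autoImplicit false

namespace Cfsg.Agent.Lib.Helper32

theorem zass_arith {ι : Type*} [Fintype ι] [DecidableEq ι] (a deg : ι → ℕ) (X₁ : Finset ι)
    (h e : ℕ) (h3 : 3 * e ≤ h - 1) (he1 : 1 < e)
    (A1 : ∑ χ, a χ ^ 2 = e + 1) (A2 : ∑ χ, a χ * deg χ = (h + 1) * e)
    (A3 : ∑ χ, deg χ ^ 2 = (h + 1) * h * e)
    (hr : e ≤ X₁.card) (ha : ∀ χ ∈ X₁, 1 ≤ a χ) (hdeg : ∀ χ ∈ X₁, a χ = 1 → h ≤ deg χ)
    (hB1 : ∀ χ₀ ∉ X₁, a χ₀ = 1 → e ≤ deg χ₀)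
    (hB2 : ∀ χ₀ ∉ X₁, a χ₀ = 1 → deg χ₀ = e → ∑ χ ∈ X₁ᶜ, deg χ ^ 2 ≤ 1 + e * (h - 1)) : False := by
  rw [← Finset.sum_add_sum_compl X₁] at A1 A2 A3
  -- all multiplicities on X₁ are one
  have hsum1 : X₁.card ≤ ∑ χ ∈ X₁, a χ ^ 2 := by
    rw [Finset.card_eq_sum_ones]
    apply Finset.sum_le_sum
    intro χ hχ
    exact Nat.one_le_pow _ _ (ha χ hχ)
  have hone : ∀ χ ∈ X₁, a χ = 1 := by
    intro χ₂ hχ₂
    by_contra hne
    have h2 : 2 ≤ a χ₂ := by have := ha χ₂ hχ₂; omega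
    have h4 : X₁.card + 3 ≤ ∑ χ ∈ X₁, a χ ^ 2 := by
      rw [← Finset.add_sum_erase X₁ _ hχ₂]
      have h5 : (X₁.erase χ₂).card ≤ ∑ χ ∈ X₁.erase χ₂, a χ ^ 2 := by
        rw [Finset.card_eq_sum_ones]
        apply Finset.sum_le_sum
        intro χ hχ
        exact Nat.one_le_pow _ _ (ha χ (Finset.mem_of_mem_erase hχ))
      rw [Finset.card_erase_of_mem hχ₂] at h5
      have h6 : 4 ≤ a χ₂ ^ 2 := by nlinarith
      have h7 : 0 < X₁.card := Finset.card_pos.2 ⟨χ₂, hχ₂⟩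
      omega
    omega
  have hs1 : ∑ χ ∈ X₁, a χ ^ 2 = X₁.card := by
    rw [Finset.card_eq_sum_ones]
    apply Finset.sum_congr rfl
    intro χ hχ
    rw [hone χ hχ, one_pow]
  have hs2 : ∑ χ ∈ X₁, a χ * deg χ = ∑ χ ∈ X₁, deg χ := by
    apply Finset.sum_congr rfl
    intro χ hχ
    rw [hone χ hχ, one_mul]
  have hs3 : X₁.card * h ≤ ∑ χ ∈ X₁, deg χ := by
    rw [← smul_eq_mul, ← Finset.sum_const]
    apply Finset.sum_le_sum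
    intro χ hχ
    exact hdeg χ hχ (hone χ hχ)
  rw [hs1] at A1
  rw [hs2] at A2
  have hh : 3 * e + 1 ≤ h := by omega
  have hcard : X₁.card = e := by
    by_contra hne
    have h5 : e + 1 ≤ X₁.card := by omega
    have h6 : (e + 1) * h ≤ (h + 1) * e := by
      calc (e + 1) * h ≤ X₁.card * h := Nat.mul_le_mul_right _ h5
        _ ≤ ∑ χ ∈ X₁, deg χ := hs3
        _ ≤ _ := by rw [← A2]; exact Nat.le_add_right _ _
    nlinarith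
  rw [hcard] at A1 hs3
  have hc1 : ∑ χ ∈ X₁ᶜ, a χ ^ 2 = 1 := by omega
  obtain ⟨χ₀, hχ₀, hne0⟩ : ∃ χ₀ ∈ X₁ᶜ, a χ₀ ^ 2 ≠ 0 := by
    by_contra hcon
    push Not at hcon
    rw [Finset.sum_eq_zero hcon] at hc1
    omega
  rw [← Finset.add_sum_erase _ _ hχ₀] at hc1
  have ha0 : a χ₀ = 1 := by
    have h5 : a χ₀ ^ 2 ≤ 1 := by omega
    have h6 : a χ₀ ≠ 0 := by
      intro h; apply hne0; rw [h]; rfl
    have h7 : a χ₀ < 2 := by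
      by_contra h8
      have h9 : 2 ≤ a χ₀ := by omega
      nlinarith
    omega
  have hrest : ∀ χ ∈ X₁ᶜ.erase χ₀, a χ = 0 := by
    have h5 : ∑ χ ∈ X₁ᶜ.erase χ₀, a χ ^ 2 = 0 := by
      rw [ha0] at hc1; omega
    intro χ hχ
    have := (Finset.sum_eq_zero_iff.1 h5) χ hχ
    exact pow_eq_zero_iff (two_ne_zero) |>.1 this
  have hχ₀' : χ₀ ∉ X₁ := Finset.mem_compl.1 hχ₀
  have hs4 : ∑ χ ∈ X₁ᶜ, a χ * deg χ = deg χ₀ := by
    rw [← Finset.add_sum_erase _ _ hχ₀, ha0, one_mul, Finset.sum_eq_zero, add_zero]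
    intro χ hχ
    rw [hrest χ hχ, zero_mul]
  rw [hs4] at A2
  have hge := hB1 χ₀ hχ₀' ha0
  have hd0 : deg χ₀ = e := by nlinarith
  have hsumdeg : ∑ χ ∈ X₁, deg χ = e * h := by
    rw [hd0] at A2; nlinarith
  have hall : ∀ χ ∈ X₁, h = deg χ := by
    apply (Finset.sum_eq_sum_iff_of_le (fun χ hχ => hdeg χ hχ (hone χ hχ))).1
    rw [Finset.sum_const, hcard, smul_eq_mul, hsumdeg]
  have hsq : ∑ χ ∈ X₁, deg χ ^ 2 = e * h ^ 2 := by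
    rw [← hcard, ← smul_eq_mul, ← Finset.sum_const]
    apply Finset.sum_congr rfl
    intro χ hχ
    rw [← hall χ hχ]
  have hb := hB2 χ₀ hχ₀' ha0 hd0
  rw [hsq] at A3
  obtain ⟨h', rfl⟩ : ∃ h', h = h' + 1 := ⟨h - 1, by omega⟩
  simp only [Nat.add_sub_cancel] at hb
  nlinarith

end Cfsg.Agent.Lib.Helper32
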