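import Cfsg.Agent.Lib.Helper32.Zas3
import Cfsg.Agent.Lib.Helper32.Zas4
import Cfsg.Agent.Lib.Helper82.Codegree

set_option autoImplicit false
open Cfsg

namespace Cfsg.Agent.Lib.Helper32

open Cfsg.Agent.Lib.Helper20
open scoped ComplexConjugate

theorem not_dvd_aux {h e : ℕ} (h3 : 3 * e ≤ h - 1) (he1 : 1 < e) : ¬ (h - 1) ∣ (h + 1) * h * e := by
  intro hd
  obtain ⟨k, rfl⟩ : ∃ k, h = k + 1 := ⟨h - 1, by omega⟩
  simp only [Nat.add_sub_cancel] at hd h3
  have hc : Nat.Coprime k (k + 1) := by simp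
  have e1 : (k + 1 + 1) * (k + 1) * e = (k + 1) * ((k + 2) * e) := by ring
  rw [e1] at hd
  have h4 : k ∣ (k + 2) * e := hc.dvd_of_dvd_mul_left hd
  have e2 : (k + 2) * e = k * e + 2 * e := by ring
  rw [e2] at h4
  have h5 : k ∣ 2 * e := (Nat.dvd_add_right (Dvd.intro _ rfl)).1 h4
  have := Nat.le_of_dvd (by omega) h5
  omega

set_option maxHeartbeats 1000000 in
/-- The character-theoretic core of Feit's theorem on Zassenhaus groups. -/
theorem feit_zass_abstract {G : Type*} [Group G] [Fintype G] (H L : Subgroup G) [Fintype L]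
    [hKn : (H.subgroupOf L).Normal] (hHL : H ≤ L)
    (hC' : ∀ k ∈ H.subgroupOf L, k ≠ 1 → Subgroup.centralizer ({k} : Set L) ≤ H.subgroupOf L)
    (hTI : ∀ g : G, g ∉ L → ∀ u ∈ H, g * u * g⁻¹ ∈ H → u = 1)
    (hsolv : Group.IsSolvable (H.subgroupOf L))
    (h e : ℕ) (hh : Nat.card H = h) (he : (H.subgroupOf L).index = e)
    (hG : Nat.card G = (h + 1) * h * e) (h3 : 3 * e ≤ h - 1) (he1 : 1 < e)
    (hcoh : IsCoherent (inducedIrrAbove (H.subgroupOf L) ⊥) {1}ᶜ (fun α : L → ℂ => indFun L α))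
    (hfaith : ∀ χ : G → ℂ, IsIrrCharacter G χ → (∀ u ∈ H, χ u = χ 1) → χ = fun _ => 1)
    (hcl : e ≤ Nat.card {C : ConjClasses G // ∀ g : G, ConjClasses.mk g = C → g ∉ H}) : False := by
  classical
  haveI := finite_irrCharacter (G := G)
  haveI := Fintype.ofFinite (IrrCharacter G)
  have hset := frob_set_eq (H.subgroupOf L) hC'
  have hirr : ∀ ξ ∈ inducedIrrAbove (H.subgroupOf L) ⊥, IsIrrCharacter L ξ := by
    intro ξ hξ
    rw [hset] at hξ
    exact hξ.1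
  have hne1 : ∀ ξ ∈ inducedIrrAbove (H.subgroupOf L) ⊥, ξ ≠ fun _ => 1 := by
    intro ξ hξ h
    rw [hset] at hξ
    obtain ⟨_, k, _, hk⟩ := hξ
    apply hk
    rw [h]
  have hsupp : ∀ ξ ∈ inducedIrrAbove (H.subgroupOf L) ⊥, ∀ x : L, (x : G) ∉ H → ξ x = 0 := by
    rintro ξ ⟨θ, _, _, _, rfl⟩ x hx
    exact indFun_normal_eq_zero (H.subgroupOf L) θ hx
  obtain ⟨-, τ₁, hτ₁, hext⟩ := hcoh
  have hcardK : Nat.card (H.subgroupOf L) = h := by
    rw [← hh]
    exact Nat.card_congr (Subgroup.subgroupOfEquivOfLe hHL).toEquiv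
  have hK1 : H.subgroupOf L ≠ ⊥ := by
    intro h0
    rw [h0, Subgroup.card_bot] at hcardK
    omega
  obtain ⟨ξ₁, hξ₁, hdeg⟩ := exists_linear_above (H.subgroupOf L) hsolv ⊥ (bot_lt_iff_ne_bot.2 hK1)
  have hcardL : Nat.card L = h * e := by
    rw [← (H.subgroupOf L).card_mul_index, hcardK, he]
  have hidxL : L.index = h + 1 := by
    have h1 := L.card_mul_index
    rw [hcardL, hG] at h1
    have h2 : 0 < h * e := by
      apply Nat.mul_pos <;> omega
    apply Nat.eq_of_mul_eq_mul_left h2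
    rw [h1]; ring
  obtain ⟨u₀, hu₀, hu₀1⟩ : ∃ u₀ ∈ H, u₀ ≠ 1 := by
    obtain ⟨k, hk⟩ := Subgroup.ne_bot_iff_exists_ne_one.1 hK1
    exact ⟨(k : L), k.2, fun h => hk (Subtype.ext (Subtype.ext h))⟩
  have hmemS : ∀ ξ, ξ ∈ indAbove (H.subgroupOf L) ⊥ ↔ ξ ∈ inducedIrrAbove (H.subgroupOf L) ⊥ :=
    fun ξ => mem_indAbove (H.subgroupOf L)
  -- the count of nonexceptional characters
  have hcount := card_x0_ge H (indAbove (H.subgroupOf L) ⊥) (fun ξ hξ => hirr ξ ((hmemS ξ).1 hξ))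
    (fun ξ hξ => hne1 ξ ((hmemS ξ).1 hξ)) (fun ξ hξ => hsupp ξ ((hmemS ξ).1 hξ)) (τ₁ := τ₁)
    (by rw [coe_indAbove]; exact hτ₁) (by rw [coe_indAbove]; exact hext) ((hmemS ξ₁).2 hξ₁) hu₀ hu₀1
  -- the induced character
  have hψ : IsCharacter G (indFun L ξ₁) :=
    Helper19.isCharacter_indFun L ξ₁ (isCharacter_of_isIrrCharacter (hirr ξ₁ hξ₁))
  have hnorm : classInner (indFun L ξ₁) (indFun L ξ₁) = ((e + 1 : ℕ) : ℂ) := by
    rw [norm_indFun_ti H L hTI ξ₁ (hirr ξ₁ hξ₁) (hsupp ξ₁ hξ₁), hdeg, he, hidxL, hcardL]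
    have h1 : (h : ℂ) ≠ 0 := by
      have : h ≠ 0 := by omega
      exact_mod_cast this
    have h2 : (e : ℂ) ≠ 0 := by
      have : e ≠ 0 := by omega
      exact_mod_cast this
    simp only [map_sub, map_mul, map_natCast]
    push_cast
    field_simp
    ring
  have hex : ∀ χ : IrrCharacter G, ∃ n : ℕ, classInner (indFun L ξ₁) (χ : G → ℂ) = n :=
    fun χ => isCharacter_classInner_nat hψ χ.2
  choose a ha using hex
  have haZ : ∀ χ : IrrCharacter G, classInner (indFun L ξ₁) (χ : G → ℂ) = ((a χ : ℤ) : ℂ) := by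
    intro χ; rw [ha]; simp
  have hclχ : ∀ χ : IrrCharacter G, IsClassFunction G (χ : G → ℂ) := fun χ =>
    isClassFunction_of_isCharacter (isCharacter_of_isIrrCharacter χ.2)
  have haL : ∀ χ : IrrCharacter G, classInner ξ₁ (fun x : L => (χ : G → ℂ) x) = a χ := by
    intro χ
    rw [← Helper19.frobenius_reciprocity L ξ₁ _ (hclχ χ), ha]
  have hdegχ : ∀ χ : IrrCharacter G, (χ : G → ℂ) 1 = (charDegree (χ : G → ℂ) : ℂ) := fun χ =>
    Helper82.isChar_one_eq (isCharacter_of_isIrrCharacter χ.2)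
  have A1 : ∑ χ : IrrCharacter G, a χ ^ 2 = e + 1 := by
    have h1 := genChar_norm (genChar_of_char hψ) haZ
    rw [hnorm] at h1
    have h2 : ((e + 1 : ℕ) : ℂ) = ((∑ χ : IrrCharacter G, a χ ^ 2 : ℕ) : ℂ) := by
      rw [h1]; push_cast; rfl
    exact_mod_cast h2.symm
  have A2 : ∑ χ : IrrCharacter G, a χ * charDegree (χ : G → ℂ) = (h + 1) * e := by
    have h1 := congrFun (genChar_expand (genChar_of_char hψ) haZ) 1
    rw [Helper82.indFun_one, hidxL, hdeg, he] at h1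
    simp only [Finset.sum_apply, Pi.smul_apply, smul_eq_mul, hdegχ] at h1
    have h2 : (((h + 1) * e : ℕ) : ℂ) =
        ((∑ χ : IrrCharacter G, a χ * charDegree (χ : G → ℂ) : ℕ) : ℂ) := by
      push_cast
      push_cast at h1
      exact h1
    exact_mod_cast h2.symm
  have A3 : ∑ χ : IrrCharacter G, charDegree (χ : G → ℂ) ^ 2 = (h + 1) * h * e := by
    have h1 := Cfsg.Agent.S0134.result (G := G)
    rw [finsum_eq_sum_of_fintype, hG] at h1
    simp only [hdegχ] at h1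
    exact_mod_cast h1
  -- the trivial character
  let triv : IrrCharacter G := ⟨fun _ => 1, Helper83.isIrr_trivial⟩
  have hatriv : a triv = 0 := by
    have h1 := haL triv
    have h2 : classInner ξ₁ (fun _ : L => (1 : ℂ)) = 0 :=
      classInner_irr_ne (hirr ξ₁ hξ₁) Helper83.isIrr_trivial (hne1 ξ₁ hξ₁)
    have h3 : classInner ξ₁ (fun x : L => (triv : G → ℂ) x) = 0 := h2
    rw [h3] at h1
    exact_mod_cast h1.symm
  -- X₁
  let X₁ : Finset (IrrCharacter G) := Finset.univ.filter (fun χ =>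
    (∀ ξ ∈ indAbove (H.subgroupOf L) ⊥, classInner (τ₁ ξ) (χ : G → ℂ) = 0) ∧
      (χ : G → ℂ) ≠ fun _ => 1)
  have hX₁ : ∀ χ, χ ∈ X₁ ↔ (∀ ξ ∈ indAbove (H.subgroupOf L) ⊥, classInner (τ₁ ξ) (χ : G → ℂ) = 0) ∧
      (χ : G → ℂ) ≠ fun _ => 1 := by
    intro χ
    simp only [X₁, Finset.mem_filter, Finset.mem_univ, true_and]
  have hr : e ≤ X₁.card := by
    rw [Nat.card_eq_fintype_card (α := {χ : IrrCharacter G // _}), Fintype.card_subtype] at hcount
    have hsub : Finset.univ.filter (fun χ : IrrCharacter G =>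
        ∀ ξ ∈ indAbove (H.subgroupOf L) ⊥, classInner (τ₁ ξ) (χ : G → ℂ) = 0) ⊆ insert triv X₁ := by
      intro χ hχ
      rw [Finset.mem_filter] at hχ
      rw [Finset.mem_insert, hX₁]
      by_cases h1 : (χ : G → ℂ) = fun _ => 1
      · left; exact Subtype.ext h1
      · right; exact ⟨hχ.2, h1⟩
    have h1 := (Finset.card_le_card hsub).trans (Finset.card_insert_le _ _)
    omega
  have hsumθ : ∑ θ ∈ irrAbove (H.subgroupOf L) ⊥, (θ : H.subgroupOf L → ℂ) 1 *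
      (θ : H.subgroupOf L → ℂ) 1 = (h : ℂ) - 1 := by
    have h1 := sum_irrAbove_sq (H.subgroupOf L) ⊥
    rw [Subgroup.relIndex_bot_left, hcardK] at h1
    rw [← h1]
    apply Finset.sum_congr rfl
    intro θ _
    ring
  have hstruct : ∀ χ ∈ X₁, ∃ c' : ℕ, charDegree (χ : G → ℂ) + a χ = c' + a χ * h ∧
      (a χ = 0 → False) := by
    intro χ hχ
    rw [hX₁] at hχ
    obtain ⟨c', hc'⟩ := x0_restrict (H.subgroupOf L) hirr hτ₁ hext
      (isCharacter_of_isIrrCharacter χ.2) (fun ξ hξ => hχ.1 ξ ((hmemS ξ).2 hξ)) hξ₁ hdeg (haL χ)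
    refine ⟨c', ?_, ?_⟩
    · have h1 := hc' 1
      rw [hsumθ] at h1
      simp only [OneMemClass.coe_one] at h1
      rw [hdegχ] at h1
      have h2 : ((charDegree (χ : G → ℂ) + a χ : ℕ) : ℂ) = ((c' + a χ * h : ℕ) : ℂ) := by
        push_cast
        rw [h1]
        ring
      exact_mod_cast h2
    · intro h0
      apply hχ.2
      apply hfaith _ χ.2
      intro u hu
      have h1 := hc' ⟨⟨u, hHL hu⟩, hu⟩
      have h2 := hc' 1
      rw [h0] at h1 h2
      simp only [Nat.cast_zero, zero_mul, add_zero, OneMemClass.coe_one] at h1 h2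
      rw [h2]
      exact h1
  apply zass_arith a (fun χ => charDegree (χ : G → ℂ)) X₁ h e h3 he1 A1 A2 A3 hr
  · intro χ hχ
    obtain ⟨c', -, h0⟩ := hstruct χ hχ
    by_contra hlt
    exact h0 (by omega)
  · intro χ hχ ha1
    obtain ⟨c', h1, -⟩ := hstruct χ hχ
    rw [ha1] at h1
    by_contra hlt
    have h2 : charDegree (χ : G → ℂ) = h - 1 := by omega
    have h4 := Helper82.isIrr_charDegree_dvd_card χ.2
    rw [h2, hG] at h4
    exact not_dvd_aux h3 he1 h4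
  · intro χ₀ _ ha1
    have h1 := haL χ₀
    rw [ha1] at h1
    apply (one_mul e) ▸ char_degree_ge (isCharacter_restrict (isCharacter_of_isIrrCharacter χ₀.2) L)
      (hirr ξ₁ hξ₁) (n := 1) (D := charDegree (χ₀ : G → ℂ)) (dφ := e) ?_ ?_ ?_
    · rw [← classInner_conj_symm, h1]; simp
    · simp only [OneMemClass.coe_one]; exact hdegχ χ₀
    · rw [hdeg, he]
  · intro χ₀ hχ₀ ha1 hd0
    have h0 : ∀ α ∈ zspan (inducedIrrAbove (H.subgroupOf L) ⊥), α 1 = 0 → τ₁ α 1 = 0 := by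
      intro α hα hα1
      have hmem : α ∈ zspanOn (inducedIrrAbove (H.subgroupOf L) ⊥) ({1}ᶜ : Set L) := by
        rw [mem_zspanOn_one]; exact ⟨hα, hα1⟩
      rw [hext α hmem]
      show indFun L α 1 = 0
      rw [Helper82.indFun_one, hα1, mul_zero]
    obtain ⟨ε, hε, hΛ⟩ := exists_uniform_sign hirr hτ₁ h0
    have hε0 : ε ≠ 0 := by rcases hε with rfl | rfl <;> norm_num
    let Λ : (L → ℂ) → IrrCharacter G := fun ξ =>
      if hξ : ξ ∈ inducedIrrAbove (H.subgroupOf L) ⊥ then ⟨ε • τ₁ ξ, hΛ ξ hξ⟩ else triv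
    have hΛv : ∀ ξ ∈ inducedIrrAbove (H.subgroupOf L) ⊥, ((Λ ξ : IrrCharacter G) : G → ℂ) = ε • τ₁ ξ := by
      intro ξ hξ
      simp only [Λ, dif_pos hξ]
    have hnotP : ∀ χ : IrrCharacter G, χ ∉ X₁ → χ ≠ triv →
        ∃ ξ ∈ inducedIrrAbove (H.subgroupOf L) ⊥, χ = Λ ξ := by
      intro χ hχ hne
      rw [hX₁] at hχ
      push Not at hχ
      by_cases hP : ∀ ξ ∈ indAbove (H.subgroupOf L) ⊥, classInner (τ₁ ξ) (χ : G → ℂ) = 0
      · exact absurd (Subtype.ext (hχ hP)) hne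
      · push Not at hP
        obtain ⟨ξ, hξ, hne'⟩ := hP
        rw [hmemS] at hξ
        refine ⟨ξ, hξ, ?_⟩
        by_contra hcon
        apply hne'
        have h1 := classInner_irr_ne (Λ ξ).2 χ.2 (fun h => hcon (Subtype.ext h).symm)
        rw [hΛv ξ hξ, classInner_smul_left] at h1
        exact (mul_eq_zero.1 h1).resolve_left hε0
    obtain ⟨d, hd⟩ := exists_deg (H.subgroupOf L) hirr
    have hsumd := sum_indAbove_sq (H.subgroupOf L) hirr d hd ⊥
    rw [Subgroup.relIndex_bot_left, hcardK, he] at hsumd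
    have hrel : ∀ ξ ∈ inducedIrrAbove (H.subgroupOf L) ⊥,
        e * charDegree ((Λ ξ : IrrCharacter G) : G → ℂ) =
          d ξ * charDegree ((Λ ξ₁ : IrrCharacter G) : G → ℂ) := by
      intro ξ hξ
      have h1 := iso_degree_prop hirr hτ₁ h0 hξ hξ₁
      have h2 := hdegχ (Λ ξ)
      have h4 := hdegχ (Λ ξ₁)
      rw [hΛv ξ hξ, Pi.smul_apply, smul_eq_mul] at h2
      rw [hΛv ξ₁ hξ₁, Pi.smul_apply, smul_eq_mul] at h4
      rw [hdeg, he, hd ξ hξ] at h1
      have h5 : ((e * charDegree ((Λ ξ : IrrCharacter G) : G → ℂ) : ℕ) : ℂ) =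
          ((d ξ * charDegree ((Λ ξ₁ : IrrCharacter G) : G → ℂ) : ℕ) : ℂ) := by
        push_cast
        rw [hΛv ξ hξ, hΛv ξ₁ hξ₁, ← h2, ← h4]
        calc (e : ℂ) * (ε * τ₁ ξ 1) = ε * ((e : ℂ) * τ₁ ξ 1) := by ring
          _ = ε * ((d ξ : ℂ) * τ₁ ξ₁ 1) := by rw [h1]
          _ = _ := by ring
      exact_mod_cast h5
    have hχ₀t : χ₀ ≠ triv := by
      intro h
      rw [h, hatriv] at ha1
      omega
    obtain ⟨ξ₀, hξ₀, hχξ⟩ := hnotP χ₀ hχ₀ hχ₀t
    have hdξ₀ : e ≤ d ξ₀ := by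
      have h1 := hd _ hξ₀
      obtain ⟨θ, hθ, _, _, rfl⟩ := hξ₀
      obtain ⟨n, hn0, hn⟩ := irr_apply_one hθ
      rw [Helper82.indFun_one, he, hn] at h1
      have h2 : e * n = d (indFun (H.subgroupOf L) θ) := by exact_mod_cast h1
      rw [← h2]
      exact Nat.le_mul_of_pos_right e hn0
    have hℓ : charDegree ((Λ ξ₁ : IrrCharacter G) : G → ℂ) ≤ e := by
      have h1 := hrel ξ₀ hξ₀
      rw [← hχξ, hd0] at h1
      by_contra hlt
      push Not at hlt
      have : e * e < d ξ₀ * charDegree ((Λ ξ₁ : IrrCharacter G) : G → ℂ) := by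
        calc e * e < e * charDegree ((Λ ξ₁ : IrrCharacter G) : G → ℂ) :=
              Nat.mul_lt_mul_of_pos_left hlt (by omega)
          _ ≤ _ := Nat.mul_le_mul_right _ hdξ₀
      omega
    have hsumD : ∑ ξ ∈ indAbove (H.subgroupOf L) ⊥,
        charDegree ((Λ ξ : IrrCharacter G) : G → ℂ) ^ 2 ≤ e * (h - 1) := by
      have h1 : e ^ 2 * ∑ ξ ∈ indAbove (H.subgroupOf L) ⊥,
          charDegree ((Λ ξ : IrrCharacter G) : G → ℂ) ^ 2 =
          charDegree ((Λ ξ₁ : IrrCharacter G) : G → ℂ) ^ 2 *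
            ∑ ξ ∈ indAbove (H.subgroupOf L) ⊥, d ξ ^ 2 := by
        rw [Finset.mul_sum, Finset.mul_sum]
        apply Finset.sum_congr rfl
        intro ξ hξ
        rw [← mul_pow, hrel ξ ((hmemS ξ).1 hξ), mul_pow, mul_comm]
      have h2 : ∑ ξ ∈ indAbove (H.subgroupOf L) ⊥, d ξ ^ 2 = e * (h - 1) := by
        obtain ⟨k, rfl⟩ : ∃ k, h = k + 1 := ⟨h - 1, by omega⟩
        simp only [Nat.add_sub_cancel]
        have : e * (k + 1) = e * k + e := by ring
        omega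
      rw [h2] at h1
      have h4 : e ^ 2 * ∑ ξ ∈ indAbove (H.subgroupOf L) ⊥,
          charDegree ((Λ ξ : IrrCharacter G) : G → ℂ) ^ 2 ≤ e ^ 2 * (e * (h - 1)) := by
        rw [h1]
        exact Nat.mul_le_mul_right _ (Nat.pow_le_pow_left hℓ 2)
      exact Nat.le_of_mul_le_mul_left h4 (by positivity)
    have hsub : X₁ᶜ ⊆ {triv} ∪ (indAbove (H.subgroupOf L) ⊥).image Λ := by
      intro χ hχ
      rw [Finset.mem_compl] at hχ
      rw [Finset.mem_union, Finset.mem_singleton, Finset.mem_image]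
      by_cases h1 : χ = triv
      · left; exact h1
      · right
        obtain ⟨ξ, hξ, h2⟩ := hnotP χ hχ h1
        exact ⟨ξ, (hmemS ξ).2 hξ, h2.symm⟩
    have hinj : Set.InjOn Λ (↑(indAbove (H.subgroupOf L) ⊥) : Set (L → ℂ)) := by
      intro ξ hξ ξ' hξ' heq
      rw [Finset.mem_coe, hmemS] at hξ hξ'
      have h1 := congrArg (fun χ : IrrCharacter G => (χ : G → ℂ)) heq
      simp only [hΛv ξ hξ, hΛv ξ' hξ'] at h1
      apply iso_injOn hirr hτ₁ hξ hξ'
      have h2 := congrArg (fun f => ε⁻¹ • f) h1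
      simpa [smul_smul, inv_mul_cancel₀ hε0] using h2
    calc ∑ χ ∈ X₁ᶜ, charDegree (χ : G → ℂ) ^ 2
        ≤ ∑ χ ∈ {triv} ∪ (indAbove (H.subgroupOf L) ⊥).image Λ, charDegree (χ : G → ℂ) ^ 2 :=
          Finset.sum_le_sum_of_subset hsub
      _ ≤ ∑ χ ∈ {triv}, charDegree (χ : G → ℂ) ^ 2 +
          ∑ χ ∈ (indAbove (H.subgroupOf L) ⊥).image Λ, charDegree (χ : G → ℂ) ^ 2 := by
          rw [← Finset.sum_union_inter]
          exact Nat.le_add_right _ _
      _ = 1 + ∑ ξ ∈ indAbove (H.subgroupOf L) ⊥, charDegree ((Λ ξ : IrrCharacter G) : G → ℂ) ^ 2 := by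
          rw [Finset.sum_singleton, Finset.sum_image hinj]
          congr 1
          have h1 := hdegχ triv
          have h2 : ((triv : IrrCharacter G) : G → ℂ) 1 = 1 := rfl
          rw [h2] at h1
          have h4 : charDegree ((triv : IrrCharacter G) : G → ℂ) = 1 := by exact_mod_cast h1.symm
          rw [h4, one_pow]
      _ ≤ 1 + e * (h - 1) := Nat.add_le_add_left hsumD 1

end Cfsg.Agent.Lib.Helper32
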