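import Mathlib
import Cfsg.Agent.Lib.Helper82.Ortho

set_option autoImplicit false

namespace Cfsg.Agent.Lib.Helper32

section BF
variable {G : Type*} [Group G] [Fintype G] [DecidableEq G]

theorem inv_conj_of_involutions {s t : G} (hs : orderOf s = 2) (ht : orderOf t = 2) :
    s * (s * t) * s⁻¹ = (s * t)⁻¹ := by
  have hs2 : s * s = 1 := by rw [← pow_two, ← hs, pow_orderOf_eq_one]
  have ht2 : t * t = 1 := by rw [← pow_two, ← ht, pow_orderOf_eq_one]
  have hsi : s⁻¹ = s := inv_eq_of_mul_eq_one_left hs2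
  have hti : t⁻¹ = t := inv_eq_of_mul_eq_one_left ht2
  rw [mul_inv_rev, hsi, hti, ← mul_assoc, hs2, one_mul]

/-- the number of ways of writing `g` as a product of two involutions is at most `|C(g)|` -/
theorem card_inv_pairs_le (g : G) :
    (Finset.univ.filter (fun p : G × G => orderOf p.1 = 2 ∧ orderOf p.2 = 2 ∧ p.1 * p.2 = g)).card ≤
      Nat.card (Subgroup.centralizer ({g} : Set G)) := by
  rcases (Finset.univ.filter (fun p : G × G => orderOf p.1 = 2 ∧ orderOf p.2 = 2 ∧
      p.1 * p.2 = g)).eq_empty_or_nonempty with h0 | ⟨p₀, hp₀⟩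
  · rw [h0]; simp
  rw [Finset.mem_filter] at hp₀
  obtain ⟨-, h1, h2, h3⟩ := hp₀
  have hc : Nat.card (Subgroup.centralizer ({g} : Set G)) =
      (Finset.univ.filter (fun z : G => z * g = g * z)).card := by
    apply Nat.subtype_card
    intro z
    simp [Subgroup.mem_centralizer_singleton_iff]
  rw [hc]
  apply Finset.card_le_card_of_injOn (fun p => p₀.1⁻¹ * p.1)
  · intro p hp
    rw [Finset.mem_coe, Finset.mem_filter] at hp
    obtain ⟨-, k1, k2, k3⟩ := hp
    rw [Finset.mem_coe, Finset.mem_filter]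
    refine ⟨Finset.mem_univ _, ?_⟩
    have e1 := inv_conj_of_involutions h1 h2
    have e2 := inv_conj_of_involutions k1 k2
    rw [h3] at e1
    rw [k3] at e2
    have e3 : p.1 * g = g⁻¹ * p.1 := by rw [← e2]; group
    have e4 : p₀.1⁻¹ * g⁻¹ = g * p₀.1⁻¹ := by rw [← e1]; group
    calc p₀.1⁻¹ * p.1 * g = p₀.1⁻¹ * (p.1 * g) := by group
      _ = p₀.1⁻¹ * g⁻¹ * p.1 := by rw [e3]; group
      _ = g * (p₀.1⁻¹ * p.1) := by rw [e4]; group
  · intro p hp q hq hpq
    rw [Finset.mem_coe, Finset.mem_filter] at hp hq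
    have e1 : p.1 = q.1 := mul_left_cancel hpq
    have e2 : p.2 = q.2 := by
      have := hp.2.2.2.trans hq.2.2.2.symm
      rw [e1] at this
      exact mul_left_cancel this
    exact Prod.ext e1 e2

/-- Brauer–Fowler count: at most `|G|` pairs of involutions have product in a given class -/
theorem bf_count (C : ConjClasses G) :
    (Finset.univ.filter (fun p : G × G => orderOf p.1 = 2 ∧ orderOf p.2 = 2 ∧
      ConjClasses.mk (p.1 * p.2) = C)).card ≤ Nat.card G := by
  obtain ⟨g₀, rfl⟩ := ConjClasses.mk_surjective C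
  have h1 : (Finset.univ.filter (fun p : G × G => orderOf p.1 = 2 ∧ orderOf p.2 = 2 ∧
      ConjClasses.mk (p.1 * p.2) = ConjClasses.mk g₀)).card =
      ∑ g ∈ Finset.univ.filter (fun g : G => IsConj g₀ g),
        (Finset.univ.filter (fun p : G × G => orderOf p.1 = 2 ∧ orderOf p.2 = 2 ∧
          p.1 * p.2 = g)).card := by
    rw [Finset.card_eq_sum_card_fiberwise (f := fun p : G × G => p.1 * p.2)
      (t := Finset.univ.filter (fun g : G => IsConj g₀ g))]
    · apply Finset.sum_congr rfl
      intro g hg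
      rw [Finset.mem_filter] at hg
      congr 1
      ext p
      simp only [Finset.mem_filter, Finset.mem_univ, true_and]
      constructor
      · rintro ⟨⟨a1, a2, _⟩, a4⟩
        exact ⟨a1, a2, a4⟩
      · rintro ⟨a1, a2, a4⟩
        refine ⟨⟨a1, a2, ?_⟩, a4⟩
        rw [a4, ConjClasses.mk_eq_mk_iff_isConj]
        exact hg.2.symm
    · intro p hp
      rw [Finset.mem_coe, Finset.mem_filter] at hp
      rw [Finset.mem_coe, Finset.mem_filter]
      exact ⟨Finset.mem_univ _, (ConjClasses.mk_eq_mk_iff_isConj.1 hp.2.2.2).symm⟩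
  rw [h1]
  have h2 : ∀ g ∈ Finset.univ.filter (fun g : G => IsConj g₀ g),
      (Finset.univ.filter (fun p : G × G => orderOf p.1 = 2 ∧ orderOf p.2 = 2 ∧
          p.1 * p.2 = g)).card ≤ Nat.card (Subgroup.centralizer ({g₀} : Set G)) := by
    intro g hg
    rw [Finset.mem_filter] at hg
    refine (card_inv_pairs_le g).trans (le_of_eq ?_)
    have e1 := Helper82.card_conj_mul_card_centralizer g
    have e2 := Helper82.card_conj_mul_card_centralizer g₀
    have e3 : Nat.card {z : G // IsConj g z} = Nat.card {z : G // IsConj g₀ z} := by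
      apply Nat.card_congr
      exact Equiv.subtypeEquivRight (fun z => ⟨fun h => hg.2.trans h, fun h => hg.2.symm.trans h⟩)
    rw [e3, ← e2] at e1
    have hpos : 0 < Nat.card {z : G // IsConj g₀ z} := by
      haveI : Nonempty {z : G // IsConj g₀ z} := ⟨⟨g₀, IsConj.refl _⟩⟩
      exact Nat.card_pos
    exact Nat.eq_of_mul_eq_mul_left hpos e1
  refine (Finset.sum_le_sum h2).trans ?_
  rw [Finset.sum_const, smul_eq_mul, ← Helper82.card_conj_mul_card_centralizer g₀]
  apply Nat.mul_le_mul_right
  apply le_of_eq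
  exact (Nat.subtype_card _ (by intro z; simp)).symm

theorem bf_count_finset (𝒞 : Finset (ConjClasses G)) :
    (Finset.univ.filter (fun p : G × G => orderOf p.1 = 2 ∧ orderOf p.2 = 2 ∧
      ConjClasses.mk (p.1 * p.2) ∈ 𝒞)).card ≤ 𝒞.card * Nat.card G := by
  classical
  rw [Finset.card_eq_sum_card_fiberwise (f := fun p : G × G => ConjClasses.mk (p.1 * p.2)) (t := 𝒞)]
  · rw [← smul_eq_mul, ← Finset.sum_const]
    apply Finset.sum_le_sum
    intro C _
    refine le_trans (Finset.card_le_card ?_) (bf_count C)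
    intro p hp
    simp only [Finset.mem_filter, Finset.mem_univ, true_and] at hp ⊢
    exact ⟨hp.1.1, hp.1.2.1, hp.2⟩
  · intro p hp
    rw [Finset.mem_coe, Finset.mem_filter] at hp
    exact hp.2.2.2

/-- if every non-trivial product of two involutions lies in one of the classes of `𝒞` then
`i² ≤ i + |𝒞| |G|` -/
theorem bf_main (𝒞 : Finset (ConjClasses G))
    (h : ∀ s t : G, orderOf s = 2 → orderOf t = 2 → s * t ≠ 1 → ConjClasses.mk (s * t) ∈ 𝒞) :
    Nat.card {x : G // orderOf x = 2} ^ 2 ≤
      Nat.card {x : G // orderOf x = 2} + 𝒞.card * Nat.card G := by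
  have hI : Nat.card {x : G // orderOf x = 2} = (Finset.univ.filter (fun x : G => orderOf x = 2)).card :=
    Nat.subtype_card _ (by intro x; simp)
  rw [hI, pow_two, ← Finset.card_product]
  have hsub : (Finset.univ.filter (fun x : G => orderOf x = 2)) ×ˢ
      (Finset.univ.filter (fun x : G => orderOf x = 2)) ⊆
      ((Finset.univ.filter (fun x : G => orderOf x = 2)).image (fun s => (s, s⁻¹))) ∪
      (Finset.univ.filter (fun p : G × G => orderOf p.1 = 2 ∧ orderOf p.2 = 2 ∧
      ConjClasses.mk (p.1 * p.2) ∈ 𝒞)) := by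
    intro p hp
    rw [Finset.mem_product, Finset.mem_filter, Finset.mem_filter] at hp
    rw [Finset.mem_union]
    by_cases h1 : p.1 * p.2 = 1
    · left
      rw [Finset.mem_image]
      refine ⟨p.1, by simpa using hp.1.2, ?_⟩
      exact Prod.ext rfl (inv_eq_of_mul_eq_one_right h1)
    · right
      rw [Finset.mem_filter]
      exact ⟨Finset.mem_univ _, hp.1.2, hp.2.2, h _ _ hp.1.2 hp.2.2 h1⟩
  refine (Finset.card_le_card hsub).trans ((Finset.card_union_le _ _).trans ?_)
  exact Nat.add_le_add Finset.card_image_le (bf_count_finset 𝒞)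

end BF

end Cfsg.Agent.Lib.Helper32
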