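import Cfsg.Agent.Lib.Helper32.Zas5
import Cfsg.Agent.Lib.Helper32.Feit6
import Cfsg.Agent.Lib.Helper54.ZassCount
import Cfsg.Agent.Lib.Helper82.CharKer
import Cfsg.Agent.S0878
import Cfsg.Agent.S0884
import Cfsg.Agent.S1534

set_option autoImplicit false
open Cfsg

namespace Cfsg.Agent.Lib.Helper32

open Cfsg.Agent.Lib Cfsg.Agent.Lib.Helper4
open scoped ComplexConjugate commutatorElement

section
variable {G Ω : Type*} [Group G] [Finite G] [MulAction G Ω] [Fintype Ω]

/-- an element fixing exactly the point `a` lies in the kernel `H` -/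
theorem zass_mem_H (hZ : Cfsg.IsZassenhausGroup G Ω) {a b : Ω} (hab : a ≠ b)
    (H : Subgroup G) (hHa : H ≤ MulAction.stabilizer G a)
    (hHcard : Nat.card H + 1 = Fintype.card Ω)
    (hHfix : ∀ u ∈ H, u ≠ 1 → ∀ c : Ω, u • c = c → c = a)
    (z : G) (hza : z • a = a) (hz : ∀ c : Ω, z • c = c → c = a) : z ∈ H := by
  classical
  have hcard := Helper54.Zass.card_fixOnly (G := G) hZ.2.1 hZ.2.2.1 hab
  let f : {u : H // u ≠ 1} → {g : G // g • a = a ∧ ∀ c : Ω, g • c = c → c = a} :=
    fun u => ⟨u.1.1, hHa u.1.2, hHfix u.1.1 u.1.2 (fun h => u.2 (Subtype.ext h))⟩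
  have hf : Function.Injective f := by
    intro u v huv
    apply Subtype.ext
    apply Subtype.ext
    exact congrArg (fun x => x.1) huv
  have hc1 : Nat.card {u : H // u ≠ 1} = Nat.card H - 1 := by
    haveI := Fintype.ofFinite H
    rw [Nat.card_eq_fintype_card, Nat.card_eq_fintype_card, Fintype.card_subtype_compl]
    simp
  have hbij := hf.bijective_of_nat_card_le (by rw [hcard, hc1]; omega)
  obtain ⟨u, hu⟩ := hbij.2 ⟨z, hza, hz⟩
  have : (u.1 : G) = z := congrArg (fun x => x.1) hu
  rw [← this]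
  exact u.1.2

theorem zass_centralizer (hZ : Cfsg.IsZassenhausGroup G Ω) {a b : Ω} (hab : a ≠ b)
    (H : Subgroup G) (hHa : H ≤ MulAction.stabilizer G a)
    (hHcard : Nat.card H + 1 = Fintype.card Ω)
    (hHfix : ∀ u ∈ H, u ≠ 1 → ∀ c : Ω, u • c = c → c = a) :
    ∀ k ∈ H, k ≠ 1 → Subgroup.centralizer ({k} : Set G) ≤ H := by
  intro k hk hk1 x hx
  rw [Subgroup.mem_centralizer_singleton_iff] at hx
  have hka : k • a = a := hHa hk
  have hxa : x • a = a := by
    apply hHfix k hk hk1
    rw [← mul_smul, ← hx, mul_smul, hka]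
  by_cases hx1 : x = 1
  · rw [hx1]; exact H.one_mem
  apply zass_mem_H hZ hab H hHa hHcard hHfix x hxa
  intro c hc
  by_contra hca
  apply hx1
  have h1 : k • c ≠ c := fun h => hca (hHfix k hk hk1 c h)
  have h2 : k • c ≠ a := by
    intro h
    apply hca
    have : k • c = k • a := by rw [h, hka]
    exact smul_left_cancel k this
  apply hZ.2.2.1 x a c (k • c) (Ne.symm hca) (Ne.symm h1) (Ne.symm h2) hxa hc
  rw [← mul_smul, hx, mul_smul, hc]

end

theorem irr_eq_one_of_const {G : Type*} [Group G] [Fintype G] (χ : G → ℂ)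
    (hχ : IsIrrCharacter G χ) (hc : ∀ g, χ g = χ 1) : χ = fun _ => 1 := by
  by_contra hne
  have h0 := classInner_irr_ne hχ Helper83.isIrr_trivial hne
  rw [classInner] at h0
  have h1 : ∑ g : G, χ g * conj ((fun _ : G => (1 : ℂ)) g) = (Nat.card G : ℂ) * χ 1 := by
    simp only [map_one, mul_one]
    rw [Finset.sum_congr rfl (fun g _ => hc g)]
    simp [Nat.card_eq_fintype_card]
  rw [h1] at h0
  have hG : (Nat.card G : ℂ) ≠ 0 := by
    have : 0 < Nat.card G := Nat.card_pos
    exact_mod_cast this.ne'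
  rw [← mul_assoc, inv_mul_cancel₀ hG, one_mul] at h0
  exact Helper82.isIrr_one_ne_zero hχ h0

theorem commutator_subgroupOf_self {G : Type*} [Group G] (H : Subgroup G) :
    (⁅H, H⁆ : Subgroup G).subgroupOf H = commutator H := by
  rw [← Subgroup.map_subtype_commutator, Subgroup.subgroupOf,
    Subgroup.comap_map_eq_self_of_injective H.subtype_injective]

theorem zass_main_simple {G Ω : Type*} [Group G] [Finite G] [MulAction G Ω] [Fintype Ω]
    (hZ : Cfsg.IsZassenhausGroup G Ω) [IsSimpleGroup G] {a b : Ω} (hab : a ≠ b) (h e : ℕ)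
    (hh : Fintype.card Ω = h + 1)
    (he : Nat.card ↥(MulAction.stabilizer G a ⊓ MulAction.stabilizer G b : Subgroup G) = e)
    (hodd : Odd e) (H : Subgroup G) (hHa : H ≤ MulAction.stabilizer G a)
    (hHcard : Nat.card H + 1 = Fintype.card Ω)
    (hHfix : ∀ u ∈ H, u ≠ 1 → ∀ c : Ω, u • c = c → c = a) :
    h - 1 ≤ 2 * e ∨ (IsPGroup 2 H ∧ (∃ u v : H, u * v ≠ v * u) ∧
      (commutator H).index ≤ 4 * e ^ 2 + 1) := by
  classical
  haveI := Fintype.ofFinite G
  obtain ⟨hTI, hN⟩ := Cfsg.Agent.S0878.result hZ a H hHa hHcard hHfix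
  have hC := zass_centralizer hZ hab H hHa hHcard hHfix
  have he1 : 1 < e := he ▸ Cfsg.Agent.S0884.one_lt_e hZ hab
  have hcH : Nat.card H = h := by omega
  have hcL : Nat.card (MulAction.stabilizer G a) = h * e := by
    rw [Helper54.Zass.card_stab hZ.2.1 hab, hh, he]
    simp
  have hcG : Nat.card G = (h + 1) * h * e := by
    rw [Helper54.Zass.card_group hZ.2.1 hab, hh, he]
    simp
  have hHa0 := hHa
  generalize MulAction.stabilizer G a = L at hTI hN hcL hHa
  haveI : Fintype L := Fintype.ofFinite L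
  by_contra hcon
  push Not at hcon
  obtain ⟨hlt2, hcon⟩ := hcon
  have hK1 : H ≠ ⊥ := by
    intro hb
    rw [hb] at hcH
    simp at hcH
    omega
  have hlt : H < L := by
    refine lt_of_le_of_ne hHa ?_
    intro hEq
    rw [← hEq, hcH] at hcL
    have : h * 1 < h * e := Nat.mul_lt_mul_of_pos_left he1 (by omega)
    omega
  haveI hKn : (H.subgroupOf L).Normal :=
    ⟨fun k hk x => (Subgroup.mem_normalizer_iff.1
      (hN ▸ x.2 : (x : G) ∈ Subgroup.normalizer (H : Set G)) k).1 hk⟩
  have hC' := ti_centralizer H L hC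
  have hcardK : Nat.card (H.subgroupOf L) = Nat.card H :=
    Nat.card_congr (Subgroup.subgroupOfEquivOfLe hHa).toEquiv
  have hK1' : H.subgroupOf L ≠ ⊥ := by
    intro hb
    rw [hb, Subgroup.card_bot, hcH] at hcardK
    omega
  have hK2' : H.subgroupOf L ≠ ⊤ := by
    rw [Ne, Subgroup.subgroupOf_eq_top]
    exact not_le_of_gt hlt
  have hnil' := frob_kernel_nilpotent (H.subgroupOf L) hK1' hK2' hC'
  have hnil : Group.IsNilpotent H :=
    Group.nilpotent_of_mulEquiv (Subgroup.subgroupOfEquivOfLe hHa)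
  have hidx : (H.subgroupOf L).index = e := by
    have h1 := (H.subgroupOf L).card_mul_index
    rw [hcardK, hcH, hcL] at h1
    exact Nat.eq_of_mul_eq_mul_left (by omega) h1
  have hTI' : IsTISubset (H : Set G) := fun g hg => hTI g (by rw [← hN]; exact hg)
  have hiso := ind_isometry L H hHa hTI' hN
  have hset := ti_set_eq H L hC
  have hcoh : IsCoherent (inducedIrrAbove (H.subgroupOf L) ⊥) {1}ᶜ
      (fun α : L → ℂ => indFun L α) := by
    by_cases hab' : ∀ a ∈ H.subgroupOf L, ∀ b ∈ H.subgroupOf L, a * b = b * a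
    · rw [hset] at hiso ⊢
      rcases frob_abelian_case _ hC' hab' hK1' (fun α => Cfsg.indFun L α)
        hiso (ind_map_one _ _) with ⟨_, h3, _⟩ | hcoh
      · exfalso
        rw [hcardK, hcH, hidx] at h3
        omega
      · exact hcoh
    · rw [hset]
      rcases Cfsg.Agent.S1534.main H L hN hK1 hnil hTI' hlt hC with ⟨_, h1, _⟩ | ⟨h1, h2⟩ | hc
      · exfalso
        rw [hcH, hidx] at h1
        omega
      · exfalso
        have hp : IsPGroup 2 H := IsPGroup.of_card h1
        have hna : ∃ u v : H, u * v ≠ v * u := by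
          by_contra hall
          push Not at hall
          apply hab'
          intro x hx y hy
          have := congrArg (fun z : H => (z : G)) (hall ⟨x, hx⟩ ⟨y, hy⟩)
          exact Subtype.ext this
        have := hcon hp hna
        rw [commutator_subgroupOf_self, hidx] at h2
        omega
      · exact hc
  have h3 : 3 * e ≤ h - 1 := by
    have hd := frob_index_dvd (H.subgroupOf L) hC'
    rw [hidx, hcardK, hcH] at hd
    obtain ⟨k, hk⟩ := hd
    rw [hk] at hlt2 ⊢
    have : 2 < k := by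
      by_contra hk2
      have : k ≤ 2 := by omega
      have : e * k ≤ e * 2 := Nat.mul_le_mul_left e this
      omega
    have : e * 3 ≤ e * k := Nat.mul_le_mul_left e this
    omega
  have hfaith : ∀ χ : G → ℂ, IsIrrCharacter G χ → (∀ u ∈ H, χ u = χ 1) → χ = fun _ => 1 := by
    intro χ hχ hu
    apply irr_eq_one_of_const χ hχ
    have hle : H ≤ Helper82.charKer χ (Helper82.isIrr_isChar hχ) := fun u hu' => hu u hu'
    rcases (Helper82.charKer_normal χ (Helper82.isIrr_isChar hχ)).eq_bot_or_eq_top with hb | ht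
    · exfalso
      apply hK1
      rw [eq_bot_iff, ← hb]
      exact hle
    · intro g
      have : g ∈ Helper82.charKer χ (Helper82.isIrr_isChar hχ) := by rw [ht]; trivial
      exact this
  have hcl := Cfsg.Agent.S0884.result hZ hab h e hh he hodd hlt2 H hHa0 hHcard hHfix
  exact feit_zass_abstract H L hHa hC' hTI (IsNilpotent.to_isSolvable) h e hcH hidx hcG h3 he1 hcoh
    hfaith hcl

end Cfsg.Agent.Lib.Helper32
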